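import Mathlib
import Cfsg.Agent.LieRecognition.CoxClass
import Cfsg.Agent.Prune
set_option linter.all false
prune_inst 0x7f00000000000000000000000000000000000000000000000000000000000000000000000000000000000000000000000000000000000000000000000000000000000000000000000000000000000000003fffffffffffffffffffffffffffbeffbdffffffff
open scoped Cfsg.Agent.FastGrp

/-!
# Symmetries of order prime to six of the diagrams of finite irreducible Coxeter groups
-/

set_option autoImplicit false
set_option linter.all false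

namespace Cfsg.Agent.H580.Graph

open Cfsg.Agent.LieRecognition.CoxClass

/-- A permutation of order prime to 6 fixes invariant sets of at most four points pointwise. -/
theorem fix_of_card_le {B : Type*} {σ : Equiv.Perm B} {k : ℕ} (hk : Nat.Coprime k 6) (hσ : σ ^ k = 1)
    (S : Finset B) (hS : ∀ x ∈ S, σ x ∈ S) (hc : S.card ≤ 4) {x : B} (hx : x ∈ S) : σ x = x := by
  set d := Function.minimalPeriod σ x with hd
  have h1 : Function.IsPeriodicPt σ k x := by
    change σ^[k] x = x
    rw [Equiv.Perm.iterate_eq_pow, hσ]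
    rfl
  have h2 : d ∣ k := h1.minimalPeriod_dvd
  have h3 : d ≤ 4 := by
    have h4 : Set.InjOn (fun i : ℕ => σ^[i] x) (Set.Iio d) := Function.iterate_injOn_Iio_minimalPeriod
    have h5 : (Finset.range d).card ≤ S.card := by
      apply Finset.card_le_card_of_injOn (fun i : ℕ => σ^[i] x)
      · intro i _
        have h6 : ∀ i : ℕ, σ^[i] x ∈ S := by
          intro i
          induction i with
          | zero => exact hx
          | succ i ih => rw [Function.iterate_succ_apply']; exact hS _ ih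
        exact h6 i
      · intro i hi j hj h
        exact h4 (by simpa using hi) (by simpa using hj) h
    rw [Finset.card_range] at h5
    omega
  have h6 : Nat.Coprime d 6 := Nat.Coprime.coprime_dvd_left h2 hk
  have h7 : d = 1 := by
    interval_cases d
    · exact absurd h6 (by decide)
    · rfl
    · exact absurd h6 (by decide)
    · exact absurd h6 (by decide)
    · exact absurd h6 (by decide)
  exact Function.minimalPeriod_eq_one_iff_isFixedPt.mp h7

variable {B : Type*} [Fintype B] [DecidableEq B]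

/-- adjacency -/
def Adj (M : CoxeterMatrix B) (x y : B) : Prop := x ≠ y ∧ M x y ≠ 2

/-- rigidity from a small invariant set and small degrees -/
theorem rigid {M : CoxeterMatrix B} (hconn : ∀ J : Set B, J.Nonempty → Jᶜ.Nonempty → ∃ a ∈ J, ∃ b ∈ Jᶜ, M a b ≠ 2)
    {σ : Equiv.Perm B} (hσ : ∀ i j, Adj M (σ i) (σ j) ↔ Adj M i j) {k : ℕ} (hk : Nat.Coprime k 6) (hσk : σ ^ k = 1)
    (L : Finset B) (hL : L.Nonempty) (hLσ : ∀ x ∈ L, σ x ∈ L) (hL4 : L.card ≤ 4)
    (hdeg : ∀ x, ∃ N : Finset B, N.card ≤ 4 ∧ ∀ y, Adj M x y → y ∈ N) : σ = 1 := by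
  classical
  have key : ∀ x, σ x = x := by
    by_contra hcon
    push Not at hcon
    obtain ⟨x₀, hx₀⟩ := hcon
    obtain ⟨y₀, hy₀⟩ := hL
    obtain ⟨a, ha, b, hb, hab⟩ := hconn {x | σ x = x} ⟨y₀, fix_of_card_le hk hσk L hLσ hL4 hy₀⟩ ⟨x₀, hx₀⟩
    apply hb
    have hne : a ≠ b := by
      rintro rfl
      exact hb ha
    obtain ⟨N, hN, hN'⟩ := hdeg a
    have h1 : (Finset.univ.filter fun y => Adj M a y).card ≤ 4 :=
      (Finset.card_le_card (fun y hy => hN' y (Finset.mem_filter.mp hy).2)).trans hN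
    refine fix_of_card_le hk hσk (Finset.univ.filter fun y => Adj M a y) ?_ h1 ?_
    · intro y hy
      rw [Finset.mem_filter] at hy ⊢
      refine ⟨Finset.mem_univ _, ?_⟩
      have h2 := (hσ a y).mpr hy.2
      have h3 : σ a = a := ha
      rwa [h3] at h2
    · exact Finset.mem_filter.mpr ⟨Finset.mem_univ _, hne, hab⟩
  ext x
  exact key x

/-- the properties of the standard matrices which are used -/
structure Good (n : ℕ) (m : ℕ → ℕ → ℕ) : Prop where
  h0 : ∀ j, j < n → j ≠ 0 → m 0 j ≠ 2 → j = 1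
  hmid : ∀ i, 1 ≤ i → i + 3 ≤ n → m i (i - 1) ≠ 2 ∧ m i (i + 1) ≠ 2
  hdeg : ∀ i j, i + 1 < n → j < n → i ≠ j → m i j ≠ 2 → j + 1 = i ∨ j = i + 1 ∨ j + 1 = n
  hlast : ∀ j, j + 1 < n → m (n - 1) j ≠ 2 → j + 2 = n ∨ j + 3 = n ∨ j = 2

theorem good_A {n : ℕ} (hn : 3 ≤ n) : Good n mA := by
  constructor
  · intro j h1 h2 h3
    unfold mA at h3
    split_ifs at h3 <;> first | omega | contradiction | (simp only [or_false, false_or, and_false, false_and] at *; omega) | exact absurd rfl h3 | simp_all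
  · intro i h1 h2
    unfold mA
    constructor <;> split_ifs <;> omega
  · intro i j h1 h2 h3 h4
    unfold mA at h4
    split_ifs at h4 <;> omega
  · intro j h1 h2
    unfold mA at h2
    split_ifs at h2 <;> omega

theorem good_C {n : ℕ} (hn : 3 ≤ n) : Good n (mC n) := by
  constructor
  · intro j h1 h2 h3
    unfold mC at h3
    split_ifs at h3 <;> first | omega | contradiction | (simp only [or_false, false_or, and_false, false_and] at *; omega) | exact absurd rfl h3 | simp_all
  · intro i h1 h2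
    unfold mC
    constructor <;> split_ifs <;> omega
  · intro i j h1 h2 h3 h4
    unfold mC at h4
    split_ifs at h4 <;> omega
  · intro j h1 h2
    unfold mC at h2
    split_ifs at h2 <;> omega

theorem good_D {n : ℕ} (hn : 4 ≤ n) : Good n (mD n) := by
  constructor
  · intro j h1 h2 h3
    unfold mD at h3
    split_ifs at h3 <;> first | omega | contradiction | (simp only [or_false, false_or, and_false, false_and] at *; omega) | exact absurd rfl h3 | simp_all
  · intro i h1 h2
    unfold mD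
    constructor <;> split_ifs <;> omega
  · intro i j h1 h2 h3 h4
    unfold mD at h4
    split_ifs at h4 <;> omega
  · intro j h1 h2
    unfold mD at h2
    split_ifs at h2 <;> omega

theorem good_E {n : ℕ} (hn : 4 ≤ n) : Good n (mE n) := by
  constructor
  · intro j h1 h2 h3
    unfold mE at h3
    split_ifs at h3 <;> first | omega | contradiction | (simp only [or_false, false_or, and_false, false_and] at *; omega) | exact absurd rfl h3 | simp_all
  · intro i h1 h2
    unfold mE
    constructor <;> split_ifs <;> omega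
  · intro i j h1 h2 h3 h4
    unfold mE at h4
    split_ifs at h4 <;> omega
  · intro j h1 h2
    unfold mE at h2
    split_ifs at h2 <;> omega

theorem good_F : Good 4 mF := by
  constructor
  · intro j h1 h2 h3
    unfold mF at h3
    split_ifs at h3 <;> first | omega | contradiction | (simp only [or_false, false_or, and_false, false_and] at *; omega) | exact absurd rfl h3 | simp_all
  · intro i h1 h2
    unfold mF
    constructor <;> split_ifs <;> omega
  · intro i j h1 h2 h3 h4
    unfold mF at h4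
    split_ifs at h4 <;> omega
  · intro j h1 h2
    unfold mF at h2
    split_ifs at h2 <;> omega

theorem rigid_of_lab {M : CoxeterMatrix B}
    (hconn : ∀ J : Set B, J.Nonempty → Jᶜ.Nonempty → ∃ a ∈ J, ∃ b ∈ Jᶜ, M a b ≠ 2)
    {σ : Equiv.Perm B} (hσ : ∀ i j, Adj M (σ i) (σ j) ↔ Adj M i j) {k : ℕ} (hk : Nat.Coprime k 6) (hσk : σ ^ k = 1)
    {n : ℕ} (hn : 3 ≤ n) {m : ℕ → ℕ → ℕ} (v : Fin n ≃ B) (hv : Lab M v m) (hm : Good n m) : σ = 1 := by
  classical
  have hadj : ∀ i j : Fin n, Adj M (v i) (v j) ↔ i ≠ j ∧ m i j ≠ 2 := by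
    intro i j
    unfold Adj
    rw [hv i j, Ne, v.injective.eq_iff]
  -- leaves
  let w : ℕ → B := fun j => if h : j < n then v ⟨j, h⟩ else v ⟨0, by omega⟩
  have hw : ∀ (j : ℕ) (h : j < n), w j = v ⟨j, h⟩ := fun j h => dif_pos h
  refine rigid hconn hσ hk hσk (Finset.univ.filter fun x => ∀ y z, Adj M x y → Adj M x z → y = z) ?_ ?_ ?_ ?_
  · refine ⟨v ⟨0, by omega⟩, ?_⟩
    rw [Finset.mem_filter]
    refine ⟨Finset.mem_univ _, ?_⟩
    have h1 : ∀ y, Adj M (v ⟨0, by omega⟩) y → y = v ⟨1, by omega⟩ := by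
      intro y hy
      obtain ⟨j, rfl⟩ := v.surjective y
      rw [hadj] at hy
      have h2 := hm.h0 j j.2 (fun h => hy.1 (Fin.ext h.symm)) hy.2
      congr 1
      exact Fin.ext h2
    intro y z hy hz
    rw [h1 y hy, h1 z hz]
  · intro x hx
    rw [Finset.mem_filter] at hx ⊢
    refine ⟨Finset.mem_univ _, fun y z hy hz => ?_⟩
    obtain ⟨y, rfl⟩ := σ.surjective y
    obtain ⟨z, rfl⟩ := σ.surjective z
    rw [hx.2 y z ((hσ x y).mp hy) ((hσ x z).mp hz)]
  · have h1 : (Finset.univ.filter fun x => ∀ y z, Adj M x y → Adj M x z → y = z) ⊆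
        ({0, n - 2, n - 1} : Finset ℕ).image w := by
      intro x hx
      rw [Finset.mem_filter] at hx
      obtain ⟨i, rfl⟩ := v.surjective x
      by_cases h2 : 1 ≤ (i : ℕ) ∧ (i : ℕ) + 3 ≤ n
      · exfalso
        obtain ⟨h3, h4⟩ := hm.hmid i h2.1 h2.2
        have h5 := hx.2 (v ⟨(i : ℕ) - 1, by omega⟩) (v ⟨(i : ℕ) + 1, by omega⟩)
          ((hadj _ _).mpr ⟨fun h => by
            have h7 : (i : ℕ) = (i : ℕ) - 1 := congrArg Fin.val h
            omega, h3⟩)
          ((hadj _ _).mpr ⟨fun h => by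
            have h7 : (i : ℕ) = (i : ℕ) + 1 := congrArg Fin.val h
            omega, h4⟩)
        have h6 : (i : ℕ) - 1 = (i : ℕ) + 1 := congrArg Fin.val (v.injective h5)
        omega
      · rw [Finset.mem_image]
        have h3 := i.2
        refine ⟨i, ?_, by rw [hw i i.2]⟩
        simp only [Finset.mem_insert, Finset.mem_singleton]
        omega
    exact (Finset.card_le_card h1).trans (Finset.card_image_le.trans (Finset.card_le_three.trans (by norm_num)))
  · intro x
    obtain ⟨i, rfl⟩ := v.surjective x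
    by_cases h2 : (i : ℕ) + 1 < n
    · refine ⟨({(i : ℕ) - 1, (i : ℕ) + 1, n - 1} : Finset ℕ).image w,
        Finset.card_image_le.trans (Finset.card_le_three.trans (by norm_num)), ?_⟩
      intro y hy
      obtain ⟨j, rfl⟩ := v.surjective y
      rw [hadj] at hy
      have h3 := hm.hdeg i j h2 j.2 (fun h => hy.1 (Fin.ext h)) hy.2
      rw [Finset.mem_image]
      refine ⟨j, ?_, by rw [hw j j.2]⟩
      simp only [Finset.mem_insert, Finset.mem_singleton]
      omega
    · refine ⟨({n - 2, n - 3, 2} : Finset ℕ).image w,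
        Finset.card_image_le.trans (Finset.card_le_three.trans (by norm_num)), ?_⟩
      intro y hy
      obtain ⟨j, rfl⟩ := v.surjective y
      rw [hadj] at hy
      have h4 : (i : ℕ) = n - 1 := by have := i.2; omega
      have h5 : (j : ℕ) + 1 < n := by
        have h6 : (i : ℕ) ≠ j := fun h => hy.1 (Fin.ext h)
        have := j.2
        omega
      have h3 := hm.hlast j h5 (h4 ▸ hy.2)
      rw [Finset.mem_image]
      refine ⟨j, ?_, by rw [hw j j.2]⟩
      simp only [Finset.mem_insert, Finset.mem_singleton]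
      omega

/-- **Diagram symmetries of order prime to 6 are trivial.** -/
theorem eq_one {M : CoxeterMatrix B} {W : Type*} [Group W] [Finite W] (cs : CoxeterSystem M W)
    (h5 : ∀ a b : B, M a b ≠ 5)
    (hconn : ∀ J : Set B, J.Nonempty → Jᶜ.Nonempty → ∃ a ∈ J, ∃ b ∈ Jᶜ, M a b ≠ 2)
    (h3 : 3 ≤ Fintype.card B) {σ : Equiv.Perm B} (hσ : ∀ i j, Adj M (σ i) (σ j) ↔ Adj M i j) {k : ℕ}
    (hk : Nat.Coprime k 6) (hσk : σ ^ k = 1) : σ = 1 := by
  rcases classify_coxeter cs h5 hconn h3 with ⟨n, v, hn, hv⟩ | ⟨n, v, hn, hv⟩ | ⟨n, v, hn, hv⟩ | ⟨v, hv⟩ | ⟨v, hv⟩ |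
    ⟨v, hv⟩ | ⟨v, hv⟩
  · exact rigid_of_lab hconn hσ hk hσk hn v hv (good_A hn)
  · exact rigid_of_lab hconn hσ hk hσk hn v hv (good_C hn)
  · exact rigid_of_lab hconn hσ hk hσk (by omega) v hv (good_D hn)
  · exact rigid_of_lab hconn hσ hk hσk (by omega) v hv (good_E (by omega))
  · exact rigid_of_lab hconn hσ hk hσk (by omega) v hv (good_E (by omega))
  · exact rigid_of_lab hconn hσ hk hσk (by omega) v hv (good_E (by omega))
  · exact rigid_of_lab hconn hσ hk hσk (by omega) v hv good_F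

/-- There is a simple bond. -/
theorem exists_three {M : CoxeterMatrix B} {W : Type*} [Group W] [Finite W] (cs : CoxeterSystem M W)
    (h5 : ∀ a b : B, M a b ≠ 5)
    (hconn : ∀ J : Set B, J.Nonempty → Jᶜ.Nonempty → ∃ a ∈ J, ∃ b ∈ Jᶜ, M a b ≠ 2)
    (h3 : 3 ≤ Fintype.card B) : ∃ a b, M a b = 3 := by
  rcases classify_coxeter cs h5 hconn h3 with ⟨n, v, hn, hv⟩ | ⟨n, v, hn, hv⟩ | ⟨n, v, hn, hv⟩ | ⟨v, hv⟩ | ⟨v, hv⟩ |
    ⟨v, hv⟩ | ⟨v, hv⟩
  · refine ⟨v ⟨0, by omega⟩, v ⟨1, by omega⟩, ?_⟩
    rw [hv]; unfold mA; simp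
  · refine ⟨v ⟨0, by omega⟩, v ⟨1, by omega⟩, ?_⟩
    rw [hv]
    have : mC n 0 1 = 3 := by unfold mC; simp; omega
    exact this
  · refine ⟨v ⟨0, by omega⟩, v ⟨1, by omega⟩, ?_⟩
    rw [hv]
    have : mD n 0 1 = 3 := by unfold mD; simp; omega
    exact this
  · exact ⟨v ⟨0, by omega⟩, v ⟨1, by omega⟩, by rw [hv]; rfl⟩
  · exact ⟨v ⟨0, by omega⟩, v ⟨1, by omega⟩, by rw [hv]; rfl⟩
  · exact ⟨v ⟨0, by omega⟩, v ⟨1, by omega⟩, by rw [hv]; rfl⟩
  · exact ⟨v ⟨0, by omega⟩, v ⟨1, by omega⟩, by rw [hv]; rfl⟩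

end Cfsg.Agent.H580.Graph
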