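import Mathlib
import Cfsg.Agent.S0022
import Cfsg.Agent.S0023
import Cfsg.Agent.S0024
import Cfsg.Agent.S0025
set_option linter.all false

/-!
# Coprime action, external form

`A` acts on the finite group `G` by automorphisms (`MulDistribMulAction A G`), the orders are coprime, and one of
the two groups is solvable.

* `exists_invariant_sylow`: there is an `A`-invariant Sylow `p`-subgroup;
* `invariant_sylow_conj`: two of them are conjugate under a fixed point of `A`;
* `exists_invariant_sylow_ge`: an `A`-invariant `p`-subgroup lies in an `A`-invariant Sylow `p`-subgroup;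
* `exists_fixed_of_mod`: fixed points of `G/N` lift to fixed points of `G`;
* `exists_fixed_point`, `fixed_points_conj`: Glauberman's lemma.
-/

set_option autoImplicit false
open scoped Pointwise

namespace Cfsg.Agent.H580.Cop

variable {A G : Type*} [Group A] [Group G] [MulDistribMulAction A G]

/-- The semidirect product. -/
abbrev SD (A G : Type*) [Group A] [Group G] [MulDistribMulAction A G] : Type _ :=
  G ⋊[MulDistribMulAction.toMulAut A G] A

/-- the copy of `A` -/
def rA (A G : Type*) [Group A] [Group G] [MulDistribMulAction A G] : Subgroup (SD A G) :=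
  (SemidirectProduct.inr : A →* SD A G).range

/-- the copy of `G` -/
def rG (A G : Type*) [Group A] [Group G] [MulDistribMulAction A G] : Subgroup (SD A G) :=
  (SemidirectProduct.inl : G →* SD A G).range

theorem conj_inl (a : A) (g : G) : (SemidirectProduct.inr a : SD A G) * SemidirectProduct.inl g *
    (SemidirectProduct.inr a)⁻¹ = SemidirectProduct.inl (a • g) := by
  rw [← map_inv, ← SemidirectProduct.inl_aut]
  rfl

theorem finiteSD (A G : Type*) [Group A] [Group G] [MulDistribMulAction A G] [Finite A] [Finite G] :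
    Finite (SD A G) := by
  refine Finite.of_injective (fun x : SD A G => (x.left, x.right)) ?_
  intro x y h
  simp only [Prod.mk.injEq] at h
  exact SemidirectProduct.ext h.1 h.2

/-- `G` and its copy -/
noncomputable def eG (A G : Type*) [Group A] [Group G] [MulDistribMulAction A G] : G ≃* rG A G :=
  MonoidHom.ofInjective (f := (SemidirectProduct.inl : G →* SD A G)) SemidirectProduct.inl_injective

/-- `A` and its copy -/
noncomputable def eA (A G : Type*) [Group A] [Group G] [MulDistribMulAction A G] : A ≃* rA A G :=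
  MonoidHom.ofInjective (f := (SemidirectProduct.inr : A →* SD A G)) SemidirectProduct.inr_injective

@[simp] theorem coe_eG (g : G) : ((eG A G g : rG A G) : SD A G) = SemidirectProduct.inl g := rfl

@[simp] theorem coe_eA (a : A) : ((eA A G a : rA A G) : SD A G) = SemidirectProduct.inr a := rfl

theorem rA_le_normalizer_map {H : Subgroup G} :
    rA A G ≤ Subgroup.normalizer ((H.map (SemidirectProduct.inl : G →* SD A G) : Subgroup (SD A G)) : Set (SD A G)) ↔
      ∀ a : A, ∀ x ∈ H, a • x ∈ H := by
  constructor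
  · intro h a x hx
    have h1 : (SemidirectProduct.inr a : SD A G) ∈ rA A G := ⟨a, rfl⟩
    have h2 := (Subgroup.mem_normalizer_iff.mp (h h1) (SemidirectProduct.inl x)).mp ⟨x, hx, rfl⟩
    rw [conj_inl] at h2
    obtain ⟨y, hy, hyx⟩ := h2
    have := SemidirectProduct.inl_injective hyx
    rwa [← this]
  · rintro h _ ⟨a, rfl⟩
    rw [Subgroup.mem_normalizer_iff]
    intro y
    constructor
    · rintro ⟨x, hx, rfl⟩
      rw [conj_inl]
      exact ⟨a • x, h a x hx, rfl⟩
    · rintro ⟨x, hx, hxy⟩
      have h3 : y = (SemidirectProduct.inr a⁻¹ : SD A G) * SemidirectProduct.inl x *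
          (SemidirectProduct.inr a⁻¹)⁻¹ := by
        rw [hxy, map_inv]; group
      rw [h3, conj_inl]
      exact ⟨a⁻¹ • x, h _ x hx, rfl⟩

theorem rA_le_normalizer_rG : rA A G ≤ Subgroup.normalizer (rG A G : Set (SD A G)) := by
  have h := (rA_le_normalizer_map (A := A) (H := (⊤ : Subgroup G))).mpr (fun a x _ => Subgroup.mem_top _)
  have e : (⊤ : Subgroup G).map (SemidirectProduct.inl : G →* SD A G) = rG A G := by
    rw [rG, MonoidHom.range_eq_map]
  rwa [e] at h

theorem card_rA : Nat.card (rA A G) = Nat.card A := (Nat.card_congr (eA A G).toEquiv).symm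
theorem card_rG : Nat.card (rG A G) = Nat.card G := (Nat.card_congr (eG A G).toEquiv).symm

theorem solv_iff (h : Group.IsSolvable A ∨ Group.IsSolvable G) :
    Group.IsSolvable (rA A G) ∨ Group.IsSolvable (rG A G) := by
  rcases h with h | h
  · left
    have := h
    exact Group.isSolvable_of_surjective (f := (eA A G).toMonoidHom) (eA A G).surjective
  · right
    have := h
    exact Group.isSolvable_of_surjective (f := (eG A G).toMonoidHom) (eG A G).surjective

section
variable [Finite A] [Finite G]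

/-- **An invariant Sylow subgroup.** -/
theorem exists_invariant_sylow (hcop : (Nat.card A).Coprime (Nat.card G))
    (hsol : Group.IsSolvable A ∨ Group.IsSolvable G) (p : ℕ) [Fact p.Prime] :
    ∃ P : Sylow p G, ∀ a : A, ∀ x ∈ (P : Subgroup G), a • x ∈ (P : Subgroup G) := by
  have := finiteSD A G
  obtain ⟨P, hP⟩ := Cfsg.Agent.S0023.result (rA A G) (rG A G) rA_le_normalizer_rG
    (by rw [card_rA, card_rG]; exact hcop) (solv_iff hsol) p
  have e : (((P : Subgroup (rG A G)).comap (eG A G).toMonoidHom).map (SemidirectProduct.inl : G →* SD A G)) =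
      (P : Subgroup (rG A G)).map (rG A G).subtype := by
    ext x
    constructor
    · rintro ⟨y, hy, rfl⟩
      exact ⟨eG A G y, hy, rfl⟩
    · rintro ⟨y, hy, rfl⟩
      refine ⟨(eG A G).symm y, ?_, ?_⟩
      · change (eG A G) ((eG A G).symm y) ∈ (P : Subgroup (rG A G))
        rw [MulEquiv.apply_symm_apply]; exact hy
      · rw [← coe_eG, MulEquiv.apply_symm_apply]; rfl
  refine ⟨P.comapOfInjective (eG A G).toMonoidHom (eG A G).injective ?_, ?_⟩
  · intro x _
    exact ⟨(eG A G).symm x, (eG A G).apply_symm_apply x⟩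
  · rw [← e] at hP
    exact rA_le_normalizer_map.mp hP

/-- **Fixed points lift.** -/
theorem exists_fixed_of_mod (hcop : (Nat.card A).Coprime (Nat.card G))
    (hsol : Group.IsSolvable A ∨ Group.IsSolvable G) (N : Subgroup G) (hN : N.Normal)
    (hNA : ∀ a : A, ∀ x ∈ N, a • x ∈ N) (k : G) (hk : ∀ a : A, (a • k) * k⁻¹ ∈ N) :
    ∃ c : G, (∀ a : A, a • c = c) ∧ k⁻¹ * c ∈ N := by
  have := finiteSD A G
  obtain ⟨c, hc, hkc⟩ := Cfsg.Agent.S0022.result (rA A G) (rG A G) rA_le_normalizer_rG
    (by rw [card_rA, card_rG]; exact hcop) (solv_iff hsol) (N.map (SemidirectProduct.inl : G →* SD A G))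
    (by rintro _ ⟨x, hx, rfl⟩; exact ⟨x, rfl⟩)
    (by
      rintro _ ⟨x, rfl⟩
      rw [Subgroup.mem_normalizer_iff]
      intro y
      constructor
      · rintro ⟨n, hn, rfl⟩
        exact ⟨x * n * x⁻¹, hN.conj_mem n hn x, by simp⟩
      · rintro ⟨n, hn, hny⟩
        refine ⟨x⁻¹ * n * x⁻¹⁻¹, hN.conj_mem n hn x⁻¹, ?_⟩
        rw [map_mul, map_mul, hny, map_inv, map_inv, map_inv]; group)
    (rA_le_normalizer_map.mpr hNA) (SemidirectProduct.inl k) ⟨k, rfl⟩
    (by
      rintro _ ⟨a, rfl⟩
      rw [conj_inl, ← map_inv, ← map_mul]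
      exact ⟨_, hk a, rfl⟩)
  obtain ⟨⟨c, rfl⟩, hc2⟩ := Subgroup.mem_inf.mp hc
  refine ⟨c, fun a => ?_, ?_⟩
  · rw [Subgroup.mem_centralizer_iff] at hc2
    have h1 := hc2 (SemidirectProduct.inr a) ⟨a, rfl⟩
    have h2 := conj_inl a c
    rw [h1, mul_inv_cancel_right] at h2
    exact (SemidirectProduct.inl_injective h2).symm
  · rw [← map_inv, ← map_mul] at hkc
    obtain ⟨n, hn, hnk⟩ := hkc
    rwa [← SemidirectProduct.inl_injective hnk]

omit [Finite A] [Finite G] in
/-- the action on subgroups of the semidirect product by conjugation -/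
theorem smul_map_inl (g : G) (X : Subgroup G) :
    MulAut.conj (SemidirectProduct.inl g : SD A G) • (X.map (SemidirectProduct.inl : G →* SD A G)) =
      (MulAut.conj g • X).map (SemidirectProduct.inl : G →* SD A G) := by
  ext y
  rw [Subgroup.mem_smul_pointwise_iff_exists]
  constructor
  · rintro ⟨_, ⟨x, hx, rfl⟩, rfl⟩
    refine ⟨g * x * g⁻¹, ?_, ?_⟩
    · exact Subgroup.smul_mem_pointwise_smul x (MulAut.conj g) X hx
    · simp [MulAut.smul_def, MulAut.conj_apply]
  · rintro ⟨z, hz, rfl⟩
    have hz' : z ∈ MulAut.conj g • X := hz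
    rw [Subgroup.mem_smul_pointwise_iff_exists] at hz'
    obtain ⟨x, hx, rfl⟩ := hz'
    exact ⟨SemidirectProduct.inl x, ⟨x, hx, rfl⟩, by simp [MulAut.smul_def, MulAut.conj_apply]⟩

omit [Finite A] [Finite G] in
theorem map_inl_injective : Function.Injective
    (Subgroup.map (SemidirectProduct.inl : G →* SD A G)) :=
  Subgroup.map_injective SemidirectProduct.inl_injective

omit [Finite A] [Finite G] in
theorem inr_smul_map_inl_eq {X : Subgroup G} (hX : ∀ a : A, ∀ x ∈ X, a • x ∈ X) (a : A) :
    MulAut.conj (SemidirectProduct.inr a : SD A G) • (X.map (SemidirectProduct.inl : G →* SD A G)) =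
      X.map (SemidirectProduct.inl : G →* SD A G) := by
  ext y
  rw [Subgroup.mem_smul_pointwise_iff_exists]
  constructor
  · rintro ⟨_, ⟨x, hx, rfl⟩, rfl⟩
    refine ⟨a • x, hX a x hx, ?_⟩
    rw [MulAut.smul_def, MulAut.conj_apply]
    exact (conj_inl a x).symm
  · rintro ⟨x, hx, rfl⟩
    refine ⟨SemidirectProduct.inl (a⁻¹ • x), ⟨a⁻¹ • x, hX _ x hx, rfl⟩, ?_⟩
    rw [MulAut.smul_def, MulAut.conj_apply]
    rw [conj_inl, smul_inv_smul]

/-- **Two invariant conjugate subgroups are conjugate under a fixed point.** -/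
theorem invariant_conj (hcop : (Nat.card A).Coprime (Nat.card G))
    (hsol : Group.IsSolvable A ∨ Group.IsSolvable G) (X Y : Subgroup G)
    (hX : ∀ a : A, ∀ x ∈ X, a • x ∈ X) (hY : ∀ a : A, ∀ x ∈ Y, a • x ∈ Y) (g : G)
    (h : Y = MulAut.conj g • X) : ∃ c : G, (∀ a : A, a • c = c) ∧ Y = MulAut.conj c • X := by
  have := finiteSD A G
  letI act : MulAction (SD A G) (Subgroup (SD A G)) :=
    MulAction.compHom (Subgroup (SD A G)) (MulAut.conj : SD A G →* MulAut (SD A G))
  obtain ⟨c, hc1, hc2, hc3⟩ := Cfsg.Agent.Solvable.Glauberman.exists_centralizer_smul (rA A G) (rG A G)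
    rA_le_normalizer_rG (by rw [card_rA, card_rG]; exact hcop) (solv_iff hsol)
    (X := Subgroup (SD A G))
    (X.map (SemidirectProduct.inl : G →* SD A G)) (Y.map (SemidirectProduct.inl : G →* SD A G))
    (by rintro _ ⟨a, rfl⟩; exact inr_smul_map_inl_eq hX a)
    (by rintro _ ⟨a, rfl⟩; exact inr_smul_map_inl_eq hY a)
    (k := SemidirectProduct.inl g) ⟨g, rfl⟩ (by
      have := smul_map_inl (A := A) g X
      rw [← h] at this
      exact this)
  obtain ⟨c, rfl⟩ := hc1
  refine ⟨c, fun a => ?_, ?_⟩
  · rw [Subgroup.mem_centralizer_iff] at hc2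
    have h1 := hc2 (SemidirectProduct.inr a) ⟨a, rfl⟩
    have h2 := conj_inl a c
    rw [h1, mul_inv_cancel_right] at h2
    exact (SemidirectProduct.inl_injective h2).symm
  · have h3 : (MulAut.conj c • X).map (SemidirectProduct.inl : G →* SD A G) =
        Y.map (SemidirectProduct.inl : G →* SD A G) := (smul_map_inl c X).symm.trans hc3
    exact (map_inl_injective h3).symm

/-- **Invariant Sylow subgroups are conjugate under a fixed point.** -/
theorem invariant_sylow_conj (hcop : (Nat.card A).Coprime (Nat.card G))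
    (hsol : Group.IsSolvable A ∨ Group.IsSolvable G) {p : ℕ} [Fact p.Prime] (P Q : Sylow p G)
    (hP : ∀ a : A, ∀ x ∈ (P : Subgroup G), a • x ∈ (P : Subgroup G))
    (hQ : ∀ a : A, ∀ x ∈ (Q : Subgroup G), a • x ∈ (Q : Subgroup G)) :
    ∃ c : G, (∀ a : A, a • c = c) ∧ (Q : Subgroup G) = MulAut.conj c • (P : Subgroup G) := by
  obtain ⟨g, hg⟩ := MulAction.exists_smul_eq G P Q
  exact invariant_conj hcop hsol _ _ hP hQ g (by rw [← hg]; rfl)

/-- **An invariant conjugate exists** if `A` preserves the class. -/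
theorem exists_invariant_conj (hcop : (Nat.card A).Coprime (Nat.card G))
    (hsol : Group.IsSolvable A ∨ Group.IsSolvable G) (X : Subgroup G)
    (h : ∀ a : A, ∃ g : G, ∀ x ∈ X, a • x ∈ (MulAut.conj g • X : Subgroup G)) :
    ∃ g : G, ∀ a : A, ∀ x ∈ (MulAut.conj g • X : Subgroup G), a • x ∈ (MulAut.conj g • X : Subgroup G) := by
  have := finiteSD A G
  letI act : MulAction (SD A G) (Subgroup (SD A G)) :=
    MulAction.compHom (Subgroup (SD A G)) (MulAut.conj : SD A G →* MulAut (SD A G))
  obtain ⟨c, ⟨c, rfl⟩, hc3⟩ := Cfsg.Agent.Solvable.Glauberman.exists_smul_fixed (rA A G) (rG A G)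
    rA_le_normalizer_rG (by rw [card_rA, card_rG]; exact hcop) (solv_iff hsol)
    (X := Subgroup (SD A G)) (X.map (SemidirectProduct.inl : G →* SD A G)) (by
      rintro _ ⟨a, rfl⟩
      obtain ⟨g, hg⟩ := h a
      refine ⟨SemidirectProduct.inl g, ⟨g, rfl⟩, ?_⟩
      change MulAut.conj (SemidirectProduct.inr a : SD A G) • (X.map (SemidirectProduct.inl : G →* SD A G)) =
        MulAut.conj (SemidirectProduct.inl g : SD A G) • (X.map (SemidirectProduct.inl : G →* SD A G))
      rw [smul_map_inl]
      apply Subgroup.eq_of_le_of_card_ge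
      · intro y hy
        rw [Subgroup.mem_smul_pointwise_iff_exists] at hy
        obtain ⟨_, ⟨x, hx, rfl⟩, rfl⟩ := hy
        refine ⟨a • x, hg x hx, ?_⟩
        rw [MulAut.smul_def, MulAut.conj_apply]
        exact (conj_inl a x).symm
      · rw [← smul_map_inl]
        have e1 := Nat.card_congr (Subgroup.equivSMul (MulAut.conj (SemidirectProduct.inl g : SD A G))
          (X.map (SemidirectProduct.inl : G →* SD A G))).toEquiv
        have e2 := Nat.card_congr (Subgroup.equivSMul (MulAut.conj (SemidirectProduct.inr a : SD A G))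
          (X.map (SemidirectProduct.inl : G →* SD A G))).toEquiv
        rw [← e1, ← e2])
  refine ⟨c, ?_⟩
  rw [← rA_le_normalizer_map (A := A), ← smul_map_inl]
  rintro _ ⟨a, rfl⟩
  have h1 := hc3 (SemidirectProduct.inr a) ⟨a, rfl⟩
  change MulAut.conj (SemidirectProduct.inr a : SD A G) • (MulAut.conj (SemidirectProduct.inl c : SD A G) •
      (X.map (SemidirectProduct.inl : G →* SD A G))) =
    MulAut.conj (SemidirectProduct.inl c : SD A G) • (X.map (SemidirectProduct.inl : G →* SD A G)) at h1
  rw [Subgroup.mem_normalizer_iff]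
  intro y
  constructor
  · intro hy
    have h2 := Subgroup.smul_mem_pointwise_smul y (MulAut.conj (SemidirectProduct.inr a : SD A G)) _ hy
    rw [h1] at h2
    exact h2
  · intro hy
    have h2 : MulAut.conj (SemidirectProduct.inr a : SD A G) • y ∈
        MulAut.conj (SemidirectProduct.inr a : SD A G) •
          (MulAut.conj (SemidirectProduct.inl c : SD A G) • (X.map (SemidirectProduct.inl : G →* SD A G))) := by
      rw [h1]; exact hy
    rwa [Subgroup.smul_mem_pointwise_smul_iff] at h2

/-- **An invariant `p`-subgroup lies in an invariant Sylow `p`-subgroup.** -/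
theorem exists_invariant_sylow_ge (hcop : (Nat.card A).Coprime (Nat.card G))
    (hsol : Group.IsSolvable A ∨ Group.IsSolvable G) (p : ℕ) [Fact p.Prime] (U : Subgroup G)
    (hU : IsPGroup p U) (hUA : ∀ a : A, ∀ x ∈ U, a • x ∈ U) :
    ∃ P : Sylow p G, U ≤ (P : Subgroup G) ∧ ∀ a : A, ∀ x ∈ (P : Subgroup G), a • x ∈ (P : Subgroup G) := by
  have := finiteSD A G
  obtain ⟨P, hUP, hP⟩ := Cfsg.Agent.S0025.result (rA A G) (rG A G) rA_le_normalizer_rG
    (by rw [card_rA, card_rG]; exact hcop) (solv_iff hsol) p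
    (U.map (SemidirectProduct.inl : G →* SD A G))
    (by rintro _ ⟨x, hx, rfl⟩; exact ⟨x, rfl⟩)
    (hU.map _) (rA_le_normalizer_map.mpr hUA)
  have e : (((P : Subgroup (rG A G)).comap (eG A G).toMonoidHom).map (SemidirectProduct.inl : G →* SD A G)) =
      (P : Subgroup (rG A G)).map (rG A G).subtype := by
    ext x
    constructor
    · rintro ⟨y, hy, rfl⟩
      exact ⟨eG A G y, hy, rfl⟩
    · rintro ⟨y, hy, rfl⟩
      refine ⟨(eG A G).symm y, ?_, ?_⟩
      · change (eG A G) ((eG A G).symm y) ∈ (P : Subgroup (rG A G))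
        rw [MulEquiv.apply_symm_apply]; exact hy
      · rw [← coe_eG, MulEquiv.apply_symm_apply]; rfl
  refine ⟨P.comapOfInjective (eG A G).toMonoidHom (eG A G).injective ?_, ?_, ?_⟩
  · intro x _
    exact ⟨(eG A G).symm x, (eG A G).apply_symm_apply x⟩
  · rw [← e] at hUP
    exact (Subgroup.map_le_map_iff_of_injective SemidirectProduct.inl_injective).mp hUP
  · rw [← e] at hP
    exact rA_le_normalizer_map.mp hP

end

end Cfsg.Agent.H580.Cop
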