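import Mathlib
import Cfsg.Agent.H580.Cop
import Cfsg.Agent.H580.MaxInv
import Cfsg.Agent.S0117
import Cfsg.Agent.PLocal.ZJElem
import Cfsg.Agent.Transfer.PNilpotentBasic
import Cfsg.Agent.Solvable.FpfThompson
import Cfsg.Agent.FixBN.Transport
import Cfsg.Agent.S0311
import Cfsg.Agent.S0312
import Cfsg.Agent.S0313
import Cfsg.Agent.S0314
import Cfsg.Agent.LieRecognition.FeitHigmanGroup
import Cfsg.Agent.S1142
import Cfsg.Agent.S0308
import Cfsg.Agent.FixBN.Gates
import Cfsg.Agent.FastGrp
import Cfsg.Agent.Prune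
set_option linter.all false

section
prune_inst 0x7f00000000000000000000000000000000000000000000000000000000000000000000000000000000000000000000000000000000000000000000000000000000000000000000000000000000000000003fffffffffffffffffffffffffffbeffbdffffffff

-- part: H580/Two
section
set_option linter.all false
open scoped Cfsg.Agent.FastGrp

/-!
# At most two classes of non-nilpotent maximal invariant subgroups: general facts
-/

set_option autoImplicit false
open scoped Pointwise

namespace Cfsg.Agent.H580.Two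

open MaxInv

universe u v

variable {A : Type v} {G : Type u} [Group A] [Group G] [MulDistribMulAction A G]

/-- The maximal invariant subgroups which are not nilpotent fall into at most two conjugacy classes. -/
def TwoCl (A : Type v) (G : Type u) [Group A] [Group G] [MulDistribMulAction A G] : Prop :=
  ∃ M₁ M₂ : Subgroup G, ∀ M : Subgroup G, IsMaxInv A M → ¬ Group.IsNilpotent M →
    ∃ c : G, (M = MulAut.conj c • M₁ ∨ M = MulAut.conj c • M₂)

theorem inv_map_eq [Finite G] {M : Subgroup G} (h : Inv A M) (a : A) :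
    M.map (MulDistribMulAction.toMonoidHom G a) = M := by
  apply Subgroup.eq_of_le_of_card_ge
  · rintro _ ⟨x, hx, rfl⟩
    exact h a x hx
  · rw [Subgroup.card_map_of_injective (MulAction.injective a)]

theorem inv_of_map_le {M : Subgroup G} (h : ∀ a : A, M.map (MulDistribMulAction.toMonoidHom G a) ≤ M) : Inv A M :=
  fun a x hx => h a ⟨x, hx, rfl⟩

theorem nilp_of_le {H K : Subgroup G} (hHK : H ≤ K) (h : Group.IsNilpotent K) : Group.IsNilpotent H := by
  have := h
  exact (Group.isNilpotent_congr (MonoidHom.ofInjective (Subgroup.inclusion_injective hHK))).mpr inferInstance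

theorem nilp_congr {G' : Type*} [Group G'] {H : Type*} [Group H] (e : H ≃* G') (h : Group.IsNilpotent G') :
    Group.IsNilpotent H := (Group.isNilpotent_congr e).mpr h

/-- the centre of the Thompson subgroup is invariant -/
theorem inv_zj [Finite G] {R : Subgroup G} (h : Inv A R) (r : ℕ) : Inv A (Cfsg.centerThompsonOf r R) := by
  apply inv_of_map_le
  intro a
  have h1 := Cfsg.Agent.S0117.map_centerThompsonOf r (MulDistribMulAction.toMonoidHom G a) R
    (Set.injOn_of_injective (MulAction.injective a))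
  rw [h1, inv_map_eq h a]

/-- A nilpotent subgroup containing the Sylow subgroup `R` of a normal subgroup normalizes it. -/
theorem le_normalizer_of_nilp [Finite G] (N : Subgroup G) [N.Normal] {r : ℕ} [Fact r.Prime] (R : Sylow r N)
    {M : Subgroup G} (hM : Group.IsNilpotent M) (hR : (R : Subgroup N).map N.subtype ≤ M) :
    M ≤ Subgroup.normalizer ((R : Subgroup N).map N.subtype : Set G) := by
  classical
  have hpR : IsPGroup r ((R : Subgroup N).map N.subtype) := R.2.map _
  have hpR' : IsPGroup r (((R : Subgroup N).map N.subtype).subgroupOf M) :=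
    hpR.comap_of_injective _ M.subtype_injective
  obtain ⟨P, hP⟩ := hpR'.exists_le_sylow
  have hPn : (P : Subgroup M).Normal := by
    have q := (Group.isNilpotent_of_finite_tfae (G := M)).out 0 3
    exact q.mp hM r inferInstance P
  have hle : (R : Subgroup N) ≤ ((P : Subgroup M).map M.subtype).comap N.subtype := by
    intro x hx
    have hx' : (x : G) ∈ M := hR ⟨x, hx, rfl⟩
    exact ⟨⟨x, hx'⟩, hP (Subgroup.mem_subgroupOf.mpr ⟨x, hx, rfl⟩), rfl⟩
  have heq := R.3 (((P.2.map M.subtype).comap_of_injective _ N.subtype_injective)) hle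
  have hkey : ∀ m ∈ M, ∀ x ∈ (R : Subgroup N).map N.subtype, m * x * m⁻¹ ∈ (R : Subgroup N).map N.subtype := by
    rintro m hm _ ⟨x, hx, rfl⟩
    rw [← heq] at hx
    obtain ⟨y, hy, hyx⟩ := hx
    refine ⟨⟨m * x * m⁻¹, (inferInstance : N.Normal).conj_mem _ x.2 m⟩, ?_, rfl⟩
    rw [← heq]
    refine ⟨(⟨m, hm⟩ * y * ⟨m, hm⟩⁻¹ :), hPn.conj_mem _ hy _, ?_⟩
    rw [map_mul, map_mul, hyx]
    rfl
  intro m hm
  rw [Subgroup.mem_normalizer_iff]
  intro x
  refine ⟨hkey m hm x, fun h => ?_⟩
  have := hkey m⁻¹ (inv_mem hm) _ h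
  rwa [show m⁻¹ * (m * x * m⁻¹) * m⁻¹⁻¹ = x by group] at this

/-- the action on an invariant subgroup -/
@[reducible] def subAct {N : Subgroup G} (hN : Inv A N) : MulDistribMulAction A N where
  smul a x := ⟨a • (x : G), hN a x x.2⟩
  one_smul x := Subtype.ext (one_smul A (x : G))
  mul_smul a b x := Subtype.ext (mul_smul a b (x : G))
  smul_mul a x y := Subtype.ext (smul_mul' a (x : G) (y : G))
  smul_one a := Subtype.ext (smul_one a)

theorem inv_map_char {N : Subgroup G} (hN : Inv A N) (K : Subgroup N) (hK : K.Characteristic) :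
    Inv A (K.map N.subtype) := by
  let _ := subAct hN
  have h := inv_of_characteristic (A := A) K
  rintro a _ ⟨x, hx, rfl⟩
  exact ⟨a • x, h a x hx, rfl⟩

theorem normal_map_char (N : Subgroup G) [hN : N.Normal] (K : Subgroup N) (hK : K.Characteristic) :
    (K.map N.subtype).Normal := inferInstance

/-- **(F0)** A maximal invariant subgroup containing the normalizer of an invariant Sylow subgroup, for an odd
prime, of a minimal normal invariant subgroup is not nilpotent. -/
theorem not_nilp_of_normalizer_le [Finite G] (N : Subgroup G) [hNn : N.Normal]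
    (hNinv : Inv A N)
    (hmin : ∀ K : Subgroup G, K.Normal → Inv A K → K ≤ N → K = ⊥ ∨ K = N) {r : ℕ} [hr : Fact r.Prime] (hr2 : r ≠ 2)
    (hNp : ¬ IsPGroup r N) (hrN : r ∣ Nat.card N) (R : Sylow r N)
    (hR : Inv A ((R : Subgroup N).map N.subtype)) {M : Subgroup G} (hM : IsMaxInv A M)
    (hle : Subgroup.normalizer ((R : Subgroup N).map N.subtype : Set G) ≤ M) : ¬ Group.IsNilpotent M := by
  intro hnil
  set R' : Subgroup G := (R : Subgroup N).map N.subtype with hR'
  have h1 : M ≤ Subgroup.normalizer (R' : Set G) :=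
    le_normalizer_of_nilp N R hnil (Subgroup.le_normalizer.trans hle)
  have h2 : M ≤ Subgroup.normalizer (Cfsg.centerThompsonOf r R' : Set G) :=
    h1.trans (Cfsg.Agent.PLocal.ZJElem.normalizer_le_normalizer_centerThompsonOf r R')
  have hRbot : (R : Subgroup N) ≠ ⊥ := by
    have := R.ne_bot_of_dvd_card hrN
    exact this
  have hpR' : IsPGroup r R' := R.2.map _
  have hR'bot : R' ≠ ⊥ := by
    rw [hR', Ne, Subgroup.map_eq_bot_iff_of_injective _ N.subtype_injective]
    exact hRbot
  have hZbot := Cfsg.Agent.S0117.centerThompsonOf_ne_bot (p := r) hpR' hR'bot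
  have hZle : Cfsg.centerThompsonOf r R' ≤ R' := Cfsg.Agent.S0117.centerThompsonOf_le r R'
  have hZN : Cfsg.centerThompsonOf r R' ≤ N := hZle.trans (Subgroup.map_subtype_le _)
  have hZinv : Inv A (Cfsg.centerThompsonOf r R') := inv_zj hR r
  have h3 : Subgroup.normalizer (Cfsg.centerThompsonOf r R' : Set G) ≠ ⊤ := by
    intro htop
    rcases hmin _ (Subgroup.normalizer_eq_top_iff.mp htop) hZinv hZN with h | h
    · exact hZbot h
    · apply hNp
      rw [← h]
      exact hpR'.to_le hZle
  have h4 : M = Subgroup.normalizer (Cfsg.centerThompsonOf r R' : Set G) := by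
    rcases h2.eq_or_lt with h | h
    · exact h
    · exact absurd (hM.2.2 _ h hZinv.normalizer) h3
  have h5 : Group.IsNilpotent (Subgroup.normalizer (Cfsg.centerThompsonOf r R' : Set G)) := h4 ▸ hnil
  -- the normalizer inside `N`
  have h6 : Group.IsNilpotent (Subgroup.normalizer (Cfsg.centerThompsonOf r (R : Subgroup N) : Set N)) := by
    have h7 : (Subgroup.normalizer (Cfsg.centerThompsonOf r (R : Subgroup N) : Set N)).map N.subtype ≤
        Subgroup.normalizer (Cfsg.centerThompsonOf r R' : Set G) := by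
      have h8 := Cfsg.Agent.S0117.map_centerThompsonOf r N.subtype (R : Subgroup N)
        (Set.injOn_of_injective N.subtype_injective)
      rw [hR', ← h8]
      rintro _ ⟨x, hx, rfl⟩
      have hx' := Subgroup.mem_normalizer_iff.mp hx
      rw [Subgroup.mem_normalizer_iff]
      intro y
      constructor
      · rintro ⟨z, hz, rfl⟩
        exact ⟨x * z * x⁻¹, (hx' z).mp hz, rfl⟩
      · rintro ⟨z, hz, hzy⟩
        have hyN : y ∈ N := by
          have h9 := hNn.conj_mem _ z.2 (x⁻¹ : G)
          have : y = (x⁻¹ : G) * z * (x⁻¹ : G)⁻¹ := by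
            have h10 : (z : G) = x * y * (x : G)⁻¹ := hzy
            rw [h10]; group
          rwa [this]
        refine ⟨⟨y, hyN⟩, (hx' ⟨y, hyN⟩).mpr ?_, rfl⟩
        have : z = x * ⟨y, hyN⟩ * x⁻¹ := Subtype.ext hzy
        rwa [← this]
    exact nilp_congr (Subgroup.equivMapOfInjective _ N.subtype N.subtype_injective)
      (nilp_of_le h7 h5)
  have h8 : Cfsg.HasNormalPComplement r N :=
    (Cfsg.Agent.S0117.result hr2 R).mpr
      (Cfsg.Agent.Solvable.FpfThompson.hasNormalPComplement_of_isNilpotent h6 r)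
  have h9 := Cfsg.Agent.Transfer.PNilpotentBasic.hnc_iff.mp h8
  have hchar := Cfsg.Agent.Transfer.Residual.pResidual_characteristic (G := N) r
  rcases hmin _ (normal_map_char N _ hchar) (inv_map_char hNinv _ hchar) (Subgroup.map_subtype_le _) with h | h
  · rw [Subgroup.map_eq_bot_iff_of_injective _ N.subtype_injective] at h
    apply hNp
    have h10 := Cfsg.Agent.Transfer.Residual.isPGroup_quotient_pResidual (G := N) (p := r)
    refine h10.of_injective (QuotientGroup.mk' (Cfsg.pResidual r N)) ?_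
    rw [← MonoidHom.ker_eq_bot_iff, QuotientGroup.ker_mk', h]
  · have h10 : Nat.card N = Nat.card (Cfsg.pResidual r N) := by
      conv_lhs => rw [← h]
      exact Subgroup.card_map_of_injective N.subtype_injective
    rw [← h10] at h9
    exact (Nat.Prime.coprime_iff_not_dvd hr.out).mp h9.symm hrN

/-- The index of a subgroup containing the normalizer of a Sylow `p`-subgroup is `1` modulo `p`. -/
theorem index_modEq_one {G : Type*} [Group G] [Finite G] {p : ℕ} [Fact p.Prime] (P : Sylow p G) (M : Subgroup G)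
    (h : Subgroup.normalizer ((P : Subgroup G) : Set G) ≤ M) : M.index ≡ 1 [MOD p] := by
  have hPM : (P : Subgroup G) ≤ M := Subgroup.le_normalizer.trans h
  have h1 := card_sylow_modEq_one p M
  rw [Sylow.card_eq_index_normalizer (P.subtype hPM)] at h1
  have h2 := card_sylow_modEq_one p G
  rw [Sylow.card_eq_index_normalizer P] at h2
  have h3 : Subgroup.normalizer ((P.subtype hPM : Subgroup M) : Set M) =
      (Subgroup.normalizer ((P : Subgroup G) : Set G)).subgroupOf M := by
    ext x
    rw [Subgroup.mem_subgroupOf, Subgroup.mem_normalizer_iff, Subgroup.mem_normalizer_iff]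
    constructor
    · intro hx y
      constructor
      · intro hy
        exact (hx ⟨y, hPM hy⟩).mp hy
      · intro hy
        have hyM : y ∈ M := by
          have h4 := M.mul_mem (M.mul_mem (M.inv_mem x.2) (hPM hy)) x.2
          simpa [mul_assoc] using h4
        exact (hx ⟨y, hyM⟩).mpr hy
    · intro hx y
      exact hx y
  have h1' : (Subgroup.normalizer ((P.subtype hPM : Subgroup M) : Set M)).index ≡ 1 [MOD p] := h1
  rw [h3] at h1'
  have h4 := Subgroup.relIndex_mul_index h
  have h5 : (Subgroup.normalizer ((P : Subgroup G) : Set G)).relIndex M ≡ 1 [MOD p] := h1'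
  have h2' : (Subgroup.normalizer ((P : Subgroup G) : Set G)).index ≡ 1 [MOD p] := h2
  rw [← h4] at h2'
  calc M.index = 1 * M.index := (one_mul _).symm
    _ ≡ (Subgroup.normalizer ((P : Subgroup G) : Set G)).relIndex M * M.index [MOD p] := h5.symm.mul_right _
    _ ≡ 1 [MOD p] := h2'

/-- An invariant Sylow subgroup of an invariant subgroup. -/
theorem exists_inv_sylow_sub [Finite A] [Finite G] (hcop : (Nat.card A).Coprime (Nat.card G))
    (hsol : Group.IsSolvable A) (N : Subgroup G) (hN : Inv A N) (r : ℕ) [Fact r.Prime] :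
    ∃ R : Sylow r N, Inv A ((R : Subgroup N).map N.subtype) := by
  let _ := subAct hN
  obtain ⟨R, hR⟩ := Cop.exists_invariant_sylow (A := A) (G := N)
    (Nat.Coprime.coprime_dvd_right (Subgroup.card_subgroup_dvd_card N) hcop) (Or.inl hsol) r
  refine ⟨R, ?_⟩
  rintro a _ ⟨x, hx, rfl⟩
  exact ⟨a • x, hR a x hx, rfl⟩

theorem smul_le_smul_iff' (c : G) {H K : Subgroup G} : MulAut.conj c • H ≤ MulAut.conj c • K ↔ H ≤ K :=
  Subgroup.pointwise_smul_le_pointwise_smul_iff

theorem index_conj (c : G) (H : Subgroup G) : (MulAut.conj c • H : Subgroup G).index = H.index := by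
  have h1 : (MulAut.conj c • H : Subgroup G) = H.map (MulAut.conj c).toMonoidHom := rfl
  rw [h1, Subgroup.index_map_of_bijective (MulAut.conj c).bijective]

theorem nilp_conj (c : G) (H : Subgroup G) :
    Group.IsNilpotent (MulAut.conj c • H : Subgroup G) ↔ Group.IsNilpotent H :=
  (Group.isNilpotent_congr (Subgroup.equivSMul (MulAut.conj c) H)).symm

/-- `M₁`, `M₂` are non-nilpotent maximal invariant, and every such subgroup is conjugate to one of them. -/
def Cov (A : Type v) {G : Type u} [Group A] [Group G] [MulDistribMulAction A G] (M₁ M₂ : Subgroup G) : Prop :=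
  (IsMaxInv A M₁ ∧ ¬ Group.IsNilpotent M₁) ∧ (IsMaxInv A M₂ ∧ ¬ Group.IsNilpotent M₂) ∧
    ∀ M : Subgroup G, IsMaxInv A M → ¬ Group.IsNilpotent M → ∃ c : G, (M = MulAut.conj c • M₁ ∨ M = MulAut.conj c • M₂)

theorem Cov.symm {M₁ M₂ : Subgroup G} (h : Cov A M₁ M₂) : Cov A M₂ M₁ :=
  ⟨h.2.1, h.1, fun M hM hn => (h.2.2 M hM hn).imp fun _ => Or.symm⟩

theorem TwoCl.cov (h : TwoCl A G) {M : Subgroup G} (hM : IsMaxInv A M) (hn : ¬ Group.IsNilpotent M) :
    ∃ M₁ M₂ : Subgroup G, Cov A M₁ M₂ := by
  obtain ⟨M₁, M₂, h⟩ := h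
  -- one class is enough
  have one : ∀ K : Subgroup G, (∀ M : Subgroup G, IsMaxInv A M → ¬ Group.IsNilpotent M → ∃ c : G, M = MulAut.conj c • K) →
      ∃ M₁ M₂ : Subgroup G, Cov A M₁ M₂ := by
    intro K hK
    refine ⟨M, M, ⟨hM, hn⟩, ⟨hM, hn⟩, fun M' hM' hn' => ?_⟩
    obtain ⟨c, hc⟩ := hK M hM hn
    obtain ⟨c', hc'⟩ := hK M' hM' hn'
    refine ⟨c' * c⁻¹, Or.inl ?_⟩
    rw [hc', hc, smul_smul, ← map_mul, inv_mul_cancel_right]
  by_cases h1 : ∃ N₁ : Subgroup G, IsMaxInv A N₁ ∧ ¬ Group.IsNilpotent N₁ ∧ ∃ c : G, N₁ = MulAut.conj c • M₁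
  · by_cases h2 : ∃ N₂ : Subgroup G, IsMaxInv A N₂ ∧ ¬ Group.IsNilpotent N₂ ∧ ∃ c : G, N₂ = MulAut.conj c • M₂
    · obtain ⟨N₁, hN₁, hn₁, c₁, hc₁⟩ := h1
      obtain ⟨N₂, hN₂, hn₂, c₂, hc₂⟩ := h2
      refine ⟨N₁, N₂, ⟨hN₁, hn₁⟩, ⟨hN₂, hn₂⟩, fun M' hM' hn' => ?_⟩
      obtain ⟨c, hc | hc⟩ := h M' hM' hn'
      · refine ⟨c * c₁⁻¹, Or.inl ?_⟩
        rw [hc, hc₁, smul_smul, ← map_mul, inv_mul_cancel_right]
      · refine ⟨c * c₂⁻¹, Or.inr ?_⟩
        rw [hc, hc₂, smul_smul, ← map_mul, inv_mul_cancel_right]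
    · refine one M₁ fun M' hM' hn' => ?_
      obtain ⟨c, hc | hc⟩ := h M' hM' hn'
      · exact ⟨c, hc⟩
      · exact absurd ⟨M', hM', hn', c, hc⟩ h2
  · refine one M₂ fun M' hM' hn' => ?_
    obtain ⟨c, hc | hc⟩ := h M' hM' hn'
    · exact absurd ⟨M', hM', hn', c, hc⟩ h1
    · exact ⟨c, hc⟩

theorem Cov.exists_ge [Finite G] {M₁ M₂ : Subgroup G} (h : Cov A M₁ M₂) {X : Subgroup G} (hX : X ≠ ⊤) (hXA : Inv A X)
    (hn : ¬ Group.IsNilpotent X) : ∃ c : G, X ≤ MulAut.conj c • M₁ ∨ X ≤ MulAut.conj c • M₂ := by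
  obtain ⟨M, hXM, hM⟩ := exists_maxInv hX hXA
  obtain ⟨c, hc⟩ := h.2.2 M hM (fun h' => hn (nilp_of_le hXM h'))
  rcases hc with hc | hc
  · exact ⟨c, Or.inl (hc ▸ hXM)⟩
  · exact ⟨c, Or.inr (hc ▸ hXM)⟩

/-- the class of `X` is invariant -/
def StableClass (A : Type v) {G : Type u} [Group A] [Group G] [MulDistribMulAction A G] (X : Subgroup G) : Prop :=
  ∀ a : A, ∃ g : G, ∀ x ∈ X, a • x ∈ (MulAut.conj g • X : Subgroup G)

theorem Inv.stableClass {X : Subgroup G} (h : Inv A X) : StableClass A X := fun a => ⟨1, fun x hx => by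
  rw [map_one, one_smul]; exact h a x hx⟩

theorem Cov.exists_ge_of_class [Finite A] [Finite G] (hcop : (Nat.card A).Coprime (Nat.card G))
    (hsol : Group.IsSolvable A) {M₁ M₂ : Subgroup G} (h : Cov A M₁ M₂) {X : Subgroup G} (hX : X ≠ ⊤)
    (hXA : StableClass A X)
    (hn : ¬ Group.IsNilpotent X) : ∃ c : G, X ≤ MulAut.conj c • M₁ ∨ X ≤ MulAut.conj c • M₂ := by
  obtain ⟨g, hg⟩ := Cop.exists_invariant_conj hcop (Or.inl hsol) X hXA
  have h1 : (MulAut.conj g • X : Subgroup G) ≠ ⊤ := by
    intro h1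
    apply hX
    rw [← Subgroup.index_eq_one] at h1 ⊢
    rwa [index_conj] at h1
  obtain ⟨c, hc⟩ := h.exists_ge h1 hg (fun h' => hn ((nilp_conj g X).mp h'))
  refine ⟨g⁻¹ * c, ?_⟩
  rw [map_mul, map_inv, mul_smul, mul_smul]
  exact hc.imp (fun h => Subgroup.subset_pointwise_smul_iff.mpr (by rwa [inv_inv]))
    (fun h => Subgroup.subset_pointwise_smul_iff.mpr (by rwa [inv_inv]))

theorem Cov.index_dvd [Finite A] [Finite G] (hcop : (Nat.card A).Coprime (Nat.card G))
    (hsol : Group.IsSolvable A) {M₁ M₂ : Subgroup G} (h : Cov A M₁ M₂) {X : Subgroup G} (hX : X ≠ ⊤)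
    (hXA : StableClass A X)
    (hn : ¬ Group.IsNilpotent X) : M₁.index ∣ X.index ∨ M₂.index ∣ X.index := by
  obtain ⟨c, hc | hc⟩ := h.exists_ge_of_class hcop hsol hX hXA hn
  · left
    rw [← index_conj c M₁]
    exact Subgroup.index_dvd_of_le hc
  · right
    rw [← index_conj c M₂]
    exact Subgroup.index_dvd_of_le hc

/-- For an odd prime divisor of the order of a nonabelian simple group there is a non-nilpotent maximal invariant
subgroup containing the normalizer of a Sylow subgroup. -/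
theorem exists_max_of_odd [Finite A] [Finite G] [IsSimpleGroup G] (hcop : (Nat.card A).Coprime (Nat.card G))
    (hsol : Group.IsSolvable A) (hna : ¬ Group.IsSolvable G) {r : ℕ} [hr : Fact r.Prime] (hr2 : r ≠ 2)
    (hrG : r ∣ Nat.card G) : ∃ (R : Sylow r G) (M : Subgroup G), IsMaxInv A M ∧ ¬ Group.IsNilpotent M ∧
      Subgroup.normalizer ((R : Subgroup G) : Set G) ≤ M := by
  have htop : Inv A (⊤ : Subgroup G) := fun _ _ _ => Subgroup.mem_top _
  obtain ⟨R, hR⟩ := exists_inv_sylow_sub hcop hsol (⊤ : Subgroup G) htop r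
  have hcard : Nat.card (⊤ : Subgroup G) = Nat.card G := Subgroup.card_top
  have hNp : ¬ IsPGroup r (⊤ : Subgroup G) := by
    intro h
    apply hna
    have h1 : IsPGroup r G := h.of_equiv Subgroup.topEquiv
    have := h1.isNilpotent
    exact inferInstance
  have hRt : Subgroup.normalizer ((R : Subgroup (⊤ : Subgroup G)).map (⊤ : Subgroup G).subtype : Set G) ≠ ⊤ := by
    intro h
    have hnorm := Subgroup.normalizer_eq_top_iff.mp h
    rcases hnorm.eq_bot_or_eq_top with h | h
    · have hRbot : (R : Subgroup (⊤ : Subgroup G)) ≠ ⊥ := R.ne_bot_of_dvd_card (hcard ▸ hrG)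
      rw [Subgroup.map_eq_bot_iff_of_injective _ (⊤ : Subgroup G).subtype_injective] at h
      exact hRbot h
    · apply hNp
      rw [← h]
      exact R.2.map _
  obtain ⟨M, hle, hM⟩ := exists_maxInv hRt hR.normalizer
  have hnil := not_nilp_of_normalizer_le (⊤ : Subgroup G) htop (fun K hK _ _ => hK.eq_bot_or_eq_top) hr2 hNp
    (hcard ▸ hrG) R hR hM hle
  have e1 : IsPGroup r ((R : Subgroup (⊤ : Subgroup G)).map (⊤ : Subgroup G).subtype) := R.2.map _
  obtain ⟨P, hP⟩ := e1.exists_le_sylow
  have e2 : Nat.card P = Nat.card ((R : Subgroup (⊤ : Subgroup G)).map (⊤ : Subgroup G).subtype) := by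
    rw [Subgroup.card_map_of_injective (⊤ : Subgroup G).subtype_injective]
    have h1 := P.card_eq_multiplicity
    have h2 := R.card_eq_multiplicity
    rw [hcard] at h2
    exact h1.trans h2.symm
  have e3 := Subgroup.eq_of_le_of_card_ge hP e2.le
  exact ⟨P, M, hM, hnil, e3 ▸ hle⟩

theorem Cov.modEq [Finite A] [Finite G] [IsSimpleGroup G] (hcop : (Nat.card A).Coprime (Nat.card G))
    (hsol : Group.IsSolvable A) (hna : ¬ Group.IsSolvable G) {M₁ M₂ : Subgroup G} (h : Cov A M₁ M₂)
    {r : ℕ} [hr : Fact r.Prime] (hr2 : r ≠ 2)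
    (hrG : r ∣ Nat.card G) : M₁.index ≡ 1 [MOD r] ∨ M₂.index ≡ 1 [MOD r] := by
  obtain ⟨R, M, hM, hn, hle⟩ := exists_max_of_odd hcop hsol hna hr2 hrG
  have h1 := index_modEq_one R M hle
  obtain ⟨c, hc | hc⟩ := h.2.2 M hM hn
  · left; rwa [hc, index_conj] at h1
  · right; rwa [hc, index_conj] at h1

/-! ### The trivial action -/

/-- The maximal subgroups which are not nilpotent fall into at most two conjugacy classes. -/
def TwoMax (G : Type u) [Group G] : Prop :=
  ∃ M₁ M₂ : Subgroup G, ∀ M : Subgroup G, IsCoatom M → ¬ Group.IsNilpotent M →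
    ∃ c : G, (M = MulAut.conj c • M₁ ∨ M = MulAut.conj c • M₂)

theorem isMaxInv_iff_of_trivial (htriv : ∀ (a : A) (x : G), a • x = x) (M : Subgroup G) :
    IsMaxInv A M ↔ IsCoatom M := by
  constructor
  · rintro ⟨h1, _, h3⟩
    exact ⟨h1, fun L hL => h3 L hL (fun a x hx => by rwa [htriv])⟩
  · rintro ⟨h1, h2⟩
    exact ⟨h1, fun a x hx => by rwa [htriv], fun L hL _ => h2 L hL⟩

theorem TwoCl.twoMax (h : TwoCl A G) (htriv : ∀ (a : A) (x : G), a • x = x) : TwoMax G := by
  obtain ⟨M₁, M₂, h⟩ := h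
  exact ⟨M₁, M₂, fun M hM hn => h M ((isMaxInv_iff_of_trivial htriv M).mpr hM) hn⟩

theorem TwoMax.twoCl (h : TwoMax G) (htriv : ∀ (a : A) (x : G), a • x = x) : TwoCl A G := by
  obtain ⟨M₁, M₂, h⟩ := h
  exact ⟨M₁, M₂, fun M hM hn => h M ((isMaxInv_iff_of_trivial htriv M).mp hM) hn⟩

/-- **The numerical consequences for a nonabelian simple group.** -/
theorem TwoMax.numeric [Finite G] [IsSimpleGroup G] (hna : ¬ Group.IsSolvable G) (h : TwoMax G) :
    ∃ M₁ M₂ : Subgroup G, IsCoatom M₁ ∧ IsCoatom M₂ ∧ ¬ Group.IsNilpotent M₁ ∧ ¬ Group.IsNilpotent M₂ ∧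
      (∀ M : Subgroup G, IsCoatom M → ¬ Group.IsNilpotent M →
        ∃ c : G, (M = MulAut.conj c • M₁ ∨ M = MulAut.conj c • M₂)) ∧
      (∀ r : ℕ, r.Prime → r ≠ 2 → r ∣ Nat.card G → M₁.index ≡ 1 [MOD r] ∨ M₂.index ≡ 1 [MOD r]) ∧
      (∀ X : Subgroup G, X ≠ ⊤ → ¬ Group.IsNilpotent X → M₁.index ∣ X.index ∨ M₂.index ∣ X.index) := by
  let _ : MulDistribMulAction PUnit.{1} G :=
    { smul := fun _ x => x, one_smul := fun _ => rfl, mul_smul := fun _ _ _ => rfl, smul_mul := fun _ _ _ => rfl,
      smul_one := fun _ => rfl }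
  have htriv : ∀ (a : PUnit.{1}) (x : G), a • x = x := fun _ _ => rfl
  have hcop : (Nat.card PUnit.{1}).Coprime (Nat.card G) := by
    rw [Nat.card_unique]; exact Nat.coprime_one_left _
  have hsol : Group.IsSolvable PUnit.{1} := inferInstance
  have hcl := h.twoCl htriv
  obtain ⟨M, hM, hMn⟩ : ∃ M : Subgroup G, IsMaxInv PUnit.{1} M ∧ ¬ Group.IsNilpotent M := by
    -- there is an odd prime divisor
    by_cases h2 : ∃ r : ℕ, r.Prime ∧ r ≠ 2 ∧ r ∣ Nat.card G
    · obtain ⟨r, hr, hr2, hrG⟩ := h2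
      have := Fact.mk hr
      obtain ⟨R, M, hM, hn, -⟩ := exists_max_of_odd hcop hsol hna hr2 hrG
      exact ⟨M, hM, hn⟩
    · exfalso
      apply hna
      push Not at h2
      have h3 : IsPGroup 2 G := by
        rw [IsPGroup.iff_card]
        refine ⟨(Nat.card G).factorization 2, ?_⟩
        apply Nat.eq_of_factorization_eq Nat.card_pos.ne' (by positivity)
        intro p
        by_cases hp : p.Prime
        · by_cases hp2 : p = 2
          · subst hp2; simp [Nat.prime_two]
          · rw [Nat.factorization_eq_zero_of_not_dvd (h2 p hp hp2), Nat.Prime.factorization_pow Nat.prime_two,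
              Finsupp.single_eq_of_ne hp2]
        · rw [Nat.factorization_eq_zero_of_not_prime _ hp, Nat.factorization_eq_zero_of_not_prime _ hp]
      have := h3.isNilpotent
      exact inferInstance
  obtain ⟨M₁, M₂, hcov⟩ := hcl.cov hM hMn
  refine ⟨M₁, M₂, (isMaxInv_iff_of_trivial htriv M₁).mp hcov.1.1, (isMaxInv_iff_of_trivial htriv M₂).mp hcov.2.1.1,
    hcov.1.2, hcov.2.1.2, fun M hM hn => hcov.2.2 M ((isMaxInv_iff_of_trivial htriv M).mpr hM) hn, ?_, ?_⟩
  · intro r hr hr2 hrG
    have := Fact.mk hr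
    exact hcov.modEq hcop hsol hna hr2 hrG
  · intro X hX hn
    exact hcov.index_dvd hcop hsol hX (Inv.stableClass (fun a x hx => hx)) hn

end Cfsg.Agent.H580.Two
end

-- part: H580/BN
section
set_option linter.all false
open scoped Cfsg.Agent.FastGrp

/-!
# (B,N)-pairs of rank at least two: maximal invariant subgroups
-/

set_option autoImplicit false
open scoped Pointwise

namespace Cfsg.Agent.H580.BN

open MaxInv Two Cfsg.Agent.Schreier.BNSch Cfsg.Agent.FixBN

universe u v

variable {A : Type v} {G : Type u} [Group A] [Group G] [MulDistribMulAction A G]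

/-- Three non-conjugate maximal invariant subgroups are too many. -/
theorem false_of_three {M₁ M₂ : Subgroup G} (h : Cov A M₁ M₂) {X Y Z : Subgroup G}
    (hX : IsMaxInv A X) (hX' : ¬ Group.IsNilpotent X) (hY : IsMaxInv A Y) (hY' : ¬ Group.IsNilpotent Y)
    (hZ : IsMaxInv A Z) (hZ' : ¬ Group.IsNilpotent Z) (hXY : ∀ g : G, Y ≠ MulAut.conj g • X)
    (hXZ : ∀ g : G, Z ≠ MulAut.conj g • X) (hYZ : ∀ g : G, Z ≠ MulAut.conj g • Y) : False := by
  have key : ∀ {M P Q : Subgroup G} {a b : G}, P = MulAut.conj a • M → Q = MulAut.conj b • M →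
      Q = MulAut.conj (b * a⁻¹) • P := by
    intro M P Q a b h1 h2
    rw [h1, h2, smul_smul, ← map_mul, inv_mul_cancel_right]
  obtain ⟨a, ha⟩ := h.2.2 X hX hX'
  obtain ⟨b, hb⟩ := h.2.2 Y hY hY'
  obtain ⟨c, hc⟩ := h.2.2 Z hZ hZ'
  rcases ha with ha | ha <;> rcases hb with hb | hb
  · exact hXY _ (key ha hb)
  · rcases hc with hc | hc
    · exact hXZ _ (key ha hc)
    · exact hYZ _ (key hb hc)
  · rcases hc with hc | hc
    · exact hYZ _ (key hb hc)
    · exact hXZ _ (key ha hc)
  · exact hXY _ (key ha hb)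

section
variable (P : Cfsg.BNPair G)

theorem parabolic_S : P.parabolic P.S = ⊤ := sup_closure_eq_top P

theorem isCoatom_parabolic {s : G} (hs : s ∈ P.S) : IsCoatom (P.parabolic (P.S \ {s})) := by
  constructor
  · intro h
    rw [← parabolic_S P] at h
    have h1 := (parabolic_le_iff P (subset_refl P.S) Set.sdiff_subset).mp h.ge
    exact (h1 hs).2 rfl
  · intro L hL
    obtain ⟨J, hJ, rfl⟩ := Cfsg.Agent.S0311.result P L ((B_le_parabolic P _).trans hL.le)
    have h1 := (parabolic_le_iff P Set.sdiff_subset hJ).mp hL.le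
    have h2 : s ∈ J := by
      by_contra h2
      have h3 : J ⊆ P.S \ {s} := fun x hx => ⟨hJ hx, fun h => h2 (h ▸ hx)⟩
      exact absurd (parabolic_mono P h3) (not_le_of_gt hL)
    have h3 : J = P.S := by
      apply Set.Subset.antisymm hJ
      intro x hx
      by_cases hxs : x = s
      · exact hxs ▸ h2
      · exact h1 ⟨hx, hxs⟩
    rw [h3, parabolic_S]

theorem not_nilp_of_le [Finite G] {s : G} (hs : s ∈ P.S) {M : Subgroup G} (hM : P.parabolic {s} ≤ M) :
    ¬ Group.IsNilpotent M := by
  intro hn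
  have h1 : Group.IsNilpotent (P.parabolic {s}) := nilp_of_le hM hn
  have h2 := B_lt_parabolic P hs
  have h3 := (Group.isNilpotent_of_finite_tfae (G := P.parabolic {s})).out 0 1
  have h4 : NormalizerCondition (P.parabolic {s}) := h3.mp h1
  have h5 : P.B.subgroupOf (P.parabolic {s}) < ⊤ := by
    rw [lt_top_iff_ne_top, Ne, Subgroup.subgroupOf_eq_top]
    exact not_le_of_gt h2
  have h6 := h4 _ h5
  obtain ⟨x, hx, hxB⟩ := SetLike.exists_of_lt h6
  apply hxB
  rw [Subgroup.mem_subgroupOf]
  have h7 : (x : G) ∈ Subgroup.normalizer (P.B : Set G) := by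
    rw [Subgroup.mem_normalizer_iff] at hx ⊢
    intro y
    constructor
    · intro hy
      exact (hx ⟨y, h2.le hy⟩).mp (Subgroup.mem_subgroupOf.mpr hy)
    · intro hy
      have hyM : y ∈ P.parabolic {s} := by
        have h8 := mul_mem (mul_mem (inv_mem x.2) (h2.le hy)) x.2
        simpa [mul_assoc] using h8
      exact Subgroup.mem_subgroupOf.mp ((hx ⟨y, hyM⟩).mpr (Subgroup.mem_subgroupOf.mpr hy))
  have h8 := Cfsg.Agent.S0312.result P (J := ∅) (Set.empty_subset _)
  rw [parabolic_empty] at h8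
  rwa [h8] at h7

theorem ne_conj {s t : G} (hs : s ∈ P.S) (hst : s ≠ t) (g : G) :
    P.parabolic (P.S \ {t}) ≠ MulAut.conj g • P.parabolic (P.S \ {s}) := by
  intro h
  have h1 := Cfsg.Agent.S0313.result P (J := P.S \ {s}) (K := P.S \ {t}) Set.sdiff_subset Set.sdiff_subset g h.symm
  have h2 := Cfsg.Agent.S0314.result P Set.sdiff_subset Set.sdiff_subset h1
  have h3 : s ∈ P.S \ {t} := ⟨hs, hst⟩
  rw [← h2] at h3
  exact h3.2 rfl

/-- If all minimal parabolics are invariant, so are the parabolics. -/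
theorem inv_parabolic (hB : Inv A P.B) (hP : ∀ s ∈ P.S, Inv A (P.parabolic {s})) {J : Set G} (hJ : J ⊆ P.S) :
    Inv A (P.parabolic J) := by
  have key : P.parabolic J = P.B ⊔ ⨆ s : J, P.parabolic {(s : G)} := by
    apply le_antisymm
    · refine sup_le le_sup_left ?_
      rw [Subgroup.closure_le]
      intro x hx
      exact Subgroup.mem_sup_right (Subgroup.mem_iSup_of_mem (⟨x, hx⟩ : J) (mem_parabolic_self P x))
    · refine sup_le le_sup_left (iSup_le fun s => parabolic_mono P (Set.singleton_subset_iff.mpr s.2))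
  intro a x hx
  have h1 : P.parabolic J ≤ (P.parabolic J).comap (MulDistribMulAction.toMonoidHom G a) := by
    conv_lhs => rw [key]
    refine sup_le ?_ (iSup_le fun s => ?_)
    · intro y hy
      exact B_le_parabolic P J (hB a y hy)
    · intro y hy
      exact parabolic_mono P (Set.singleton_subset_iff.mpr s.2) (hP s (hJ s.2) a y hy)
  exact h1 hx

/-- Coatoms which are invariant are maximal invariant. -/
theorem isMaxInv_of_isCoatom {M : Subgroup G} (h : IsCoatom M) (hM : Inv A M) : IsMaxInv A M :=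
  ⟨h.1, hM, fun L hL _ => h.2 L hL⟩

/-- **Rank at least three.** -/
theorem false_of_rank_three [Finite G] {M₁ M₂ : Subgroup G} (hcov : Cov A M₁ M₂) (hB : Inv A P.B)
    (hP : ∀ s ∈ P.S, Inv A (P.parabolic {s})) {s t r : G} (hs : s ∈ P.S) (ht : t ∈ P.S) (hr : r ∈ P.S)
    (hst : s ≠ t) (hsr : s ≠ r) (htr : t ≠ r) : False := by
  have hinv : ∀ x, Inv A (P.parabolic (P.S \ {x})) := fun x => inv_parabolic P hB hP Set.sdiff_subset
  have hn : ∀ x y : G, y ∈ P.S → x ≠ y → ¬ Group.IsNilpotent (P.parabolic (P.S \ {x})) := fun x y hy hxy =>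
    not_nilp_of_le P hy (parabolic_mono P (Set.singleton_subset_iff.mpr ⟨hy, fun h => hxy h.symm⟩))
  exact false_of_three hcov (isMaxInv_of_isCoatom (isCoatom_parabolic P hs) (hinv s)) (hn s t ht hst)
    (isMaxInv_of_isCoatom (isCoatom_parabolic P ht) (hinv t)) (hn t s hs hst.symm)
    (isMaxInv_of_isCoatom (isCoatom_parabolic P hr) (hinv r)) (hn r s hs hsr.symm)
    (ne_conj P hs hst) (ne_conj P hs hsr) (ne_conj P ht htr)

end

/-! ### the invariant Borel subgroup -/

/-- The subgroup `U` is a Sylow subgroup. -/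
theorem exists_sylow_of_split [Finite G] {P : Cfsg.BNPair G} {p : ℕ} [hp : Fact p.Prime] {U : Subgroup G}
    (h : Split P p U) : ∃ Q : Sylow p G, (Q : Subgroup G) = U := by
  obtain ⟨Q, hQ⟩ := h.isP.exists_le_sylow
  refine ⟨Q, ?_⟩
  by_contra hne
  have hnc : NormalizerCondition (Q : Subgroup G) := by
    have h1 : Group.IsNilpotent (Q : Subgroup G) := Q.2.isNilpotent
    exact Group.normalizerCondition_of_isNilpotent
  have hlt : U.subgroupOf (Q : Subgroup G) < ⊤ := by
    rw [lt_top_iff_ne_top, Ne, Subgroup.subgroupOf_eq_top]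
    exact fun h => hne (le_antisymm h hQ)
  obtain ⟨x, hx, hxU⟩ := SetLike.exists_of_lt (hnc _ hlt)
  apply hxU
  rw [Subgroup.mem_subgroupOf]
  have h7 : (x : G) ∈ Subgroup.normalizer (U : Set G) := by
    rw [Subgroup.mem_normalizer_iff] at hx ⊢
    intro y
    constructor
    · intro hy
      exact (hx ⟨y, hQ hy⟩).mp (Subgroup.mem_subgroupOf.mpr hy)
    · intro hy
      have hyM : y ∈ (Q : Subgroup G) := by
        have h8 := mul_mem (mul_mem (inv_mem x.2) (hQ hy)) x.2
        simpa [mul_assoc] using h8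
      exact Subgroup.mem_subgroupOf.mp ((hx ⟨y, hyM⟩).mpr (Subgroup.mem_subgroupOf.mpr hy))
  rw [h.normalizer_eq] at h7
  obtain ⟨k, hk⟩ := Q.2 x
  have hk' : (x : G) ^ p ^ k = 1 := by
    have := congrArg Subtype.val hk
    simpa using this
  exact h.mem_of_pow h7 hk'

/-- Some conjugate of a split (B,N)-pair has an invariant Borel subgroup. -/
theorem exists_inv [Finite A] [Finite G] (hcop : (Nat.card A).Coprime (Nat.card G)) (hsol : Group.IsSolvable A)
    {P : Cfsg.BNPair G} {p : ℕ} [hp : Fact p.Prime] {U : Subgroup G} (h : Split P p U) :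
    ∃ g : G, Inv A (Transport.mapBN (MulAut.conj g) P).B ∧ Inv A (U.map (MulAut.conj g).toMonoidHom) := by
  obtain ⟨Q, hQ⟩ := exists_sylow_of_split h
  obtain ⟨R, hR⟩ := Cop.exists_invariant_sylow (A := A) (G := G) hcop (Or.inl hsol) p
  obtain ⟨g, hg⟩ := MulAction.exists_smul_eq G Q R
  have h1 : (R : Subgroup G) = U.map (MulAut.conj g).toMonoidHom := by
    rw [← hg, ← hQ]; rfl
  have h2 : Inv A (U.map (MulAut.conj g).toMonoidHom) := h1 ▸ hR
  refine ⟨g, ?_, h2⟩
  have h3 := (Transport.split (MulAut.conj g) P h).normalizer_eq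
  rw [← h3]
  exact h2.normalizer

/-- the automorphism of `G` given by `a` -/
abbrev aut (G : Type u) [Group G] [MulDistribMulAction A G] (a : A) : MulAut G := MulDistribMulAction.toMulAut A G a

theorem aut_pow_card [Finite A] (a : A) : (aut G a) ^ Nat.card A = 1 := by
  rw [← map_pow, pow_card_eq_one', map_one]

/-- two points, odd order -/
theorem fix_of_two {A X : Type*} [Group A] [Finite A] [MulAction A X] (hodd : Odd (Nat.card A)) {x y : X}
    (h1 : ∀ a : A, a • x = x ∨ a • x = y) (h2 : ∀ a : A, a • y = x ∨ a • y = y) (a : A) : a • x = x := by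
  rcases h1 a with h | h
  · exact h
  · rcases h2 a with h3 | h3
    · have h4 : (a ^ 2) • x = x := by rw [pow_two, mul_smul, h, h3]
      obtain ⟨m, hm⟩ := hodd
      have h5 : (a ^ 2) ^ (m + 1) = a := by
        rw [← pow_mul, show 2 * (m + 1) = Nat.card A + 1 by omega, pow_succ, pow_card_eq_one', one_mul]
      have h6 : ((a ^ 2) ^ (m + 1)) • x = x := by
        have : a ^ 2 ∈ MulAction.stabilizer A x := h4
        exact pow_mem this (m + 1)
      rwa [h5] at h6
    · have h4 : a • x = a • y := h.trans h3.symm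
      have h5 := MulAction.injective a h4
      rw [← h5] at h
      exact h

/-- **Rank two**: the minimal parabolics are invariant. -/
theorem inv_minimal_of_two [Finite A] [Finite G] (hodd : Odd (Nat.card A)) (P : Cfsg.BNPair G) (hB : Inv A P.B)
    {s t : G} (hS : P.S = {s, t}) : ∀ x ∈ P.S, Inv A (P.parabolic {x}) := by
  have hsw : ∀ (a : A) (x : G), x ∈ P.S → a • P.parabolic {x} = P.parabolic {s} ∨ a • P.parabolic {x} = P.parabolic {t} := by
    intro a x hx
    obtain ⟨y, hy, h⟩ := exists_map_eq P (aut G a) (inv_map_eq hB a) hx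
    rw [hS] at hy
    have h' : a • P.parabolic {x} = P.parabolic {y} := h
    rcases hy with rfl | hy
    · exact Or.inl h'
    · exact Or.inr (by rw [h', Set.mem_singleton_iff.mp hy])
  have hs : s ∈ P.S := by rw [hS]; exact Set.mem_insert _ _
  have ht : t ∈ P.S := by rw [hS]; exact Set.mem_insert_of_mem _ rfl
  have key : ∀ x ∈ P.S, ∀ a : A, a • P.parabolic {x} = P.parabolic {x} := by
    intro x hx a
    have hx' := hx
    rw [hS] at hx'
    rcases hx' with rfl | hx'
    · exact fix_of_two hodd (fun a => hsw a _ hs) (fun a => hsw a _ ht) a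
    · rw [Set.mem_singleton_iff] at hx'
      subst hx'
      exact fix_of_two hodd (fun a => (hsw a _ ht).symm) (fun a => (hsw a _ hs).symm) a
  intro x hx a y hy
  have h1 := Subgroup.smul_mem_pointwise_smul y a _ hy
  rwa [key x hx a] at h1

end Cfsg.Agent.H580.BN
end

-- part: H580/RankTwo
section
set_option linter.all false
open scoped Cfsg.Agent.FastGrp

/-!
# Rank two (B,N)-pairs: the indices of the maximal parabolics have a common odd prime divisor
-/

set_option autoImplicit false
set_option linter.unusedSectionVars false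
open scoped Pointwise

namespace Cfsg.Agent.H580.RankTwo

open Cfsg Cfsg.Agent.LieExceptional.BNPairCore Cfsg.Agent.LieRecognition.FeitHigmanGroup
open Cfsg.Agent.Schreier.BNSch (parabolic_empty B_le_parabolic parabolic_mono mem_parabolic_singleton mem_parabolic_self)

variable {G : Type*} [Group G] [Finite G] {P : BNPair G}

theorem q_eq_card (w : G) [Fintype (G ⧸ P.B)] [DecidablePred fun y => R P w ((1 : G) : G ⧸ P.B) y] :
    q P w = (Finset.univ.filter fun y => R P w ((1 : G) : G ⧸ P.B) y).card := (card_filter_R w _).symm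

theorem q_mul {s w : G} (hs : s ∈ P.S) (hw : w ∈ P.N) (hle : len P w ≤ len P (s * w)) :
    q P (s * w) = q P s * q P w := by
  classical
  have : Fintype (G ⧸ P.B) := Fintype.ofFinite _
  have hrow : ∀ (v : G) (x : G ⧸ P.B), ∑ z, T P v x z = (q P v : ℝ) := by
    intro v x
    simp only [T_apply]
    rw [Finset.sum_boole, card_filter_R]
  have h1 := hrow (s * w) ((1 : G) : G ⧸ P.B)
  rw [← T_mul hs hw hle] at h1
  simp only [Matrix.mul_apply] at h1
  rw [Finset.sum_comm] at h1
  have h2 : ∀ y, ∑ x, T P s ((1 : G) : G ⧸ P.B) y * T P w y x = T P s ((1 : G) : G ⧸ P.B) y * (q P w : ℝ) := by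
    intro y
    rw [← Finset.mul_sum, hrow]
  rw [Finset.sum_congr rfl fun y _ => h2 y, ← Finset.sum_mul, hrow] at h1
  exact_mod_cast h1.symm

theorem q_one : q P (1 : G) = 1 := by
  classical
  have : Fintype (G ⧸ P.B) := Fintype.ofFinite _
  rw [q_eq_card, Finset.card_eq_one]
  refine ⟨((1 : G) : G ⧸ P.B), ?_⟩
  ext y
  simp only [Finset.mem_filter, Finset.mem_univ, true_and, Finset.mem_singleton]
  induction y using QuotientGroup.induction_on with
  | H g =>
    rw [R_mk_iff, mem_C_one, ← QuotientGroup.eq]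
    exact eq_comm

theorem q_congr {w w' : G} (h : w⁻¹ * w' ∈ P.B) : q P w = q P w' := by
  have : R P w = R P w' := by
    funext x y
    unfold R
    rw [C_eq_of_rel h]
  unfold q
  rw [this]

section
variable {s t : G}

/-- the words -/
def word (s t : G) (n : ℕ) (p : Bool × Fin n) : G :=
  if p.1 then alt (p.2 : ℕ) s t else alt ((p.2 : ℕ) + 1) t s

theorem word_mem (hs : s ∈ P.S) (ht : t ∈ P.S) {n : ℕ} (p : Bool × Fin n) : word s t n p ∈ P.N := by
  unfold word
  split_ifs
  · exact alt_mem_N hs ht _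
  · exact alt_mem_N ht hs _

theorem word_bij (hS : P.S = {s, t}) {n : ℕ} (hn : 1 ≤ n) (hred : Red P s t n)
    (hbraid : (alt n s t)⁻¹ * alt n t s ∈ P.B)
    (hne : ∀ k, 1 ≤ k → k < n → (alt k s t)⁻¹ * alt k t s ∉ P.B) :
    (∀ p p' : Bool × Fin n, (word s t n p)⁻¹ * word s t n p' ∈ P.B → p = p') ∧
      ∀ m ∈ P.N, ∃ p : Bool × Fin n, (word s t n p)⁻¹ * m ∈ P.B := by
  have hs : s ∈ P.S := by rw [hS]; simp
  have ht : t ∈ P.S := by rw [hS]; simp
  have hredle : ∀ k, k ≤ n → Red P s t k := fun k hk => hred.of_le hs ht hk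
  have hinj : ∀ p p' : Bool × Fin n, (word s t n p)⁻¹ * word s t n p' ∈ P.B → p = p' := by
    rintro ⟨a, i⟩ ⟨b, j⟩ hab
    have hi := i.2
    have hj := j.2
    cases a <;> cases b
    · simp only [word, Bool.false_eq_true, if_false] at hab
      have := len_congr hab
      rw [(hredle _ (by omega)).2, (hredle _ (by omega)).2] at this
      have h2 : i = j := by ext; omega
      rw [h2]
    · exfalso
      simp only [word, Bool.false_eq_true, if_false, if_true] at hab
      have := len_congr hab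
      rw [(hredle _ (by omega)).2, (hredle _ (by omega)).1] at this
      rw [← this] at hab
      exact hne _ (by omega) (by omega) (rel_symm hab)
    · exfalso
      simp only [word, Bool.false_eq_true, if_false, if_true] at hab
      have := len_congr hab
      rw [(hredle _ (by omega)).1, (hredle _ (by omega)).2] at this
      rw [this] at hab
      exact hne _ (by omega) (by omega) hab
    · simp only [word, if_true] at hab
      have := len_congr hab
      rw [(hredle _ (by omega)).1, (hredle _ (by omega)).1] at this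
      have h2 : i = j := by ext; omega
      rw [h2]
  refine ⟨hinj, ?_⟩
  have hidx := card_weyl hS hn hred hbraid hne
  let f : Bool × Fin n → P.N ⧸ (P.B ⊓ P.N).subgroupOf P.N := fun p =>
    ((⟨word s t n p, word_mem hs ht p⟩ : P.N) : P.N ⧸ (P.B ⊓ P.N).subgroupOf P.N)
  have hf : Function.Injective f := by
    intro p p' hpp
    apply hinj
    change ((⟨word s t n p, word_mem hs ht p⟩ : P.N) : P.N ⧸ (P.B ⊓ P.N).subgroupOf P.N) =
      ((⟨word s t n p', word_mem hs ht p'⟩ : P.N) : P.N ⧸ (P.B ⊓ P.N).subgroupOf P.N) at hpp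
    rw [QuotientGroup.eq, Subgroup.mem_subgroupOf] at hpp
    exact hpp.1
  have hfb : Function.Bijective f := by
    have h1 : Fintype (P.N ⧸ (P.B ⊓ P.N).subgroupOf P.N) := Fintype.ofFinite _
    rw [Fintype.bijective_iff_injective_and_card]
    refine ⟨hf, ?_⟩
    have h2 : Fintype.card (P.N ⧸ (P.B ⊓ P.N).subgroupOf P.N) = 2 * n := by
      rw [← Nat.card_eq_fintype_card]; exact hidx
    rw [h2]
    simp
  intro m hm
  obtain ⟨p, hp⟩ := hfb.2 ((⟨m, hm⟩ : P.N) : P.N ⧸ (P.B ⊓ P.N).subgroupOf P.N)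
  refine ⟨p, ?_⟩
  change ((⟨word s t n p, word_mem hs ht p⟩ : P.N) : P.N ⧸ (P.B ⊓ P.N).subgroupOf P.N) = _ at hp
  rw [QuotientGroup.eq, Subgroup.mem_subgroupOf] at hp
  exact hp.1

/-- **The number of chambers.** -/
theorem index_B (hS : P.S = {s, t}) {n : ℕ} (hn : 1 ≤ n) (hred : Red P s t n)
    (hbraid : (alt n s t)⁻¹ * alt n t s ∈ P.B)
    (hne : ∀ k, 1 ≤ k → k < n → (alt k s t)⁻¹ * alt k t s ∉ P.B) :
    P.B.index = ∑ k ∈ Finset.range n, q P (alt k s t) + ∑ k ∈ Finset.range n, q P (alt (k + 1) t s) := by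
  classical
  have : Fintype (G ⧸ P.B) := Fintype.ofFinite _
  have hs : s ∈ P.S := by rw [hS]; simp
  have ht : t ∈ P.S := by rw [hS]; simp
  obtain ⟨hinj, hsurj⟩ := word_bij hS hn hred hbraid hne
  have hex : ∀ y : G ⧸ P.B, ∃ p : Bool × Fin n, R P (word s t n p) ((1 : G) : G ⧸ P.B) y := by
    intro y
    induction y using QuotientGroup.induction_on with
    | H g =>
      obtain ⟨m, hm, hgm⟩ := Cfsg.Agent.S0308.result P g
      obtain ⟨p, hp⟩ := hsurj m hm
      refine ⟨p, ?_⟩
      rw [R_mk_iff, inv_one, one_mul, C_eq_of_rel hp]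
      exact hgm
  choose f hf using hex
  have huniq : ∀ (y : G ⧸ P.B) (p : Bool × Fin n), R P (word s t n p) ((1 : G) : G ⧸ P.B) y → f y = p := by
    intro y p hp
    have h1 := hf y
    generalize f y = p' at h1
    induction y using QuotientGroup.induction_on with
    | H g =>
      rw [R_mk_iff] at hp h1
      apply hinj
      exact rel_of_C_eq (word_mem hs ht _) (word_mem hs ht _) (C_eq_of_mem_mem h1 hp)
  have h1 : P.B.index = ∑ p : Bool × Fin n, q P (word s t n p) := by
    have h2 : P.B.index = Nat.card (G ⧸ P.B) := rfl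
    rw [h2, Nat.card_congr (Equiv.sigmaFiberEquiv f).symm, Nat.card_sigma]
    refine Finset.sum_congr rfl fun p _ => ?_
    unfold q
    refine Nat.card_congr (Equiv.subtypeEquivRight fun y => ?_)
    constructor
    · intro h; rw [← h]; exact hf y
    · exact huniq y p
  rw [h1, Fintype.sum_prod_type, Fintype.sum_bool, ← Fin.sum_univ_eq_sum_range (fun k => q P (alt k s t)),
    ← Fin.sum_univ_eq_sum_range (fun k => q P (alt (k + 1) t s))]
  rfl

/-- the number of chambers in a panel -/
theorem relIndex_parabolic (hs : s ∈ P.S) : P.B.relIndex (P.parabolic {s}) = 1 + q P s := by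
  classical
  have : Fintype (G ⧸ P.B) := Fintype.ofFinite _
  have hle := B_le_parabolic P {s}
  let H := P.B.subgroupOf (P.parabolic {s})
  let f : P.parabolic {s} ⧸ H → G ⧸ P.B := Quotient.map' (Subgroup.subtype _) (by
    intro a b hab
    rw [QuotientGroup.leftRel_apply] at hab ⊢
    exact hab)
  have hfmk : ∀ x : P.parabolic {s}, f (x : P.parabolic {s} ⧸ H) = ((x : G) : G ⧸ P.B) := fun x => rfl
  have hf : Function.Injective f := by
    intro a b hab
    induction a using QuotientGroup.induction_on with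
    | H a =>
    induction b using QuotientGroup.induction_on with
    | H b =>
      rw [hfmk, hfmk, QuotientGroup.eq] at hab
      rw [QuotientGroup.eq]
      exact hab
  have hrange : Set.range f = insert ((1 : G) : G ⧸ P.B) {y | R P s ((1 : G) : G ⧸ P.B) y} := by
    ext y
    constructor
    · rintro ⟨x, rfl⟩
      induction x using QuotientGroup.induction_on with
      | H x =>
        rw [hfmk]
        rcases mem_parabolic_singleton P hs x.2 with h | ⟨b, hb, b', hb', h⟩
        · left
          rw [eq_comm, QuotientGroup.eq, inv_one, one_mul]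
          exact h
        · right
          change R P s _ _
          rw [R_mk_iff, inv_one, one_mul]
          exact mem_C.2 ⟨b, hb, b', hb', h⟩
    · intro hy
      induction y using QuotientGroup.induction_on with
      | H g =>
        have hg : g ∈ P.parabolic {s} := by
          rcases hy with hy | hy
          · rw [eq_comm, QuotientGroup.eq, inv_one, one_mul] at hy
            exact hle hy
          · change R P s _ _ at hy
            rw [R_mk_iff, inv_one, one_mul] at hy
            obtain ⟨b, hb, b', hb', h⟩ := mem_C.1 hy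
            rw [h]
            exact mul_mem (mul_mem (hle hb) (mem_parabolic_self P s)) (hle hb')
        exact ⟨((⟨g, hg⟩ : P.parabolic {s}) : P.parabolic {s} ⧸ H), hfmk _⟩
  have h1 : P.B.relIndex (P.parabolic {s}) = Nat.card (P.parabolic {s} ⧸ H) := rfl
  have h2 : Nat.card (P.parabolic {s} ⧸ H) = (Set.range f).ncard := by
    rw [← Nat.card_coe_set_eq, Nat.card_congr (Equiv.ofInjective f hf)]
  rw [h1, h2, hrange, Set.ncard_insert_of_notMem, add_comm]
  · congr 1
  · intro h
    exact R_irrefl (not_mem_B hs) _ h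

/-- the parameters are powers of the characteristic -/
theorem q_pow {p : ℕ} [hp : Fact p.Prime] {U : Subgroup G} (h : FixBN.Split P p U) (hs : s ∈ P.S) :
    ∃ a, q P s = p ^ a := by
  have h1 : MulAction.orbit U ((s : G) : G ⧸ P.B) = {y | R P s ((1 : G) : G ⧸ P.B) y} := by
    ext y
    constructor
    · rintro ⟨u, rfl⟩
      change R P s _ (((u : G) * s : G) : G ⧸ P.B)
      rw [R_mk_iff, inv_one, one_mul]
      exact mem_C.2 ⟨u, h.le u.2, 1, one_mem _, by rw [mul_one]⟩
    · intro hy
      induction y using QuotientGroup.induction_on with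
      | H g =>
        change R P s _ _ at hy
        rw [R_mk_iff, inv_one, one_mul] at hy
        obtain ⟨b, hb, b', hb', hg⟩ := mem_C.1 hy
        have hgP : g ∈ P.parabolic {s} := by
          rw [hg]
          exact mul_mem (mul_mem (B_le_parabolic P _ hb) (mem_parabolic_self P s)) (B_le_parabolic P _ hb')
        have hgB : g ∉ P.B := by
          intro hgB
          have h2 : s = b⁻¹ * g * b'⁻¹ := by rw [hg]; group
          apply not_mem_B hs
          rw [h2]
          exact mul_mem (mul_mem (inv_mem hb) hgB) (inv_mem hb')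
        obtain ⟨u, hu, c, hc, hgc⟩ := Cfsg.Agent.Schreier.BNSch.exists_of_mem_parabolic P h.le h.cover hs hgP hgB
        refine ⟨⟨u, hu⟩, ?_⟩
        change ((u * s : G) : G ⧸ P.B) = _
        rw [QuotientGroup.eq, hgc]
        have h2 : (u * s)⁻¹ * (u * s * c) = c := by group
        rw [h2]
        exact hc
  obtain ⟨a, ha⟩ := h.isP.card_orbit ((s : G) : G ⧸ P.B)
  refine ⟨a, ?_⟩
  rw [← ha, h1]
  rfl
end

/-! ### arithmetic -/

theorem exists_odd_prime_of_odd {c : ℕ} (hc : Odd c) (h1 : c ≠ 1) : ∃ r : ℕ, r.Prime ∧ r ≠ 2 ∧ r ∣ c := by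
  obtain ⟨r, hr, hrc⟩ := Nat.exists_prime_and_dvd h1
  refine ⟨r, hr, ?_, hrc⟩
  rintro rfl
  exact (Nat.not_even_iff_odd.mpr hc) (even_iff_two_dvd.mpr hrc)

/-- a number which is not a power of 2 has an odd prime divisor -/
theorem exists_odd_prime_of_ne {c : ℕ} (h0 : c ≠ 0) (h : ∀ n, c ≠ 2 ^ n) : ∃ r : ℕ, r.Prime ∧ r ≠ 2 ∧ r ∣ c := by
  obtain ⟨k, m, hm, hc⟩ := Nat.exists_eq_two_pow_mul_odd h0
  have hm1 : m ≠ 1 := by
    rintro rfl
    exact h k (by rw [hc, mul_one])
  obtain ⟨r, hr, hr2, hrm⟩ := exists_odd_prime_of_odd hm hm1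
  exact ⟨r, hr, hr2, hc ▸ Dvd.dvd.mul_left hrm _⟩

theorem odd_prime_four {p a b : ℕ} (hp : p.Prime) (ha : a ≠ 0) (hb : b ≠ 0) :
    ∃ r : ℕ, r.Prime ∧ r ≠ 2 ∧ r ∣ 1 + p ^ a * p ^ b := by
  rcases hp.eq_two_or_odd' with rfl | hodd
  · apply exists_odd_prime_of_odd
    · have h1 : Even (2 ^ a * 2 ^ b) := Even.mul_right ((Nat.even_pow' ha).mpr even_two) _
      exact h1.one_add
    · have : 0 < 2 ^ a * 2 ^ b := by positivity
      omega
  · apply exists_odd_prime_of_ne (by positivity)
    intro n hn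
    rw [← pow_add, add_comm] at hn
    have h1 := FixBN.Gates.eq_one_of_pow hodd hp.one_lt (by omega) hn
    omega

theorem odd_prime_six {x : ℕ} (hx : 1 ≤ x) : ∃ r : ℕ, r.Prime ∧ r ≠ 2 ∧ r ∣ 1 + x + x ^ 2 := by
  apply exists_odd_prime_of_odd
  · have h1 : Even (x + x ^ 2) := by
      rw [show x + x ^ 2 = x * (x + 1) by ring]
      exact Nat.even_mul_succ_self x
    have := h1.one_add
    rwa [← add_assoc] at this
  · have : 0 < x ^ 2 := by positivity
    omega

theorem odd_prime_eight {x : ℕ} (hx : 2 ≤ x) : ∃ r : ℕ, r.Prime ∧ r ≠ 2 ∧ r ∣ 1 + x ^ 2 := by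
  apply exists_odd_prime_of_ne (by positivity)
  intro n hn
  have h1 : 4 ≤ x ^ 2 := by nlinarith
  have h2 : 2 ≤ n := by
    by_contra h
    have : n = 0 ∨ n = 1 := by omega
    rcases this with rfl | rfl <;> omega
  obtain ⟨m, rfl⟩ : ∃ m, n = m + 2 := ⟨n - 2, by omega⟩
  have h3 : (1 + x ^ 2) % 4 = 0 := by
    rw [hn, pow_add]
    omega
  have h4 : x ^ 2 % 4 = 0 ∨ x ^ 2 % 4 = 1 := by
    rcases Nat.even_or_odd' x with ⟨k, rfl | rfl⟩
    · left
      rw [show (2 * k) ^ 2 = 4 * k ^ 2 by ring]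
      omega
    · right
      rw [show (2 * k + 1) ^ 2 = 4 * (k ^ 2 + k) + 1 by ring]
      omega
  omega

/-- **The indices of the two maximal parabolics have a common odd prime divisor.** -/
theorem exists_common {s t : G} {p : ℕ} [hp : Fact p.Prime] {U : Subgroup G} (h : FixBN.Split P p U)
    (hS : P.S = {s, t}) (hst : s ≠ t) (hirr : s * t * s⁻¹ * t⁻¹ ∉ P.B) :
    ∃ r : ℕ, r.Prime ∧ r ≠ 2 ∧ r ∣ (P.parabolic {s}).index ∧ r ∣ (P.parabolic {t}).index := by
  have hs : s ∈ P.S := by rw [hS]; simp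
  have ht : t ∈ P.S := by rw [hS]; simp
  obtain ⟨n, hn2, hred, hbraid, hne⟩ := exists_max_red hS hst
  have hredle : ∀ k, k ≤ n → Red P s t k := fun k hk => hred.of_le hs ht hk
  have hidx := index_B hS (by omega) hred hbraid hne
  have hW := card_weyl hS (by omega) hred hbraid hne
  have h2 : P.rank = 2 := by
    change Nat.card P.S = 2
    rw [Nat.card_coe_set_eq, hS, Set.ncard_pair hst]
  have hFH := Cfsg.Agent.S1142.result P h2
  rw [hW] at hFH
  have hA : ∀ k, k < n → q P (alt (k + 1) s t) = q P s * q P (alt k t s) := by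
    intro k hk
    rw [alt_succ]
    apply q_mul hs (alt_mem_N ht hs k)
    rw [← alt_succ, (hredle (k + 1) hk).1, (hredle k hk.le).2]
    exact Nat.le_succ k
  have hB : ∀ k, k < n → q P (alt (k + 1) t s) = q P t * q P (alt k s t) := by
    intro k hk
    rw [alt_succ]
    apply q_mul ht (alt_mem_N hs ht k)
    rw [← alt_succ, (hredle (k + 1) hk).2, (hredle k hk.le).1]
    exact Nat.le_succ k
  have hA0 : q P (alt 0 s t) = 1 := q_one
  have hB0 : q P (alt 0 t s) = 1 := q_one
  have hbr : q P (alt n s t) = q P (alt n t s) := q_congr hbraid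
  have hns : (P.parabolic {s}).index * (1 + q P s) = P.B.index := by
    rw [← relIndex_parabolic hs, mul_comm]
    exact Subgroup.relIndex_mul_index (B_le_parabolic P {s})
  have hnt : (P.parabolic {t}).index * (1 + q P t) = P.B.index := by
    rw [← relIndex_parabolic ht, mul_comm]
    exact Subgroup.relIndex_mul_index (B_le_parabolic P {t})
  have hqs := two_le_q (P := P) hs
  have hqt := two_le_q (P := P) ht
  have hprod : 2 ≤ q P s * q P t := hqs.trans (Nat.le_mul_of_pos_right _ (by omega))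
  obtain ⟨a, ha⟩ := q_pow h hs
  obtain ⟨b, hb⟩ := q_pow h ht
  generalize (P.parabolic {s}).index = ns at *
  generalize (P.parabolic {t}).index = nt at *
  -- it is enough to write both indices as multiples of the same number
  have fin : ∀ c : ℕ, P.B.index = (1 + q P s) * (1 + q P t) * c → ∀ d, d ∣ c →
      (∃ r : ℕ, r.Prime ∧ r ≠ 2 ∧ r ∣ d) → ∃ r : ℕ, r.Prime ∧ r ≠ 2 ∧ r ∣ ns ∧ r ∣ nt := by
    intro c hc d hd ⟨r, hr, hr2, hrd⟩
    have e1 : ns = (1 + q P t) * c := by
      have : ns * (1 + q P s) = ((1 + q P t) * c) * (1 + q P s) := by rw [hns, hc]; ring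
      exact Nat.eq_of_mul_eq_mul_right (by positivity) this
    have e2 : nt = (1 + q P s) * c := by
      have : nt * (1 + q P t) = ((1 + q P s) * c) * (1 + q P t) := by rw [hnt, hc]; ring
      exact Nat.eq_of_mul_eq_mul_right (by positivity) this
    exact ⟨r, hr, hr2, e1 ▸ Dvd.dvd.mul_left (hrd.trans hd) _, e2 ▸ Dvd.dvd.mul_left (hrd.trans hd) _⟩
  have hcases : n = 2 ∨ n = 3 ∨ n = 4 ∨ n = 6 ∨ n = 8 := by
    simp only [Set.mem_insert_iff, Set.mem_singleton_iff] at hFH
    omega
  rcases hcases with rfl | rfl | rfl | rfl | rfl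
  · -- reducible
    exfalso
    apply hirr
    have e1 : alt 2 s t = s * t := by rw [alt_succ, alt_one]
    have e2 : alt 2 t s = t * s := by rw [alt_succ, alt_one]
    rw [e1, e2] at hbraid
    have hNs := mem_N (P := P) hs
    have hNt := mem_N (P := P) ht
    have h5 : ((s * t)⁻¹ * (t * s))⁻¹ ∈ P.B ⊓ P.N :=
      inv_mem (Subgroup.mem_inf.mpr ⟨hbraid, mul_mem (inv_mem (mul_mem hNs hNt)) (mul_mem hNt hNs)⟩)
    have h6 := P.conj_mem (s * t) (mul_mem hNs hNt) _ h5
    have h7 : s * t * ((s * t)⁻¹ * (t * s))⁻¹ * (s * t)⁻¹ = s * t * s⁻¹ * t⁻¹ := by group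
    rwa [h7] at h6
  · have a1 := hA 0 (by norm_num)
    have a2 := hA 1 (by norm_num)
    have a3 := hA 2 (by norm_num)
    have b1 := hB 0 (by norm_num)
    have b2 := hB 1 (by norm_num)
    have b3 := hB 2 (by norm_num)
    simp only [zero_add, Nat.reduceAdd] at a1 a2 a3 b1 b2 b3
    simp only [Finset.sum_range_succ, Finset.sum_range_zero, zero_add, Nat.reduceAdd] at hidx
    rw [hB0, mul_one] at a1
    rw [hA0, mul_one] at b1
    rw [b1] at a2
    rw [a1] at b2
    rw [b2] at a3
    rw [a2] at b3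
    rw [a3, b3] at hbr
    have hq : q P s = q P t := by
      have h8 : q P s * (q P s * q P t) = q P t * (q P s * q P t) := by
        calc q P s * (q P s * q P t) = q P s * (q P t * q P s) := by ring
          _ = q P t * (q P s * q P t) := hbr
      exact Nat.eq_of_mul_eq_mul_right (by positivity) h8
    rw [hA0, a1, a2, b1, b2, b3, ← hq] at hidx
    obtain ⟨r, hr, hr2, hrc⟩ := odd_prime_six (x := q P s) (by omega)
    have e1 : ns = 1 + q P s + q P s ^ 2 := by
      have : ns * (1 + q P s) = (1 + q P s + q P s ^ 2) * (1 + q P s) := by rw [hns, hidx]; ring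
      exact Nat.eq_of_mul_eq_mul_right (by positivity) this
    have e2 : nt = 1 + q P s + q P s ^ 2 := by
      rw [← hq] at hnt
      have : nt * (1 + q P s) = (1 + q P s + q P s ^ 2) * (1 + q P s) := by rw [hnt, hidx]; ring
      exact Nat.eq_of_mul_eq_mul_right (by positivity) this
    exact ⟨r, hr, hr2, e1 ▸ hrc, e2 ▸ hrc⟩
  · have a1 := hA 0 (by norm_num)
    have a2 := hA 1 (by norm_num)
    have a3 := hA 2 (by norm_num)
    have b1 := hB 0 (by norm_num)
    have b2 := hB 1 (by norm_num)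
    have b3 := hB 2 (by norm_num)
    have b4 := hB 3 (by norm_num)
    simp only [zero_add, Nat.reduceAdd] at a1 a2 a3 b1 b2 b3 b4
    simp only [Finset.sum_range_succ, Finset.sum_range_zero, zero_add, Nat.reduceAdd] at hidx
    rw [hB0, mul_one] at a1
    rw [hA0, mul_one] at b1
    rw [b1] at a2
    rw [a1] at b2
    rw [b2] at a3
    rw [a2] at b3
    rw [a3] at b4
    rw [hA0, a1, a2, a3, b1, b2, b3, b4] at hidx
    refine fin (1 + q P s * q P t) (by rw [hidx]; ring) _ dvd_rfl ?_
    rw [ha, hb]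
    refine odd_prime_four hp.out ?_ ?_
    · rintro rfl; rw [ha] at hqs; norm_num at hqs
    · rintro rfl; rw [hb] at hqt; norm_num at hqt
  · have a1 := hA 0 (by norm_num)
    have a2 := hA 1 (by norm_num)
    have a3 := hA 2 (by norm_num)
    have a4 := hA 3 (by norm_num)
    have a5 := hA 4 (by norm_num)
    have b1 := hB 0 (by norm_num)
    have b2 := hB 1 (by norm_num)
    have b3 := hB 2 (by norm_num)
    have b4 := hB 3 (by norm_num)
    have b5 := hB 4 (by norm_num)
    have b6 := hB 5 (by norm_num)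
    simp only [zero_add, Nat.reduceAdd] at a1 a2 a3 a4 a5 b1 b2 b3 b4 b5 b6
    simp only [Finset.sum_range_succ, Finset.sum_range_zero, zero_add, Nat.reduceAdd] at hidx
    rw [hB0, mul_one] at a1
    rw [hA0, mul_one] at b1
    rw [b1] at a2
    rw [a1] at b2
    rw [b2] at a3
    rw [a2] at b3
    rw [b3] at a4
    rw [a3] at b4
    rw [b4] at a5
    rw [a4] at b5
    rw [a5] at b6
    rw [hA0, a1, a2, a3, a4, a5, b1, b2, b3, b4, b5, b6] at hidx
    refine fin (1 + q P s * q P t + (q P s * q P t) ^ 2) (by rw [hidx]; ring) _ dvd_rfl ?_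
    exact odd_prime_six (le_trans (by norm_num) hprod)
  · have a1 := hA 0 (by norm_num)
    have a2 := hA 1 (by norm_num)
    have a3 := hA 2 (by norm_num)
    have a4 := hA 3 (by norm_num)
    have a5 := hA 4 (by norm_num)
    have a6 := hA 5 (by norm_num)
    have a7 := hA 6 (by norm_num)
    have b1 := hB 0 (by norm_num)
    have b2 := hB 1 (by norm_num)
    have b3 := hB 2 (by norm_num)
    have b4 := hB 3 (by norm_num)
    have b5 := hB 4 (by norm_num)
    have b6 := hB 5 (by norm_num)
    have b7 := hB 6 (by norm_num)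
    have b8 := hB 7 (by norm_num)
    simp only [zero_add, Nat.reduceAdd] at a1 a2 a3 a4 a5 a6 a7 b1 b2 b3 b4 b5 b6 b7 b8
    simp only [Finset.sum_range_succ, Finset.sum_range_zero, zero_add, Nat.reduceAdd] at hidx
    rw [hB0, mul_one] at a1
    rw [hA0, mul_one] at b1
    rw [b1] at a2
    rw [a1] at b2
    rw [b2] at a3
    rw [a2] at b3
    rw [b3] at a4
    rw [a3] at b4
    rw [b4] at a5
    rw [a4] at b5
    rw [b5] at a6
    rw [a5] at b6
    rw [b6] at a7
    rw [a6] at b7
    rw [a7] at b8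
    rw [hA0, a1, a2, a3, a4, a5, a6, a7, b1, b2, b3, b4, b5, b6, b7, b8] at hidx
    refine fin ((1 + q P s * q P t) * (1 + (q P s * q P t) ^ 2)) (by rw [hidx]; ring) _ (Dvd.intro_left _ rfl) ?_
    exact odd_prime_eight hprod

end Cfsg.Agent.H580.RankTwo

private theorem dce_31e6bc0f0c7a : _root_.True := by
  try have : _root_.True := by simp only [_root_.Cfsg.Agent.H580.RankTwo.word.eq_1]
  exact _root_.True.intro
end
end
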