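import Mathlib
import Cfsg.Agent.H580.RankTwo
import Cfsg.Agent.H580.Graph
import Cfsg.Agent.Schreier.BNGraph
import Cfsg.Agent.FixBN.SplitRGD
import Cfsg.Agent.KFacts.RgdLieCharP
import Cfsg.Agent.CharactersDeep.QuatSylow
import Cfsg.Agent.Lib.NilpotentCoprime
import Cfsg.Agent.H519.LieRank
import Cfsg.Agent.FastGrp
import Cfsg.Agent.Prune
set_option linter.all false

section
prune_inst 0x7ffcfef9afb83ddfffff7e7ffffddffe39d4dfffefffff4bfffcfbffbfff230e3fe5fbaf9de0d8ff1ff7e2b630b87853f9ffc23fea6bdc7ffffd5ff45ffbee1fb5e7bd2d51d7b8341ffe6fffebf07fce7f3fffffffffffffffffffffffffffbefffdffffffff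

-- part: H580/Lie
section
set_option linter.all false
open scoped Cfsg.Agent.FastGrp

/-!
# Simple groups with a (B,N)-pair of rank at least two

`false_rank_two`, `false_of_rgd` : such a group has at least three classes of non-nilpotent maximal invariant
subgroups.
-/

set_option autoImplicit false
open scoped Pointwise

namespace Cfsg.Agent.H580.Lie

open MaxInv Two BN Cfsg.Agent.FixBN Cfsg.Agent.Schreier.BNSch

universe u v

variable {A : Type v} {G : Type u} [Group A] [Group G] [MulDistribMulAction A G]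

/-- **Rank two.** -/
theorem false_rank_two [Finite A] [Finite G] [IsSimpleGroup G] (hcop : (Nat.card A).Coprime (Nat.card G))
    (hsol : Group.IsSolvable A) (hodd : Odd (Nat.card A)) (hna : ¬ Group.IsSolvable G) (hcl : TwoCl A G)
    {p : ℕ} [hp : Fact p.Prime] {P₀ : Cfsg.BNPair G} {U₀ : Subgroup G} (h₀ : Split P₀ p U₀) {s₀ t₀ : G}
    (hS₀ : P₀.S = {s₀, t₀}) (hst₀ : s₀ ≠ t₀) (hirr₀ : s₀ * t₀ * s₀⁻¹ * t₀⁻¹ ∉ P₀.B) : False := by
  obtain ⟨g, hB, -⟩ := exists_inv hcop hsol h₀
  set e : G ≃* G := MulAut.conj g with he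
  set P : Cfsg.BNPair G := Transport.mapBN e P₀ with hP
  have h := Transport.split e P₀ h₀
  rw [← hP] at h
  set s := e s₀ with hs'
  set t := e t₀ with ht'
  have hS : P.S = {s, t} := by
    change e '' P₀.S = _
    rw [hS₀, Set.image_pair]
  have hst : s ≠ t := fun h => hst₀ (e.injective h)
  have hirr : s * t * s⁻¹ * t⁻¹ ∉ P.B := by
    intro h1
    apply hirr₀
    obtain ⟨y, hy, hy'⟩ := h1
    have : e y = e (s₀ * t₀ * s₀⁻¹ * t₀⁻¹) := by
      rw [map_mul, map_mul, map_mul, map_inv, map_inv]; exact hy'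
    rwa [← e.injective this]
  have hs : s ∈ P.S := by rw [hS]; simp
  have ht : t ∈ P.S := by rw [hS]; simp
  have hmin := inv_minimal_of_two hodd P hB hS
  have e1 : P.S \ {t} = {s} := by
    rw [hS]
    ext x
    simp only [Set.mem_sdiff, Set.mem_insert_iff, Set.mem_singleton_iff]
    constructor
    · rintro ⟨h | h, h'⟩
      · exact h
      · exact absurd h h'
    · rintro rfl
      exact ⟨Or.inl rfl, hst⟩
  have e2 : P.S \ {s} = {t} := by
    rw [hS]
    ext x
    simp only [Set.mem_sdiff, Set.mem_insert_iff, Set.mem_singleton_iff]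
    constructor
    · rintro ⟨h | h, h'⟩
      · exact absurd h h'
      · exact h
    · rintro rfl
      exact ⟨Or.inr rfl, hst.symm⟩
  have hcs := isCoatom_parabolic P ht
  have hct := isCoatom_parabolic P hs
  rw [e1] at hcs
  rw [e2] at hct
  have hMs := isMaxInv_of_isCoatom hcs (hmin s hs)
  have hMt := isMaxInv_of_isCoatom hct (hmin t ht)
  have hns := not_nilp_of_le P hs (le_refl (P.parabolic {s}))
  have hnt := not_nilp_of_le P ht (le_refl (P.parabolic {t}))
  have hnc : ∀ g : G, P.parabolic {t} ≠ MulAut.conj g • P.parabolic {s} := by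
    intro g
    have := ne_conj P ht hst.symm g
    rwa [e1, e2] at this
  obtain ⟨M₁, M₂, hcov⟩ := hcl.cov hMs hns
  obtain ⟨r, hr, hr2, hrs, hrt⟩ := RankTwo.exists_common h hS hst hirr
  have := Fact.mk hr
  have hrG : r ∣ Nat.card G := hrs.trans (Subgroup.index_dvd_card _)
  have key : r ∣ M₁.index ∧ r ∣ M₂.index := by
    obtain ⟨c, hc⟩ := hcov.2.2 _ hMs hns
    obtain ⟨d, hd⟩ := hcov.2.2 _ hMt hnt
    rcases hc with hc | hc <;> rcases hd with hd | hd
    · exact absurd (show P.parabolic {t} = MulAut.conj (d * c⁻¹) • P.parabolic {s} by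
        rw [hc, hd, smul_smul, ← map_mul, inv_mul_cancel_right]) (hnc _)
    · rw [hc, index_conj] at hrs
      rw [hd, index_conj] at hrt
      exact ⟨hrs, hrt⟩
    · rw [hc, index_conj] at hrs
      rw [hd, index_conj] at hrt
      exact ⟨hrt, hrs⟩
    · exact absurd (show P.parabolic {t} = MulAut.conj (d * c⁻¹) • P.parabolic {s} by
        rw [hc, hd, smul_smul, ← map_mul, inv_mul_cancel_right]) (hnc _)
  have hbad : ∀ n : ℕ, r ∣ n → ¬ n ≡ 1 [MOD r] := by
    intro n hn h1
    have h2 : r ∣ 1 := (h1.dvd_iff dvd_rfl).mp hn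
    exact hr.one_lt.ne' (Nat.dvd_one.mp h2)
  rcases hcov.modEq hcop hsol hna hr2 hrG with h1 | h1
  · exact hbad _ key.1 h1
  · exact hbad _ key.2 h1

/-! ### rank at least three, from root group data -/

section
open CoxeterSystem Cfsg.Agent.ChevalleyStructure.CoxeterGeom Cfsg.Agent.Tits.Roots
  Cfsg.Agent.Nodes.Reps Cfsg.Agent.Nodes.BNOf

variable {I : Type*} [Fintype I] [DecidableEq I] {M : CoxeterMatrix I} {W : Type*} [Group W]
  {cs : CoxeterSystem M W} {C : I → I → ℤ} {h : IsCartan M C} {p : ℕ} {T : Subgroup G} {n : I → G}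
  {X : (I → ℤ) → Subgroup G}

theorem mem_of_pow_mem {x : G} {m : ℕ} {T : Subgroup G} (hx : x ^ m ∈ T) (hm : Nat.Coprime m (orderOf x)) : x ∈ T := by
  obtain ⟨k, hk⟩ := exists_pow_eq_self_of_coprime hm
  rw [← hk]
  exact pow_mem hx k

theorem n_notMem [Finite W] (R : RGD cs h p T n X) (i : I) : n i ∉ T := by
  intro hi
  have h1 := R.eq_one_of_mem_B (rp_simple cs R.nsys i) (RGD.T_le_B hi)
  exact Cfsg.Agent.KFacts.RgdDiag.simple_ne_one (cs := cs) i h1

theorem two_dvd [Finite G] [Finite W] (R : RGD cs h p T n X) (i : I) : 2 ∣ Nat.card G := by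
  by_contra hcon
  apply n_notMem R i
  refine mem_of_pow_mem (m := 2) ?_ ?_
  · rw [pow_two]
    exact R.sq_mem_T i
  · rw [Nat.Prime.coprime_iff_not_dvd Nat.prime_two]
    exact fun h => hcon (h.trans (orderOf_dvd_natCard _))

theorem three_dvd [Finite G] [Finite W] (R : RGD cs h p T n X) {i j : I} (hij : M i j = 3) : 3 ∣ Nat.card G := by
  by_contra hcon
  have h1 : n i * n j ∈ T := by
    refine mem_of_pow_mem (m := 3) ?_ ?_
    · rw [← hij]
      exact R.nsys.rel i j
    · rw [Nat.Prime.coprime_iff_not_dvd Nat.prime_three]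
      exact fun h => hcon (h.trans (orderOf_dvd_natCard _))
  have h2 := R.eq_one_of_mem_B ((rp_simple cs R.nsys i).mul (rp_simple cs R.nsys j)) (RGD.T_le_B h1)
  have h3 : cs.simple i = cs.simple j := by
    have h4 := mul_eq_one_iff_eq_inv.mp h2
    rw [h4, inv_simple]
  have h5 : i = j := by
    by_contra hne
    exact RGD.simple_ne (cs := cs) (h := h) hne h3
  rw [h5, M.diagonal] at hij
  omega

/-- adjacency in terms of the (B,N)-pair -/
theorem adj_iff [Finite W] (R : RGD cs h p T n X) {i j : I} (hij : i ≠ j) :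
    Graph.Adj M i j ↔ n i * n j * (n i)⁻¹ * (n j)⁻¹ ∉ RGD.B cs h T X := by
  constructor
  · rintro ⟨-, h2⟩ hm
    have h1 := R.eq_one_of_mem_B ((((rp_simple cs R.nsys i).mul (rp_simple cs R.nsys j)).mul
      (rp_simple cs R.nsys i).inv).mul (rp_simple cs R.nsys j).inv) hm
    exact RGD.comm_ne (cs := cs) (h := h) hij h2 h1
  · intro hm
    refine ⟨hij, fun h2 => hm ?_⟩
    have h1 : Rp cs R.nsys (cs.simple i * cs.simple j * (cs.simple i)⁻¹ * (cs.simple j)⁻¹)
        (n i * n j * (n i)⁻¹ * (n j)⁻¹) := (((rp_simple cs R.nsys i).mul (rp_simple cs R.nsys j)).mul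
      (rp_simple cs R.nsys i).inv).mul (rp_simple cs R.nsys j).inv
    have h3 : cs.simple i * cs.simple j * (cs.simple i)⁻¹ * (cs.simple j)⁻¹ = 1 := by
      have h4 := cs.simple_mul_simple_pow i j
      rw [h2, pow_two] at h4
      rw [inv_simple, inv_simple, mul_assoc]
      exact h4
    rw [h3] at h1
    exact RGD.T_le_B h1.mem_of_one

/-- **Groups with root group data of rank at least two.** -/
theorem false_of_rgd [Finite A] [Finite G] [IsSimpleGroup G] [Finite W] (hcop : (Nat.card A).Coprime (Nat.card G))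
    (hsol : Group.IsSolvable A) (hodd : Odd (Nat.card A)) (hna : ¬ Group.IsSolvable G) (hcl : TwoCl A G)
    [hp : Fact p.Prime] (R : RGD cs h p T n X) (hgen : RGD.B cs h T X ⊔ NN cs R.nsys = ⊤)
    (hconn : Cfsg.Agent.KFacts.RgdCharP.Conn M) (hI : 2 ≤ Fintype.card I) : False := by
  classical
  obtain ⟨i₀⟩ : Nonempty I := Fintype.card_pos_iff.mp (by omega)
  have hne : (R.bnPair hgen).S.Nonempty := ⟨n i₀, i₀, rfl⟩
  have hsplit := SplitRGD.split_of_rgd hp.out R hgen (Cfsg.Agent.Tits.OfBN.normalCore_eq_bot (R.bnPair hgen) hne)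
  rcases hI.eq_or_lt with h2 | h3
  · -- rank two
    obtain ⟨i, j, hij, hu⟩ : ∃ i j : I, i ≠ j ∧ (Finset.univ : Finset I) = {i, j} := by
      obtain ⟨i, j, hij, hu⟩ := Finset.card_eq_two.mp (show (Finset.univ : Finset I).card = 2 from h2.symm)
      exact ⟨i, j, hij, hu⟩
    have hS : (R.bnPair hgen).S = {n i, n j} := by
      change Set.range n = _
      ext x
      constructor
      · rintro ⟨k, rfl⟩
        have hk : k ∈ ({i, j} : Finset I) := hu ▸ Finset.mem_univ k
        rw [Finset.mem_insert, Finset.mem_singleton] at hk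
        rcases hk with rfl | rfl
        · exact Or.inl rfl
        · exact Or.inr rfl
      · rintro (rfl | h)
        · exact ⟨i, rfl⟩
        · exact ⟨j, h.symm⟩
    refine false_rank_two hcop hsol hodd hna hcl hsplit hS (fun h => hij (R.n_injective h)) ?_
    refine (adj_iff R hij).mp ⟨hij, ?_⟩
    obtain ⟨a, ha, b, hb, hab⟩ := hconn {i} (Set.singleton_nonempty i) (by
      intro h
      have : j ∈ ({i} : Set I) := h ▸ Set.mem_univ j
      exact hij this.symm)
    rw [Set.mem_singleton_iff] at ha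
    have hbj : b = j := by
      have hk : b ∈ ({i, j} : Finset I) := hu ▸ Finset.mem_univ b
      rw [Finset.mem_insert, Finset.mem_singleton] at hk
      rcases hk with h | h
      · exact absurd h hb
      · exact h
    rwa [ha, hbj] at hab
  · -- rank at least three
    have h5 : ∀ a b : I, M a b ≠ 5 := by
      intro a b hab
      by_cases hne : a = b
      · rw [hne, M.diagonal] at hab; omega
      · rcases h.rel a b hne with h1 | h1 | h1 | h1 <;> omega
    have hconn' : ∀ J : Set I, J.Nonempty → Jᶜ.Nonempty → ∃ a ∈ J, ∃ b ∈ Jᶜ, M a b ≠ 2 := by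
      intro J hJ hJc
      exact hconn J hJ (fun h => by rw [h, Set.compl_univ] at hJc; exact Set.not_nonempty_empty hJc)
    obtain ⟨a₀, b₀, h30⟩ := Graph.exists_three cs h5 hconn' h3
    have hcop6 : (Nat.card A).Coprime 6 := by
      refine Nat.Coprime.coprime_dvd_right ?_ hcop
      exact (by norm_num : Nat.Coprime 2 3).mul_dvd_of_dvd_of_dvd (two_dvd R i₀) (three_dvd R h30)
    obtain ⟨g, hB, -⟩ := exists_inv hcop hsol hsplit
    set e : G ≃* G := MulAut.conj g with he
    set P₀ := R.bnPair hgen with hP₀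
    set P : Cfsg.BNPair G := Transport.mapBN e P₀ with hP
    let s : I → G := fun i => e (n i)
    have hs : Set.range s = P.S := by
      change Set.range (fun i => e (n i)) = e '' Set.range n
      rw [← Set.range_comp]
      rfl
    have hinj : Function.Injective s := fun i j hij => R.n_injective (e.injective hij)
    have hadj : ∀ i j, i ≠ j → (Graph.Adj M i j ↔ s i * s j * (s i)⁻¹ * (s j)⁻¹ ∉ P.B) := by
      intro i j hij
      rw [adj_iff R hij, not_iff_not]
      have e1 : s i * s j * (s i)⁻¹ * (s j)⁻¹ = e (n i * n j * (n i)⁻¹ * (n j)⁻¹) := by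
        rw [map_mul, map_mul, map_mul, map_inv, map_inv]
      rw [e1]
      constructor
      · intro h1; exact ⟨_, h1, rfl⟩
      · rintro ⟨y, hy, hy'⟩
        have : y = n i * n j * (n i)⁻¹ * (n j)⁻¹ := e.injective hy'
        rwa [← this]
    have hmin : ∀ x ∈ P.S, Inv A (P.parabolic {x}) := by
      intro x hx
      rw [← hs] at hx
      obtain ⟨i, rfl⟩ := hx
      intro a
      obtain ⟨σ, hσ1, hσ2⟩ := Cfsg.Agent.Schreier.BNGraph.exists_perm P s hs hinj (Graph.Adj M)
        (fun i hi => hi.1 rfl) hadj (aut G a) (inv_map_eq hB a)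
      have hpow : ∀ (k : ℕ) (i : I), (P.parabolic {s i}).map ((aut G a) ^ k).toMonoidHom = P.parabolic {s ((σ ^ k) i)} := by
        intro k
        induction k with
        | zero =>
          intro i
          rw [pow_zero, pow_zero]
          exact Subgroup.map_id _
        | succ k ih =>
          intro i
          have e2 : ((aut G a) ^ (k + 1)).toMonoidHom = ((aut G a) ^ k).toMonoidHom.comp (aut G a).toMonoidHom := by
            rw [pow_succ]; rfl
          rw [e2, ← Subgroup.map_map, hσ1, ih, pow_succ]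
          rfl
      have hσk : σ ^ Nat.card A = 1 := by
        ext i
        have h6 := hpow (Nat.card A) i
        rw [aut_pow_card] at h6
        have h7 : P.parabolic {s i} = P.parabolic {s ((σ ^ Nat.card A) i)} := by
          rw [← h6]
          exact (Subgroup.map_id _).symm
        have hsS : ∀ i, ({s i} : Set G) ⊆ P.S := fun i => Set.singleton_subset_iff.mpr (hs ▸ ⟨i, rfl⟩)
        have h8 := Cfsg.Agent.S0314.result P (hsS _) (hsS _) h7
        exact (hinj (Set.singleton_eq_singleton_iff.mp h8)).symm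
      have hσ : σ = 1 := Graph.eq_one cs h5 hconn' h3 hσ2 hcop6 hσk
      have h9 := hσ1 i
      rw [hσ] at h9
      intro y hy
      have h10 : (aut G a) y ∈ (P.parabolic {s i}).map (aut G a).toMonoidHom := ⟨y, hy, rfl⟩
      rw [h9] at h10
      exact h10
    obtain ⟨i, j, k, hij, hik, hjk⟩ := Fintype.two_lt_card_iff.mp h3
    have hsS : ∀ i, s i ∈ P.S := fun i => hs ▸ ⟨i, rfl⟩
    have hij' : s i ≠ s j := fun h => hij (hinj h)
    have hinvij : Inv A (P.parabolic (P.S \ {s i})) := inv_parabolic P hB hmin Set.sdiff_subset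
    have hMi := isMaxInv_of_isCoatom (isCoatom_parabolic P (hsS i)) hinvij
    have hni : ¬ Group.IsNilpotent (P.parabolic (P.S \ {s i})) :=
      not_nilp_of_le P (hsS j) (parabolic_mono P (Set.singleton_subset_iff.mpr ⟨hsS j, fun h => hij' h.symm⟩))
    obtain ⟨M₁, M₂, hcov⟩ := hcl.cov hMi hni
    exact false_of_rank_three P hcov hB hmin (hsS i) (hsS j) (hsS k) hij' (fun h => hik (hinj h))
      (fun h => hjk (hinj h))

end

end Cfsg.Agent.H580.Lie
end

-- part: H580/RankOne
section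
set_option linter.all false
open scoped Cfsg.Agent.FastGrp

/-!
# Split (B,N)-pairs of rank one
-/

set_option autoImplicit false
open scoped Pointwise

namespace Cfsg.Agent.H580.RankOne

open MaxInv Two BN RankTwo Cfsg.Agent.FixBN Cfsg.Agent.Schreier.BNSch
open Cfsg.Agent.LieExceptional.BNPairCore (mem_C)
open Cfsg.Agent.LieRecognition.FeitHigmanGroup (q R R_mk_iff)

universe u v

variable {A : Type v} {G : Type u} [Group A] [Group G] [MulDistribMulAction A G]

theorem parabolic_eq_top {P : Cfsg.BNPair G} {s : G} (hS : P.S = {s}) : P.parabolic {s} = ⊤ := by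
  rw [← hS]; exact parabolic_S P

/-- the order of `U` is the parameter -/
theorem q_eq [Finite G] {P : Cfsg.BNPair G} {p : ℕ} {U : Subgroup G} (h : Split P p U) {s : G} (hS : P.S = {s}) :
    q P s = Nat.card U := by
  have hs : s ∈ P.S := by rw [hS]; rfl
  obtain ⟨V, hV⟩ := h.node s hs
  have hVbot : ∀ v ∈ V, v = 1 := by
    intro v hv
    have h1 : v ∈ P.B.normalCore := by
      intro g
      have h2 := hV.conj_mem (g := g⁻¹) (by rw [parabolic_eq_top hS]; trivial) hv
      rw [inv_inv] at h2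
      exact h.le (hV.le h2)
    rw [h.core] at h1
    exact Subgroup.mem_bot.mp h1
  unfold q
  symm
  let f : U → {y : G ⧸ P.B // R P s ((1 : G) : G ⧸ P.B) y} := fun u => ⟨(((u : G) * s : G) : G ⧸ P.B), by
    rw [R_mk_iff, inv_one, one_mul]
    exact mem_C.2 ⟨u, h.le u.2, 1, one_mem _, by rw [mul_one]⟩⟩
  refine Nat.card_congr (Equiv.ofBijective f ⟨?_, ?_⟩)
  · intro u u' huu
    have h1 : (((u : G) * s : G) : G ⧸ P.B) = (((u' : G) * s : G) : G ⧸ P.B) := congrArg Subtype.val huu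
    rw [QuotientGroup.eq] at h1
    have h2 : s⁻¹ * ((u : G)⁻¹ * u') * s ∈ P.B := by
      have e : ((u : G) * s)⁻¹ * ((u' : G) * s) = s⁻¹ * ((u : G)⁻¹ * u') * s := by group
      rwa [e] at h1
    have h3 := hVbot _ (hV.stab _ (mul_mem (inv_mem u.2) u'.2) h2)
    exact Subtype.ext (inv_mul_eq_one.mp h3)
  · rintro ⟨y, hy⟩
    induction y using QuotientGroup.induction_on with
    | H g =>
      have hy' := hy
      rw [R_mk_iff, inv_one, one_mul] at hy'
      obtain ⟨b, hb, b', hb', hg⟩ := mem_C.1 hy'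
      have hgB : g ∉ P.B := by
        intro hgB
        have h2 : s = b⁻¹ * g * b'⁻¹ := by rw [hg]; group
        apply not_mem_B P hs
        rw [h2]
        exact mul_mem (mul_mem (inv_mem hb) hgB) (inv_mem hb')
      obtain ⟨u, hu, c, hc, hgc⟩ := exists_of_mem_parabolic P h.le h.cover hs
        (by rw [parabolic_eq_top hS]; trivial : g ∈ P.parabolic {s}) hgB
      refine ⟨⟨u, hu⟩, ?_⟩
      apply Subtype.ext
      change ((u * s : G) : G ⧸ P.B) = _
      rw [QuotientGroup.eq, hgc]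
      have h2 : (u * s)⁻¹ * (u * s * c) = c := by group
      rw [h2]
      exact hc

theorem index_B [Finite G] {P : Cfsg.BNPair G} {p : ℕ} {U : Subgroup G} (h : Split P p U) {s : G} (hS : P.S = {s}) :
    P.B.index = 1 + Nat.card U := by
  have hs : s ∈ P.S := by rw [hS]; rfl
  have h1 := relIndex_parabolic (P := P) hs
  rw [parabolic_eq_top hS, Subgroup.relIndex_top_right, q_eq h hS] at h1
  exact h1

/-- **Split (B,N)-pairs of rank one.** -/
theorem false_rank_one [Finite A] [Finite G] [IsSimpleGroup G] (hcop : (Nat.card A).Coprime (Nat.card G))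
    (hsol : Group.IsSolvable A) (hna : ¬ Group.IsSolvable G) (hcl : TwoCl A G)
    {p : ℕ} [hp : Fact p.Prime] {P₀ : Cfsg.BNPair G} {U₀ : Subgroup G} (h₀ : Split P₀ p U₀) {s₀ : G}
    (hS₀ : P₀.S = {s₀}) {f : ℕ} (hf₀ : Nat.card U₀ = p ^ f) (hBn₀ : ¬ Group.IsNilpotent P₀.B)
    (hX : p ≠ 2 → ∃ X : Subgroup G, X ≠ ⊤ ∧ StableClass A X ∧ ¬ Group.IsNilpotent X ∧ Odd X.index)
    (hc : ∀ j ≤ f, (∀ r, r.Prime → r ≠ 2 → r ≠ p → r ∣ Nat.card G → p ^ j ≡ 1 [MOD r]) → j = 0) : False := by
  obtain ⟨g, hB, -⟩ := exists_inv hcop hsol h₀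
  set e : G ≃* G := MulAut.conj g with he
  set P : Cfsg.BNPair G := Transport.mapBN e P₀ with hP
  have h := Transport.split e P₀ h₀
  rw [← hP] at h
  set U := U₀.map e.toMonoidHom with hU
  set s := e s₀ with hs'
  have hS : P.S = {s} := by
    change e '' P₀.S = _
    rw [hS₀, Set.image_singleton]
  have hs : s ∈ P.S := by rw [hS]; rfl
  have hf : Nat.card U = p ^ f := by
    rw [hU, Subgroup.card_map_of_injective e.injective, hf₀]
  have hBn : ¬ Group.IsNilpotent P.B := by
    intro h1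
    apply hBn₀
    exact nilp_congr (P₀.B.equivMapOfInjective e.toMonoidHom e.injective) h1
  have hidx := index_B h hS
  rw [hf] at hidx
  have hcoat : IsCoatom P.B := by
    have h1 := isCoatom_parabolic P hs
    rwa [hS, Set.sdiff_self, parabolic_empty] at h1
  have hMB := isMaxInv_of_isCoatom hcoat hB
  obtain ⟨M₁, M₂, hcov⟩ := hcl.cov hMB hBn
  -- it is enough to treat the case that `B` is conjugate to `M₁`
  have main : ∀ M₁ M₂ : Subgroup G, Cov A M₁ M₂ → (∃ c : G, P.B = MulAut.conj c • M₁) → False := by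
    intro M₁ M₂ hcov ⟨c, hcM⟩
    have hn1 : M₁.index = 1 + p ^ f := by
      rw [← hidx, hcM, index_conj]
    have hn2 : ∀ r, r.Prime → r ≠ 2 → r ≠ p → r ∣ Nat.card G → M₂.index ≡ 1 [MOD r] := by
      intro r hr hr2 hrp hrG
      have := Fact.mk hr
      rcases hcov.modEq hcop hsol hna hr2 hrG with h1 | h1
      · exfalso
        rw [hn1] at h1
        have h2 : r ∣ p ^ f := by
          have h3 : 1 + p ^ f ≡ 1 + 0 [MOD r] := h1
          exact (Nat.modEq_zero_iff_dvd).mp (Nat.ModEq.add_left_cancel' 1 h3)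
        exact hrp ((Nat.prime_dvd_prime_iff_eq hr hp.out).mp (hr.dvd_of_dvd_pow h2))
      · exact h1
    have hbad : ∀ r, r.Prime → r ≠ 2 → r ≠ p → ¬ r ∣ M₂.index := by
      intro r hr hr2 hrp hrM
      have h1 := hn2 r hr hr2 hrp (hrM.trans (Subgroup.index_dvd_card _))
      have h2 : r ∣ 1 := (h1.dvd_iff dvd_rfl).mp hrM
      exact hr.one_lt.ne' (Nat.dvd_one.mp h2)
    have hM2 : M₂.index ≠ 0 := Subgroup.index_ne_zero_of_finite
    have hpp : ∀ r, r.Prime → r ∣ M₂.index → r = p := by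
      intro r hr hrM
      by_cases hr2 : r = 2
      · subst hr2
        by_contra hp2
        obtain ⟨X, hXt, hXs, hXn, hXo⟩ := hX (fun h => hp2 h.symm)
        rcases hcov.index_dvd hcop hsol hXt hXs hXn with h1 | h1
        · rw [hn1] at h1
          have h2 : Even (1 + p ^ f) := by
            have hpo : Odd p := hp.out.odd_of_ne_two (fun h => hp2 h.symm)
            exact (Odd.pow hpo).one_add
          exact (Nat.not_even_iff_odd.mpr (hXo.of_dvd_nat h1)) h2
        · exact (Nat.not_even_iff_odd.mpr (hXo.of_dvd_nat h1)) (even_iff_two_dvd.mpr hrM)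
      · by_contra hrp
        exact hbad r hr hr2 hrp hrM
    obtain ⟨j, hj⟩ : ∃ j, M₂.index = p ^ j :=
      ⟨_, Nat.eq_prime_pow_of_unique_prime_dvd hM2 (fun {d} hd hdM => hpp d hd hdM)⟩
    have hjf : j ≤ f := by
      obtain ⟨Q, hQ⟩ := exists_sylow_of_split h
      have h1 : p ^ j ∣ Nat.card U := by
        rw [← hQ]
        have h2 : p ^ j ∣ Nat.card Q * (Q : Subgroup G).index := by
          rw [Subgroup.card_mul_index]
          exact hj ▸ Subgroup.index_dvd_card M₂
        exact Nat.Coprime.dvd_of_dvd_mul_right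
          (Nat.Coprime.pow_left _ ((Nat.Prime.coprime_iff_not_dvd hp.out).mpr Q.not_dvd_index)) h2
      rw [hf] at h1
      exact (Nat.pow_dvd_pow_iff_le_right hp.out.one_lt).mp h1
    have hj0 := hc j hjf (fun r hr hr2 hrp hrG => hj ▸ hn2 r hr hr2 hrp hrG)
    rw [hj0, pow_zero] at hj
    exact hcov.2.1.1.1 (Subgroup.index_eq_one.mp hj)
  obtain ⟨c, hc1 | hc1⟩ := hcov.2.2 _ hMB hBn
  · exact main M₁ M₂ hcov ⟨c, hc1⟩
  · exact main M₂ M₁ hcov.symm ⟨c, hc1⟩

end Cfsg.Agent.H580.RankOne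
end

-- part: H580/LieBad
section
prune_inst 0x80000000000000000000000000001000000000010000400000610000000000040000c000000800000000000001000400000000000000000000000208008020000400000000001003003180c00000000000000000000000000041000000000000
set_option linter.all false
open scoped Cfsg.Agent.FastGrp

-- part: H580/Reduce
section
/-!
# Reduction of the two-class theorem to simple groups: minimal normal subgroups

* `Syl p P N` : `P` is a Sylow `p`-subgroup of the subgroup `N`
* `MinN N T` : `T` is a minimal normal subgroup of `N`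
* `Base A N` : `N` is a minimal normal invariant subgroup, not solvable
-/

set_option autoImplicit false
open scoped Pointwise

namespace Cfsg.Agent.H580.Reduce

open MaxInv Two

universe u v

variable {A : Type v} {G : Type u} [Group A] [Group G] [MulDistribMulAction A G]

/-! ### Sylow subgroups of subgroups -/

/-- `P` is a Sylow `p`-subgroup of `N` -/
def Syl (p : ℕ) (P N : Subgroup G) : Prop := P ≤ N ∧ IsPGroup p P ∧ ¬ p ∣ P.relIndex N

theorem Syl.exists_sylow [Finite G] {p : ℕ} [hp : Fact p.Prime] {P N : Subgroup G} (h : Syl p P N) :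
    ∃ S : Sylow p N, (S : Subgroup N) = P.subgroupOf N ∧ (S : Subgroup N).map N.subtype = P := by
  have h1 : IsPGroup p (P.subgroupOf N) := h.2.1.comap_of_injective _ N.subtype_injective
  exact ⟨h1.toSylow h.2.2, rfl, Subgroup.map_subgroupOf_eq_of_le h.1⟩

theorem syl_of_sylow [Finite G] {p : ℕ} [hp : Fact p.Prime] {N : Subgroup G} (S : Sylow p N) :
    Syl p ((S : Subgroup N).map N.subtype) N := by
  refine ⟨Subgroup.map_subtype_le _, S.2.map _, ?_⟩
  rw [Subgroup.relIndex, Subgroup.subgroupOf, Subgroup.comap_map_eq_self_of_injective N.subtype_injective]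
  exact S.not_dvd_index

theorem Syl.eq_of_le [Finite G] {p : ℕ} [hp : Fact p.Prime] {P Q N : Subgroup G} (h : Syl p P N) (hPQ : P ≤ Q)
    (hQN : Q ≤ N) (hQ : IsPGroup p Q) : Q = P := by
  obtain ⟨S, hS, hSP⟩ := h.exists_sylow
  have h1 : (S : Subgroup N) ≤ Q.subgroupOf N := by
    rw [hS]
    exact Subgroup.comap_mono hPQ
  have h2 := S.3 (hQ.comap_of_injective N.subtype N.subtype_injective) h1
  change Q.subgroupOf N = _ at h2
  rw [← hSP, ← h2, Subgroup.map_subgroupOf_eq_of_le hQN]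

theorem map_conj_map {N : Subgroup G} (n : N) (S : Subgroup N) :
    (S.map N.subtype).map (MulAut.conj (n : G)).toMonoidHom = (MulAut.conj n • S : Subgroup N).map N.subtype := by
  change _ = (S.map (MulAut.conj n).toMonoidHom).map N.subtype
  rw [Subgroup.map_map, Subgroup.map_map]
  rfl

theorem Syl.conj [Finite G] {p : ℕ} [hp : Fact p.Prime] {P Q N : Subgroup G} (hP : Syl p P N) (hQ : Syl p Q N) :
    ∃ n ∈ N, Q = P.map (MulAut.conj n).toMonoidHom := by
  obtain ⟨S, -, hS⟩ := hP.exists_sylow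
  obtain ⟨T, -, hT⟩ := hQ.exists_sylow
  obtain ⟨g, hg⟩ := MulAction.exists_smul_eq N S T
  refine ⟨g, g.2, ?_⟩
  rw [← hS, ← hT, ← hg, map_conj_map, Sylow.coe_subgroup_smul]

theorem Syl.inf [Finite G] {p : ℕ} [hp : Fact p.Prime] {P N T : Subgroup G} (hP : Syl p P N) (hT : T ≤ N)
    (hn : N ≤ Subgroup.normalizer (T : Set G)) : Syl p (P ⊓ T) T := by
  refine ⟨inf_le_right, hP.2.1.to_le inf_le_left, ?_⟩
  rw [Subgroup.inf_relIndex_right]
  obtain ⟨S, hS, -⟩ := hP.exists_sylow
  have : (T.subgroupOf N).Normal := by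
    refine ⟨fun x hx g => ?_⟩
    rw [Subgroup.mem_subgroupOf] at hx ⊢
    exact (Subgroup.mem_normalizer_iff.mp (hn g.2) x).mp hx
  have h1 := Cfsg.Agent.CharactersDeep.QuatSylow.not_dvd_relIndex_of_normal S (T.subgroupOf N)
  rwa [hS, Subgroup.relIndex_subgroupOf hT] at h1

theorem Syl.map {p : ℕ} {P N : Subgroup G} {G' : Type*} [Group G']
    (hP : Syl p P N) (f : G →* G') (hf : Function.Injective f) : Syl p (P.map f) (N.map f) := by
  refine ⟨Subgroup.map_mono hP.1, hP.2.1.map _, ?_⟩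
  rw [Subgroup.relIndex_map_map_of_injective _ _ hf]
  exact hP.2.2

/-! ### Minimal normal subgroups of a subgroup -/

/-- `T` is a minimal normal subgroup of `N` -/
structure MinN (N T : Subgroup G) : Prop where
  le : T ≤ N
  ne : T ≠ ⊥
  norm : N ≤ Subgroup.normalizer (T : Set G)
  min : ∀ K : Subgroup G, K ≤ T → N ≤ Subgroup.normalizer (K : Set G) → K = ⊥ ∨ K = T

theorem exists_minN [Finite G] {N : Subgroup G} (hN : N ≠ ⊥) : ∃ T, MinN N T := by
  let S : Set (Subgroup G) := {T | T ≤ N ∧ T ≠ ⊥ ∧ N ≤ Subgroup.normalizer (T : Set G)}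
  have hfin : S.Finite := Set.toFinite S
  have hne : S.Nonempty := ⟨N, le_rfl, hN, Subgroup.le_normalizer⟩
  obtain ⟨T, hT⟩ := hfin.exists_minimal hne
  refine ⟨T, hT.1.1, hT.1.2.1, hT.1.2.2, fun K hKT hK => ?_⟩
  by_cases h : K = ⊥
  · exact Or.inl h
  · exact Or.inr (le_antisymm hKT (hT.2 (y := K) ⟨hKT.trans hT.1.1, h, hK⟩ hKT))

theorem normalizer_inf_le (H K : Subgroup G) :
    Subgroup.normalizer (H : Set G) ⊓ Subgroup.normalizer (K : Set G) ≤ Subgroup.normalizer ((H ⊓ K : Subgroup G) : Set G) := by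
  intro g hg
  rw [Subgroup.mem_normalizer_iff]
  intro h
  rw [Subgroup.mem_inf, Subgroup.mem_inf, ← Subgroup.mem_normalizer_iff.mp hg.1 h,
    ← Subgroup.mem_normalizer_iff.mp hg.2 h]

theorem MinN.disj {N T T' : Subgroup G} (hT : MinN N T) (hT' : MinN N T') (h : T ≠ T') : T ⊓ T' = ⊥ := by
  have hn : N ≤ Subgroup.normalizer ((T ⊓ T' : Subgroup G) : Set G) :=
    (le_inf hT.norm hT'.norm).trans (normalizer_inf_le _ _)
  rcases hT.min _ inf_le_left hn with h1 | h1
  · exact h1
  · rcases hT'.min _ inf_le_right hn with h2 | h2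
    · exact h2
    · exact absurd (h1.symm.trans h2) h

theorem MinN.comm {N T T' : Subgroup G} (hT : MinN N T) (hT' : MinN N T') (h : T ≠ T') :
    T' ≤ Subgroup.centralizer (T : Set G) := by
  intro y hy
  rw [Subgroup.mem_centralizer_iff]
  intro x hx
  have h1 : x * y * x⁻¹ * y⁻¹ ∈ T ⊓ T' := by
    constructor
    · have := (Subgroup.mem_normalizer_iff.mp (hT.norm (hT'.le hy)) x⁻¹).mp (inv_mem hx)
      have h2 := T.mul_mem hx this
      rwa [show x * (y * x⁻¹ * y⁻¹) = x * y * x⁻¹ * y⁻¹ by group] at h2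
    · have := (Subgroup.mem_normalizer_iff.mp (hT'.norm (hT.le hx)) y).mp hy
      exact T'.mul_mem this (inv_mem hy)
  rw [hT.disj hT' h, Subgroup.mem_bot] at h1
  have h2 : x * y = y * x := by
    rw [mul_inv_eq_one] at h1
    exact (mul_inv_eq_iff_eq_mul.mp h1)
  exact h2

theorem MinN.map {N T : Subgroup G} (hT : MinN N T) (f : G ≃* G) (hf : N.map f.toMonoidHom = N) :
    MinN N (T.map f.toMonoidHom) := by
  refine ⟨?_, ?_, ?_, ?_⟩
  · rw [← hf]; exact Subgroup.map_mono hT.le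
  · intro h
    exact hT.ne ((Subgroup.map_eq_bot_iff_of_injective _ f.injective).mp h)
  · rw [← Subgroup.map_equiv_normalizer_eq]
    conv_lhs => rw [← hf]
    exact Subgroup.map_mono hT.norm
  · intro K hK hN
    have hK' : (K.map f.symm.toMonoidHom).map f.toMonoidHom = K := by
      rw [Subgroup.map_map]
      convert Subgroup.map_id K
      ext x
      simp
    have h1 : K.map f.symm.toMonoidHom ≤ T := by
      rw [← hK', Subgroup.map_le_map_iff_of_injective f.injective] at hK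
      exact hK
    have h2 : N ≤ Subgroup.normalizer ((K.map f.symm.toMonoidHom : Subgroup G) : Set G) := by
      rw [← Subgroup.map_le_map_iff_of_injective (f := f.toMonoidHom) f.injective, hf,
        Subgroup.map_equiv_normalizer_eq, hK']
      exact hN
    rcases hT.min _ h1 h2 with h3 | h3
    · left
      rw [← hK', h3, Subgroup.map_bot]
    · right
      rw [← hK', h3]

/-! ### The minimal normal invariant subgroup -/

/-- `N` is a minimal normal invariant subgroup which is not solvable -/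
structure Base (A : Type v) {G : Type u} [Group A] [Group G] [MulDistribMulAction A G] (N : Subgroup G) : Prop where
  normal : N.Normal
  inv : Inv A N
  min : ∀ K : Subgroup G, K.Normal → Inv A K → K ≤ N → K = ⊥ ∨ K = N
  nsol : ¬ Group.IsSolvable N

theorem Base.ne_bot {N : Subgroup G} (h : Base A N) : N ≠ ⊥ := by
  rintro rfl
  exact h.nsol inferInstance

theorem sSup_map_le {𝒯 : Set (Subgroup G)} (f : G →* G) (h : ∀ T ∈ 𝒯, T.map f ∈ 𝒯) : (sSup 𝒯).map f ≤ sSup 𝒯 := by
  rw [Subgroup.map_le_iff_le_comap]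
  exact sSup_le fun T hT => Subgroup.map_le_iff_le_comap.mp (le_sSup (h T hT))

/-- A family of nontrivial subgroups of `N` stable under conjugation and under `A` generates `N`. -/
theorem Base.sSup_eq {N : Subgroup G} (h : Base A N) {𝒯 : Set (Subgroup G)} (hle : ∀ T ∈ 𝒯, T ≤ N)
    (hne : ∃ T ∈ 𝒯, T ≠ ⊥) (hconj : ∀ g : G, ∀ T ∈ 𝒯, T.map (MulAut.conj g).toMonoidHom ∈ 𝒯)
    (hinv : ∀ a : A, ∀ T ∈ 𝒯, T.map (MulDistribMulAction.toMonoidHom G a) ∈ 𝒯) : sSup 𝒯 = N := by
  have h1 : (sSup 𝒯).Normal := ⟨fun x hx g => sSup_map_le _ (hconj g) ⟨x, hx, rfl⟩⟩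
  have h2 : Inv A (sSup 𝒯) := fun a x hx => sSup_map_le _ (hinv a) ⟨x, hx, rfl⟩
  rcases h.min _ h1 h2 (sSup_le hle) with h3 | h3
  · exfalso
    obtain ⟨T, hT, hTne⟩ := hne
    exact hTne (le_bot_iff.mp (h3 ▸ le_sSup hT))
  · exact h3

theorem Base.map_conj {N : Subgroup G} (h : Base A N) (g : G) : N.map (MulAut.conj g).toMonoidHom = N := by
  have := h.normal
  exact Subgroup.Normal.map_conj_eq N g

theorem Base.map_inv [Finite G] {N : Subgroup G} (h : Base A N) (a : A) :
    N.map (MulDistribMulAction.toMonoidHom G a) = N := inv_map_eq h.inv a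

theorem MinN.conj {N T : Subgroup G} (h : Base A N) (hT : MinN N T) (g : G) :
    MinN N (T.map (MulAut.conj g).toMonoidHom) :=
  hT.map (MulAut.conj g) (h.map_conj g)

theorem MinN.smul [Finite G] {N T : Subgroup G} (h : Base A N) (hT : MinN N T) (a : A) :
    MinN N (T.map (MulDistribMulAction.toMonoidHom G a)) :=
  hT.map (MulDistribMulAction.toMulAut A G a) (h.map_inv a)

theorem sSup_minN [Finite G] {N : Subgroup G} (h : Base A N) : sSup {T | MinN N T} = N := by
  obtain ⟨T, hT⟩ := exists_minN h.ne_bot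
  exact h.sSup_eq (fun T hT => MinN.le hT) ⟨T, hT, MinN.ne hT⟩ (fun g T hT => MinN.conj h hT g)
    (fun a T hT => MinN.smul h hT a)

theorem MinN.not_comm [Finite G] {N T : Subgroup G} (h : Base A N) (hT : MinN N T) :
    ¬ ∀ x ∈ T, ∀ y ∈ T, x * y = y * x := by
  intro hc
  set 𝒯 : Set (Subgroup G) := {T | MinN N T ∧ ∀ x ∈ T, ∀ y ∈ T, x * y = y * x} with h𝒯
  have hmap : ∀ (f : G →* G) (T : Subgroup G), (∀ x ∈ T, ∀ y ∈ T, x * y = y * x) →
      ∀ x ∈ T.map f, ∀ y ∈ T.map f, x * y = y * x := by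
    rintro f T hT _ ⟨x, hx, rfl⟩ _ ⟨y, hy, rfl⟩
    rw [← map_mul, hT x hx y hy, map_mul]
  have h1 : sSup 𝒯 = N := h.sSup_eq (fun T hT => hT.1.le) ⟨T, ⟨hT, hc⟩, hT.ne⟩
    (fun g T hT => ⟨MinN.conj h hT.1 g, hmap _ T hT.2⟩) (fun a T hT => ⟨MinN.smul h hT.1 a, hmap _ T hT.2⟩)
  have h2 : N ≤ Subgroup.centralizer (N : Set G) := by
    conv_lhs => rw [← h1]
    refine sSup_le fun T hT => ?_
    rw [Subgroup.le_centralizer_iff]
    conv_lhs => rw [← h1]
    refine sSup_le fun T' hT' => ?_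
    by_cases hTT : T = T'
    · subst hTT
      intro x hx
      rw [Subgroup.mem_centralizer_iff]
      exact fun y hy => hT.2 y hy x hx
    · exact hT.1.comm hT'.1 hTT
  apply h.nsol
  have : IsMulCommutative N := ⟨⟨fun x y => Subtype.ext ((Subgroup.mem_centralizer_iff.mp (h2 y.2)) x x.2)⟩⟩
  let _ : CommGroup N := { (inferInstance : Group N) with mul_comm := this.1.1 }
  infer_instance

theorem MinN.inf_centralizer [Finite G] {N T : Subgroup G} (h : Base A N) (hT : MinN N T) :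
    T ⊓ Subgroup.centralizer (T : Set G) = ⊥ := by
  have hn : N ≤ Subgroup.normalizer ((T ⊓ Subgroup.centralizer (T : Set G) : Subgroup G) : Set G) := by
    refine (le_inf hT.norm ?_).trans (normalizer_inf_le _ _)
    refine hT.norm.trans ?_
    intro g hg
    rw [Subgroup.mem_normalizer_iff]
    have key : ∀ g ∈ Subgroup.normalizer (T : Set G), ∀ y, y ∈ Subgroup.centralizer (T : Set G) →
        g * y * g⁻¹ ∈ Subgroup.centralizer (T : Set G) := by
      intro g hg y hy
      rw [Subgroup.mem_centralizer_iff] at hy ⊢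
      intro x hx
      have h1 : g⁻¹ * x * g ∈ T := by
        have := (Subgroup.mem_normalizer_iff.mp (inv_mem hg) x).mp hx
        rwa [inv_inv] at this
      have h2 := hy _ h1
      calc x * (g * y * g⁻¹) = g * ((g⁻¹ * x * g) * y) * g⁻¹ := by group
        _ = g * (y * (g⁻¹ * x * g)) * g⁻¹ := by rw [h2]
        _ = g * y * g⁻¹ * x := by group
    intro y
    refine ⟨key g hg y, fun h1 => ?_⟩
    have := key g⁻¹ (inv_mem hg) _ h1
    rwa [show g⁻¹ * (g * y * g⁻¹) * g⁻¹⁻¹ = y by group] at this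
  rcases hT.min _ inf_le_left hn with h1 | h1
  · exact h1
  · exfalso
    refine hT.not_comm h fun x hx y hy => ?_
    rw [← h1] at hy
    exact (Subgroup.mem_centralizer_iff.mp hy.2) x hx

theorem MinN.isSimpleGroup [Finite G] {N T : Subgroup G} (h : Base A N) (hT : MinN N T) : IsSimpleGroup T := by
  have hnt : Nontrivial T := (Subgroup.nontrivial_iff_ne_bot T).mpr hT.ne
  refine ⟨fun K hK => ?_⟩
  have hKT : K.map T.subtype ≤ T := Subgroup.map_subtype_le _
  have hn : N ≤ Subgroup.normalizer ((K.map T.subtype : Subgroup G) : Set G) := by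
    conv_lhs => rw [← sSup_minN h]
    refine sSup_le fun T' hT' => ?_
    by_cases hTT : T = T'
    · subst hTT
      intro g hg
      have key : ∀ g ∈ T, ∀ y ∈ K.map T.subtype, g * y * g⁻¹ ∈ K.map T.subtype := by
        rintro g hg _ ⟨y, hy, rfl⟩
        exact ⟨(⟨g, hg⟩ * y * ⟨g, hg⟩⁻¹ :), hK.conj_mem _ hy _, rfl⟩
      rw [Subgroup.mem_normalizer_iff]
      intro y
      refine ⟨key g hg y, fun h1 => ?_⟩
      have := key g⁻¹ (inv_mem hg) _ h1
      rwa [show g⁻¹ * (g * y * g⁻¹) * g⁻¹⁻¹ = y by group] at this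
    · have h1 := hT.comm hT' hTT
      intro g hg
      have h2 := Subgroup.mem_centralizer_iff.mp (h1 hg)
      rw [Subgroup.mem_normalizer_iff]
      intro y
      constructor
      · intro hy
        rw [← h2 y (hKT hy), mul_inv_cancel_right]
        exact hy
      · intro hy
        have h3 := h2 _ (hKT hy)
        have h4 : g * y * g⁻¹ = y := by
          have h5 : g * y * g⁻¹ * g = g * (g * y * g⁻¹) := h3
          rw [inv_mul_cancel_right] at h5
          have h6 := mul_left_cancel h5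
          exact h6.symm
        rwa [h4] at hy
  rcases hT.min _ hKT hn with h1 | h1
  · left
    exact (Subgroup.map_eq_bot_iff_of_injective _ T.subtype_injective).mp h1
  · right
    rw [eq_top_iff]
    intro x _
    have : (x : G) ∈ K.map T.subtype := by rw [h1]; exact x.2
    obtain ⟨y, hy, hyx⟩ := this
    rwa [← Subtype.ext hyx]

theorem MinN.not_isSolvable [Finite G] {N T : Subgroup G} (h : Base A N) (hT : MinN N T) :
    ¬ Group.IsSolvable T := by
  have := hT.isSimpleGroup h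
  intro h1
  refine hT.not_comm h fun x hx y hy => ?_
  have h2 := (IsSimpleGroup.comm_iff_isSolvable (G := T)).mpr h1
  exact congrArg Subtype.val (h2 ⟨x, hx⟩ ⟨y, hy⟩)

/-- the decomposition `N = T × C_N(T)` -/
theorem MinN.decomp [Finite G] {N T : Subgroup G} (h : Base A N) (hT : MinN N T) {x : G} (hx : x ∈ N) :
    ∃ t ∈ T, ∃ c ∈ N ⊓ Subgroup.centralizer (T : Set G), x = t * c := by
  let D : Subgroup G :=
    { carrier := {x | ∃ t ∈ T, ∃ c ∈ N ⊓ Subgroup.centralizer (T : Set G), x = t * c}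
      one_mem' := ⟨1, one_mem _, 1, one_mem _, (mul_one 1).symm⟩
      mul_mem' := by
        rintro _ _ ⟨t, ht, c, hc, rfl⟩ ⟨t', ht', c', hc', rfl⟩
        refine ⟨t * t', mul_mem ht ht', c * c', mul_mem hc hc', ?_⟩
        have h1 := Subgroup.mem_centralizer_iff.mp hc.2 t' ht'
        calc t * c * (t' * c') = t * (c * t') * c' := by group
          _ = t * (t' * c) * c' := by rw [h1]
          _ = t * t' * (c * c') := by group
      inv_mem' := by
        rintro _ ⟨t, ht, c, hc, rfl⟩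
        refine ⟨t⁻¹, inv_mem ht, c⁻¹, inv_mem hc, ?_⟩
        have h1 := Subgroup.mem_centralizer_iff.mp hc.2 t ht
        rw [h1, mul_inv_rev] }
  have h1 : N ≤ D := by
    conv_lhs => rw [← sSup_minN h]
    refine sSup_le fun T' hT' => ?_
    by_cases hTT : T = T'
    · subst hTT
      exact fun x hx => ⟨x, hx, 1, one_mem _, (mul_one x).symm⟩
    · exact fun x hx => ⟨1, one_mem _, x, ⟨hT'.le hx, hT.comm hT' hTT hx⟩, (one_mul x).symm⟩
  exact h1 hx

end Cfsg.Agent.H580.Reduce
end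

-- part: H580/ReduceB
section
/-!
# Reduction of the two-class theorem to simple groups: the group is not characteristically simple

`exists_bad` : if `N ≠ G` is a minimal normal invariant subgroup, not solvable, then its simple factors `T` satisfy
`Bad T`.
-/

set_option autoImplicit false
open scoped Pointwise

namespace Cfsg.Agent.H580.Reduce

open MaxInv Two

universe u v

variable {A : Type v} {G : Type u} [Group A] [Group G] [MulDistribMulAction A G]

/-- the projection of a Sylow subgroup to a factor lies in the Sylow subgroup -/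
theorem MinN.proj_mem [Finite G] {N T R : Subgroup G} {r : ℕ} [hr : Fact r.Prime] (h : Base A N) (hT : MinN N T)
    (hR : Syl r R N) {t c : G} (ht : t ∈ T) (hc : c ∈ N ⊓ Subgroup.centralizer (T : Set G)) (htc : t * c ∈ R) :
    t ∈ R := by
  let Q : Subgroup G :=
    { carrier := {x | x ∈ T ∧ ∃ c ∈ N ⊓ Subgroup.centralizer (T : Set G), x * c ∈ R}
      one_mem' := ⟨one_mem _, 1, one_mem _, by rw [mul_one]; exact one_mem _⟩
      mul_mem' := by
        rintro x y ⟨hx, c, hc, hxc⟩ ⟨hy, d, hd, hyd⟩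
        refine ⟨mul_mem hx hy, c * d, mul_mem hc hd, ?_⟩
        have h1 := Subgroup.mem_centralizer_iff.mp hc.2 y hy
        have h2 : x * y * (c * d) = (x * c) * (y * d) := by
          calc x * y * (c * d) = x * (y * c) * d := by group
            _ = x * (c * y) * d := by rw [h1]
            _ = (x * c) * (y * d) := by group
        rw [h2]
        exact mul_mem hxc hyd
      inv_mem' := by
        rintro x ⟨hx, c, hc, hxc⟩
        refine ⟨inv_mem hx, c⁻¹, inv_mem hc, ?_⟩
        have h1 := Subgroup.mem_centralizer_iff.mp hc.2 x hx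
        have h2 := inv_mem hxc
        rwa [h1, mul_inv_rev] at h2 }
  have hQT : Q ≤ T := fun x hx => hx.1
  have hQp : IsPGroup r Q := by
    rintro ⟨x, hx, c, hc, hxc⟩
    obtain ⟨k, hk⟩ := hR.2.1 ⟨_, hxc⟩
    refine ⟨k, Subtype.ext ?_⟩
    have h1 : Commute x c := Subgroup.mem_centralizer_iff.mp hc.2 x hx
    have h2 : (x * c) ^ r ^ k = 1 := congrArg Subtype.val hk
    rw [h1.mul_pow] at h2
    have h3 : x ^ r ^ k ∈ T ⊓ Subgroup.centralizer (T : Set G) := by
      refine ⟨pow_mem hx _, ?_⟩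
      rw [mul_eq_one_iff_eq_inv] at h2
      rw [h2]
      exact Subgroup.inv_mem _ (Subgroup.pow_mem _ hc.2 _)
    rw [hT.inf_centralizer h, Subgroup.mem_bot] at h3
    exact h3
  have hle : R ⊓ T ≤ Q := fun x hx => ⟨hx.2, 1, one_mem _, by rw [mul_one]; exact hx.1⟩
  have h1 := (hR.inf hT.le hT.norm).eq_of_le hle hQT hQp
  have h2 : t ∈ Q := ⟨ht, c, hc, htc⟩
  rw [h1] at h2
  exact h2.1

theorem mem_normalizer_of_conj_mem [Finite G] {H : Subgroup G} {g : G} (h : ∀ x ∈ H, g * x * g⁻¹ ∈ H) :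
    g ∈ Subgroup.normalizer (H : Set G) := by
  rw [Subgroup.mem_normalizer_iff_map_conj_eq]
  refine Subgroup.eq_of_le_of_card_ge ?_ ?_
  · rintro _ ⟨x, hx, rfl⟩
    exact h x hx
  · exact (Subgroup.card_map_of_injective (MulAut.conj g).injective).ge

theorem MinN.mem_normalizer [Finite G] {N T R : Subgroup G} {r : ℕ} [hr : Fact r.Prime] (h : Base A N)
    (hT : MinN N T) (hR : Syl r R N) {x : G} (hx : x ∈ T)
    (hxn : x ∈ Subgroup.normalizer ((R ⊓ T : Subgroup G) : Set G)) : x ∈ Subgroup.normalizer (R : Set G) := by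
  apply mem_normalizer_of_conj_mem
  intro y hy
  obtain ⟨t, ht, c, hc, rfl⟩ := hT.decomp h (hR.1 hy)
  have h1 := hT.proj_mem h hR ht hc hy
  have h2 : c ∈ R := by
    have := mul_mem (inv_mem h1) hy
    rwa [inv_mul_cancel_left] at this
  have h3 := (Subgroup.mem_normalizer_iff.mp hxn t).mp ⟨h1, ht⟩
  have h4 := Subgroup.mem_centralizer_iff.mp hc.2 x hx
  have h5 : x * (t * c) * x⁻¹ = (x * t * x⁻¹) * c := by
    calc x * (t * c) * x⁻¹ = x * t * x⁻¹ * (x * c) * x⁻¹ := by group
      _ = x * t * x⁻¹ * (c * x) * x⁻¹ := by rw [h4]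
      _ = (x * t * x⁻¹) * c := by group
  rw [h5]
  exact mul_mem h3.1 h2

theorem frattini [Finite G] {N R : Subgroup G} {r : ℕ} [hr : Fact r.Prime] (hN : N.Normal) (hR : Syl r R N) :
    Subgroup.normalizer (R : Set G) ⊔ N = ⊤ := by
  obtain ⟨S, -, hS⟩ := hR.exists_sylow
  rw [← hS]
  exact Sylow.normalizer_sup_eq_top S

/-- There is only one class of non-nilpotent maximal invariant subgroups not containing `N`. -/
structure One (A : Type v) {G : Type u} [Group A] [Group G] [MulDistribMulAction A G] (N M : Subgroup G) : Prop where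
  max : IsMaxInv A M
  nn : ¬ Group.IsNilpotent M
  nle : ¬ N ≤ M
  all : ∀ K : Subgroup G, IsMaxInv A K → ¬ Group.IsNilpotent K → ¬ N ≤ K → ∃ c : G, K = MulAut.conj c • M

theorem Base.not_nilp {N : Subgroup G} (h : Base A N) : ¬ Group.IsNilpotent N := fun _ => h.nsol inferInstance

theorem sup_eq_top_of_max {N M : Subgroup G} (h : Base A N) (hM : IsMaxInv A M) (hN : ¬ N ≤ M) : N ⊔ M = ⊤ := by
  apply hM.2.2
  · refine lt_of_le_of_ne le_sup_right fun h1 => hN ?_
    rw [h1]; exact le_sup_left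
  · exact h.inv.sup hM.2.1

theorem rM [Finite G] {N : Subgroup G} (h : Base A N) {r : ℕ} [hr : Fact r.Prime] (hr2 : r ≠ 2)
    (hrN : r ∣ Nat.card N) {R : Subgroup G} (hR : Syl r R N) (hRA : Inv A R) {M : Subgroup G} (hM : IsMaxInv A M)
    (hle : Subgroup.normalizer (R : Set G) ≤ M) : ¬ Group.IsNilpotent M ∧ ¬ N ≤ M := by
  have := h.normal
  obtain ⟨S, -, hS⟩ := hR.exists_sylow
  subst hS
  constructor
  · refine not_nilp_of_normalizer_le N h.inv h.min hr2 ?_ hrN S hRA hM hle
    intro h1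
    have := h1.isNilpotent
    exact h.nsol inferInstance
  · intro h1
    apply hM.1
    rw [eq_top_iff, ← frattini h.normal hR]
    exact sup_le hle h1

theorem exists_rM [Finite A] [Finite G] (hcop : (Nat.card A).Coprime (Nat.card G)) (hsol : Group.IsSolvable A)
    {N : Subgroup G} (h : Base A N) {r : ℕ} [hr : Fact r.Prime] (hrN : r ∣ Nat.card N) :
    ∃ R : Subgroup G, Syl r R N ∧ Inv A R ∧ ∃ M, IsMaxInv A M ∧ Subgroup.normalizer (R : Set G) ≤ M := by
  obtain ⟨S, hS⟩ := exists_inv_sylow_sub hcop hsol N h.inv r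
  refine ⟨_, syl_of_sylow S, hS, ?_⟩
  have hne : Subgroup.normalizer ((S : Subgroup N).map N.subtype : Set G) ≠ ⊤ := by
    intro h1
    have hn := Subgroup.normalizer_eq_top_iff.mp h1
    rcases h.min _ hn hS (Subgroup.map_subtype_le _) with h2 | h2
    · have hSbot : (S : Subgroup N) ≠ ⊥ := S.ne_bot_of_dvd_card hrN
      exact hSbot ((Subgroup.map_eq_bot_iff_of_injective _ N.subtype_injective).mp h2)
    · have h3 : IsPGroup r N := by
        rw [← h2]
        exact S.2.map _
      have := h3.isNilpotent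
      exact h.nsol inferInstance
  obtain ⟨M, h1, h2⟩ := exists_maxInv hne hS.normalizer
  exact ⟨M, h2, h1⟩

theorem exists_one [Finite G] {N : Subgroup G} (h : Base A N) (hNt : N ≠ ⊤) (hcl : TwoCl A G) {M : Subgroup G}
    (hM : IsMaxInv A M) (hn : ¬ Group.IsNilpotent M) (hNM : ¬ N ≤ M) : One A N M := by
  refine ⟨hM, hn, hNM, ?_⟩
  intro K hK hKn hNK
  have := h.normal
  obtain ⟨M₀, hNM₀, hM₀⟩ := exists_maxInv hNt h.inv
  have hn₀ : ¬ Group.IsNilpotent M₀ := fun h1 => h.not_nilp (nilp_of_le hNM₀ h1)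
  obtain ⟨M₁, M₂, hall⟩ := hcl
  -- if two of the three are conjugate to the same subgroup
  have key : ∀ (B L : Subgroup G) (c d : G), M₀ = MulAut.conj c • B → L = MulAut.conj d • B → N ≤ L := by
    intro B L c d hc hd
    have h1 : L = MulAut.conj (d * c⁻¹) • M₀ := by
      rw [hc, hd, smul_smul, ← map_mul, inv_mul_cancel_right]
    rw [h1]
    have h2 : (MulAut.conj (d * c⁻¹) • N : Subgroup G) ≤ MulAut.conj (d * c⁻¹) • M₀ :=
      (smul_le_smul_iff' _).mpr hNM₀
    have h3 : (MulAut.conj (d * c⁻¹) • N : Subgroup G) = N := h.map_conj _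
    rwa [h3] at h2
  have key2 : ∀ (B : Subgroup G) (c d : G), M = MulAut.conj c • B → K = MulAut.conj d • B →
      ∃ e : G, K = MulAut.conj e • M := by
    intro B c d hc hd
    exact ⟨d * c⁻¹, by rw [hc, hd, smul_smul, ← map_mul, inv_mul_cancel_right]⟩
  obtain ⟨c₀, h₀⟩ := hall M₀ hM₀ hn₀
  obtain ⟨c, hc⟩ := hall M hM hn
  obtain ⟨d, hd⟩ := hall K hK hKn
  rcases h₀ with h₀ | h₀
  · rcases hc with hc | hc
    · exact absurd (key _ _ _ _ h₀ hc) hNM
    · rcases hd with hd | hd
      · exact absurd (key _ _ _ _ h₀ hd) hNK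
      · exact key2 _ _ _ hc hd
  · rcases hc with hc | hc
    · rcases hd with hd | hd
      · exact key2 _ _ _ hc hd
      · exact absurd (key _ _ _ _ h₀ hd) hNK
    · exact absurd (key _ _ _ _ h₀ hc) hNM

theorem One.exists_ge [Finite G] {N M : Subgroup G} (hO : One A N M) {K : Subgroup G} (hK : K ≠ ⊤)
    (hKA : Inv A K) (hn : ¬ Group.IsNilpotent K) (hNK : N ⊔ K = ⊤) : ∃ c : G, K ≤ MulAut.conj c • M := by
  obtain ⟨L, hKL, hL⟩ := exists_maxInv hK hKA
  obtain ⟨c, hc⟩ := hO.all L hL (fun h1 => hn (nilp_of_le hKL h1)) (fun h1 => hL.1 (by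
    rw [eq_top_iff, ← hNK]
    exact sup_le h1 hKL))
  exact ⟨c, hc ▸ hKL⟩

/-- a maximal invariant subgroup not containing `N` contains no factor of `N` -/
theorem MinN.not_le [Finite G] {N M T : Subgroup G} (h : Base A N) (hM : IsMaxInv A M) (hN : ¬ N ≤ M)
    (hT : MinN N T) : ¬ T ≤ M := by
  intro hTM
  have hsup := sup_eq_top_of_max h hM hN
  have := h.normal
  set 𝒯 : Set (Subgroup G) := {T | MinN N T ∧ T ≤ M} with h𝒯
  have hmapN : ∀ n ∈ N, ∀ T, MinN N T → T.map (MulAut.conj n).toMonoidHom = T := by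
    intro n hn T hT
    exact Subgroup.mem_normalizer_iff_map_conj_eq.mp (hT.norm hn)
  have h1 : sSup 𝒯 = N := by
    refine h.sSup_eq (fun T hT => hT.1.le) ⟨T, ⟨hT, hTM⟩, hT.ne⟩ ?_ ?_
    · intro g T hT
      have hg : g ∈ N ⊔ M := hsup ▸ Subgroup.mem_top g
      obtain ⟨n, hn, m, hm, rfl⟩ := (Subgroup.mem_sup_of_normal_left).mp hg
      have h2 : T.map (MulAut.conj (n * m)).toMonoidHom = T.map (MulAut.conj m).toMonoidHom := by
        have h3 := hmapN n hn _ (hT.1.conj h m)
        rw [Subgroup.map_map] at h3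
        rw [← h3]
        congr 1
        ext x
        simp [mul_assoc]
      rw [h2]
      refine ⟨hT.1.conj h m, ?_⟩
      rintro _ ⟨x, hx, rfl⟩
      exact mul_mem (mul_mem hm (hT.2 hx)) (inv_mem hm)
    · intro a T hT
      refine ⟨hT.1.smul h a, ?_⟩
      rintro _ ⟨x, hx, rfl⟩
      exact hM.2.1 a x (hT.2 hx)
  apply hN
  rw [← h1]
  exact sSup_le fun T hT => hT.2

/-- `M` contains the normalizer of a Sylow subgroup of `N`, for every odd prime. -/
theorem One.exists_normalizer_le [Finite A] [Finite G] (hcop : (Nat.card A).Coprime (Nat.card G))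
    (hsol : Group.IsSolvable A) {N M : Subgroup G} (h : Base A N) (hO : One A N M) {r : ℕ} [hr : Fact r.Prime]
    (hr2 : r ≠ 2) (hrN : r ∣ Nat.card N) :
    ∃ R : Subgroup G, Syl r R N ∧ Subgroup.normalizer (R : Set G) ≤ M := by
  obtain ⟨R, hR, hRA, K, hK, hle⟩ := exists_rM hcop hsol h hrN
  obtain ⟨h1, h2⟩ := rM h hr2 hrN hR hRA hK hle
  obtain ⟨c, hc⟩ := hO.all K hK h1 h2
  refine ⟨R.map (MulAut.conj c⁻¹).toMonoidHom, ?_, ?_⟩
  · have h3 := hR.map (MulAut.conj c⁻¹).toMonoidHom (MulAut.conj c⁻¹).injective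
    rwa [h.map_conj] at h3
  · rw [← Subgroup.map_equiv_normalizer_eq]
    rintro _ ⟨x, hx, rfl⟩
    have h3 := hle hx
    rw [hc, Subgroup.mem_pointwise_smul_iff_inv_smul_mem] at h3
    have h4 : (MulAut.conj c)⁻¹ • x = MulAut.conj c⁻¹ x := by
      rw [← map_inv]; rfl
    rw [h4] at h3
    exact h3

theorem not_dvd_relIndex {p : ℕ} {R M N : Subgroup G} (hR : Syl p R N) (hM : R ≤ M) : ¬ p ∣ M.relIndex N :=
  fun h => hR.2.2 (h.trans (Subgroup.relIndex_dvd_of_le_left N hM))

/-- An invariant subgroup which contains the normalizer of an invariant Sylow 2-subgroup of `N` is nilpotent. -/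
theorem One.nilp_of_two [Finite A] [Finite G] (hcop : (Nat.card A).Coprime (Nat.card G))
    (hsol : Group.IsSolvable A) {N M : Subgroup G} (h : Base A N) (hO : One A N M) {S : Subgroup G}
    (hS : Syl 2 S N) {K : Subgroup G} (hK : K ≠ ⊤) (hKA : Inv A K) (hle : Subgroup.normalizer (S : Set G) ≤ K) :
    Group.IsNilpotent K := by
  have : Fact (Nat.Prime 2) := ⟨Nat.prime_two⟩
  by_contra hn
  have hsup : N ⊔ K = ⊤ := by
    rw [eq_top_iff, ← frattini h.normal hS, sup_comm]
    exact sup_le_sup_left hle N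
  obtain ⟨c, hc⟩ := hO.exists_ge hK hKA hn hsup
  have h2 : ¬ 2 ∣ (MulAut.conj c • M : Subgroup G).relIndex N :=
    not_dvd_relIndex hS ((Subgroup.le_normalizer.trans hle).trans hc)
  have hconj : (MulAut.conj c • M : Subgroup G).relIndex N = M.relIndex N := by
    have h3 : (M.map (MulAut.conj c).toMonoidHom).relIndex (N.map (MulAut.conj c).toMonoidHom) = M.relIndex N :=
      Subgroup.relIndex_map_map_of_injective _ _ (MulAut.conj c).injective
    rw [h.map_conj] at h3
    exact h3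
  rw [hconj] at h2
  have h1 : M.relIndex N = 1 := by
    by_contra h1
    obtain ⟨r, hr, hrM⟩ := Nat.exists_prime_and_dvd h1
    have := Fact.mk hr
    have hr2 : r ≠ 2 := by
      rintro rfl
      exact h2 hrM
    obtain ⟨R, hR, hRM⟩ := hO.exists_normalizer_le hcop hsol h hr2 (hrM.trans (Subgroup.relIndex_dvd_card _ _))
    exact not_dvd_relIndex hR (Subgroup.le_normalizer.trans hRM) hrM
  exact hO.nle (Subgroup.relIndex_eq_one.mp h1)

/-- The maximal invariant subgroup containing the normalizer of an invariant Sylow `p`-subgroup of `N` is unique. -/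
theorem One.unique [Finite G] {N M : Subgroup G} (h : Base A N) (hO : One A N M) {p : ℕ} [hp : Fact p.Prime]
    (hp2 : p ≠ 2) (hpN : p ∣ Nat.card N) {S : Subgroup G} (hS : Syl p S N) (hSA : Inv A S) {K L : Subgroup G}
    (hK : IsMaxInv A K) (hL : IsMaxInv A L) (hSK : Subgroup.normalizer (S : Set G) ≤ K)
    (hSL : Subgroup.normalizer (S : Set G) ≤ L) : K = L := by
  obtain ⟨hK1, hK2⟩ := rM h hp2 hpN hS hSA hK hSK
  obtain ⟨hL1, hL2⟩ := rM h hp2 hpN hS hSA hL hSL
  obtain ⟨c, hc⟩ := hO.all K hK hK1 hK2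
  obtain ⟨d, hd⟩ := hO.all L hL hL1 hL2
  set e : G := d * c⁻¹ with he
  have hLK : L = MulAut.conj e • K := by
    rw [hc, hd, smul_smul, ← map_mul, he, inv_mul_cancel_right]
  -- `S` and its conjugate by `e` are Sylow subgroups of `L ⊓ N`
  have hSLe : S ≤ L := Subgroup.le_normalizer.trans hSL
  have hSKe : S ≤ K := Subgroup.le_normalizer.trans hSK
  set S' : Subgroup G := S.map (MulAut.conj e).toMonoidHom with hS'
  have hS'L : S' ≤ L := by
    rw [hLK]
    exact Subgroup.map_mono hSKe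
  have hS'N : Syl p S' N := by
    have h3 := hS.map (MulAut.conj e).toMonoidHom (MulAut.conj e).injective
    rwa [h.map_conj] at h3
  have s1 : ∀ Q : Subgroup G, Syl p Q N → Q ≤ L → Syl p Q (L ⊓ N) := by
    intro Q hQ hQL
    refine ⟨le_inf hQL hQ.1, hQ.2.1, fun h1 => hQ.2.2 ?_⟩
    have h2 := Subgroup.relIndex_mul_relIndex Q (L ⊓ N) N (le_inf hQL hQ.1) inf_le_right
    rw [← h2]
    exact h1.mul_right _
  obtain ⟨l, hl, hle⟩ := (s1 S hS hSLe).conj (s1 S' hS'N hS'L)
  -- `l⁻¹ e` normalizes `S`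
  have h3 : l⁻¹ * e ∈ Subgroup.normalizer (S : Set G) := by
    rw [Subgroup.mem_normalizer_iff_map_conj_eq]
    have h4 : S.map (MulAut.conj (l⁻¹ * e)).toMonoidHom = (S.map (MulAut.conj e).toMonoidHom).map (MulAut.conj l⁻¹).toMonoidHom := by
      rw [Subgroup.map_map]
      congr 1
      ext x
      simp [mul_assoc]
    have h5 : S.map (MulAut.conj (l⁻¹ * e)).toMonoidHom = S := by
      rw [h4, ← hS', hle, Subgroup.map_map]
      convert Subgroup.map_id S
      ext x
      simp only [mul_assoc, _root_.map_inv, _root_.MulEquiv.toMonoidHom_eq_coe, _root_.MonoidHom.coe_comp, _root_.MonoidHom.coe_coe, _root_.MulAut.coe_inv, _root_.Function.comp_apply, _root_.MulAut.conj_apply, _root_.MulAut.conj_symm_apply, _root_.inv_mul_cancel_left, _root_.inv_mul_cancel, _root_.mul_one, _root_.MonoidHom.id_apply]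
    exact h5
  have h4 : e ∈ L := by
    have := mul_mem hl.1 (hSL h3)
    rwa [mul_inv_cancel_left] at this
  have h5 : K = MulAut.conj e⁻¹ • L := by
    rw [hLK, smul_smul, ← map_mul, inv_mul_cancel, map_one, one_smul]
  rw [h5]
  exact Subgroup.conj_smul_eq_self_of_mem (inv_mem h4)

/-! ### Products over all factors -/

/-- the property of a simple factor -/
def Stable {T : Type*} [Group T] (U X : Subgroup T) : Prop :=
  ∀ α : T ≃* T, U.map α.toMonoidHom = U → X.map α.toMonoidHom = X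

/-- the embeddings of `T₀` as a factor of `N` which map `U` into `S` -/
def Phi (N S : Subgroup G) {T₀ : Type*} [Group T₀] (U : Subgroup T₀) : Set (T₀ →* G) :=
  {φ | Function.Injective φ ∧ MinN N φ.range ∧ U.map φ ≤ S}

/-- the product of the images of `X` -/
def Xhat (N S : Subgroup G) {T₀ : Type*} [Group T₀] (U X : Subgroup T₀) : Subgroup G :=
  ⨆ φ ∈ Phi N S U, X.map φ

section

variable {T₀ : Type*} [Group T₀] {U X : Subgroup T₀} {N S : Subgroup G}

theorem le_Xhat {φ : T₀ →* G} (hφ : φ ∈ Phi N S U) : X.map φ ≤ Xhat N S U X :=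
  le_iSup₂_of_le φ hφ le_rfl

theorem Xhat_map_le (f : G ≃* G) (hN : N.map f.toMonoidHom = N) (hS : S.map f.toMonoidHom ≤ S) :
    (Xhat N S U X).map f.toMonoidHom ≤ Xhat N S U X := by
  rw [Subgroup.map_le_iff_le_comap]
  refine iSup₂_le fun φ hφ => ?_
  rw [← Subgroup.map_le_iff_le_comap, Subgroup.map_map]
  refine le_Xhat (φ := f.toMonoidHom.comp φ) ⟨?_, ?_, ?_⟩
  · exact f.injective.comp hφ.1
  · rw [MonoidHom.range_comp]
    exact hφ.2.1.map f hN
  · rw [← Subgroup.map_map]
    exact (Subgroup.map_mono hφ.2.2).trans hS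

theorem Xhat_inv [Finite G] (h : Base A N) (hS : Inv A S) : Inv A (Xhat N S U X) := by
  intro a x hx
  refine Xhat_map_le (MulDistribMulAction.toMulAut A G a) (h.map_inv a) ?_ ⟨x, hx, rfl⟩
  rintro _ ⟨y, hy, rfl⟩
  exact hS a y hy

theorem Xhat_norm [Finite G] (h : Base A N) :
    Subgroup.normalizer (S : Set G) ≤ Subgroup.normalizer (Xhat N S U X : Set G) := by
  intro g hg
  apply mem_normalizer_of_conj_mem
  intro x hx
  refine Xhat_map_le (MulAut.conj g) (h.map_conj g) ?_ ⟨x, hx, rfl⟩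
  exact (Subgroup.mem_normalizer_iff_map_conj_eq.mp hg).le

/-- all embeddings with the same image give the same subgroup -/
theorem map_eq_of_range_eq [Finite G] {p : ℕ} [hp : Fact p.Prime] (hS : Syl p S N)
    (hU : ¬ p ∣ U.index) (hX : Stable U X) {φ φ₀ : T₀ →* G} (hφ : φ ∈ Phi N S U)
    (hφ₀ : φ₀ ∈ Phi N S U) (hr : φ.range = φ₀.range) : X.map φ = X.map φ₀ := by
  -- the images of `U`
  have key : ∀ φ : T₀ →* G, φ ∈ Phi N S U → U.map φ = S ⊓ φ.range := by
    intro φ hφ
    have h1 := hS.inf hφ.2.1.le hφ.2.1.norm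
    have h2 : U.map φ ≤ S ⊓ φ.range := le_inf hφ.2.2 (by rintro _ ⟨x, -, rfl⟩; exact ⟨x, rfl⟩)
    have h3 : Syl p (U.map φ) φ.range := by
      refine ⟨h2.trans inf_le_right, h1.2.1.to_le h2, ?_⟩
      have : φ.range = (⊤ : Subgroup T₀).map φ := (MonoidHom.range_eq_map φ)
      rw [this, Subgroup.relIndex_map_map_of_injective _ _ hφ.1, Subgroup.relIndex_top_right]
      exact hU
    exact (h3.eq_of_le h2 inf_le_right h1.2.1).symm
  let e₀ : T₀ ≃* φ₀.range := MonoidHom.ofInjective hφ₀.1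
  let e : T₀ ≃* φ.range := MonoidHom.ofInjective hφ.1
  let α : T₀ ≃* T₀ := e.trans ((MulEquiv.subgroupCongr hr).trans e₀.symm)
  have hα : ∀ x, φ₀ (α x) = φ x := by
    intro x
    have h1 : (e₀ (α x) : G) = φ₀ (α x) := rfl
    rw [← h1]
    simp only [α, MulEquiv.trans_apply, MulEquiv.apply_symm_apply]
    rfl
  have hα' : φ₀.comp α.toMonoidHom = φ := MonoidHom.ext hα
  have hUα : U.map α.toMonoidHom = U := by
    apply Subgroup.map_injective hφ₀.1
    rw [Subgroup.map_map, hα', key φ hφ, key φ₀ hφ₀, hr]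
  rw [← hα', ← Subgroup.map_map, hX α hUα]

theorem Xhat_inf_le [Finite G] (h : Base A N) {p : ℕ} [hp : Fact p.Prime] (hS : Syl p S N)
    (hU : ¬ p ∣ U.index) (hX : Stable U X) {φ₀ : T₀ →* G} (hφ₀ : φ₀ ∈ Phi N S U) :
    Xhat N S U X ⊓ φ₀.range ≤ X.map φ₀ := by
  set T := φ₀.range with hT
  have hTm : MinN N T := hφ₀.2.1
  let D : Subgroup G :=
    { carrier := {x | ∃ t ∈ X.map φ₀, ∃ c ∈ N ⊓ Subgroup.centralizer (T : Set G), x = t * c}
      one_mem' := ⟨1, one_mem _, 1, one_mem _, (mul_one 1).symm⟩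
      mul_mem' := by
        rintro _ _ ⟨t, ht, c, hc, rfl⟩ ⟨t', ht', c', hc', rfl⟩
        refine ⟨t * t', mul_mem ht ht', c * c', mul_mem hc hc', ?_⟩
        have h1 := Subgroup.mem_centralizer_iff.mp hc.2 t' (by
          obtain ⟨y, -, rfl⟩ := ht'; exact ⟨y, rfl⟩)
        calc t * c * (t' * c') = t * (c * t') * c' := by group
          _ = t * (t' * c) * c' := by rw [h1]
          _ = t * t' * (c * c') := by group
      inv_mem' := by
        rintro _ ⟨t, ht, c, hc, rfl⟩
        refine ⟨t⁻¹, inv_mem ht, c⁻¹, inv_mem hc, ?_⟩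
        have h1 := Subgroup.mem_centralizer_iff.mp hc.2 t (by
          obtain ⟨y, -, rfl⟩ := ht; exact ⟨y, rfl⟩)
        rw [h1, mul_inv_rev] }
  have h1 : Xhat N S U X ≤ D := by
    refine iSup₂_le fun φ hφ => ?_
    by_cases hr : φ.range = T
    · rw [map_eq_of_range_eq hS hU hX hφ hφ₀ hr]
      exact fun x hx => ⟨x, hx, 1, one_mem _, (mul_one x).symm⟩
    · rintro _ ⟨x, -, rfl⟩
      refine ⟨1, one_mem _, φ x, ⟨hφ.2.1.le ⟨x, rfl⟩, ?_⟩, (one_mul _).symm⟩
      exact hTm.comm hφ.2.1 (fun h => hr h.symm) ⟨x, rfl⟩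
  rintro x ⟨hx, hxT⟩
  obtain ⟨t, ht, c, hc, rfl⟩ := h1 hx
  have htT : t ∈ T := by
    obtain ⟨y, -, rfl⟩ := ht; exact ⟨y, rfl⟩
  have hcT : c ∈ T ⊓ Subgroup.centralizer (T : Set G) := by
    refine ⟨?_, hc.2⟩
    have := mul_mem (inv_mem htT) hxT
    rwa [inv_mul_cancel_left] at this
  rw [hTm.inf_centralizer h, Subgroup.mem_bot] at hcT
  rw [hcT, mul_one]
  exact ht

theorem normalizer_Xhat_ne_top [Finite G] (h : Base A N) {p : ℕ} [hp : Fact p.Prime] (hS : Syl p S N)
    (hU : ¬ p ∣ U.index) (hX : Stable U X) {φ₀ : T₀ →* G} (hφ₀ : φ₀ ∈ Phi N S U) (hXt : X ≠ ⊤) (hXb : X ≠ ⊥) :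
    Subgroup.normalizer (Xhat N S U X : Set G) ≠ ⊤ := by
  intro h1
  have hn := Subgroup.normalizer_eq_top_iff.mp h1
  have hTm : MinN N φ₀.range := hφ₀.2.1
  have h2 : Xhat N S U X ⊓ φ₀.range = X.map φ₀ :=
    le_antisymm (Xhat_inf_le h hS hU hX hφ₀) (le_inf (le_Xhat hφ₀) (by rintro _ ⟨x, -, rfl⟩; exact ⟨x, rfl⟩))
  have h3 : N ≤ Subgroup.normalizer ((Xhat N S U X ⊓ φ₀.range : Subgroup G) : Set G) :=
    (le_inf (h1 ▸ le_top) hTm.norm).trans (normalizer_inf_le _ _)
  rcases hTm.min _ inf_le_right h3 with h4 | h4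
  · rw [h2] at h4
    exact hXb ((Subgroup.map_eq_bot_iff_of_injective _ hφ₀.1).mp h4)
  · rw [h2, MonoidHom.range_eq_map] at h4
    exact hXt (Subgroup.map_injective hφ₀.1 h4)

end

/-- a factor can be embedded with `U` in `S` -/
theorem exists_phi [Finite G] {N S T : Subgroup G} (h : Base A N) {p : ℕ} [hp : Fact p.Prime] (hS : Syl p S N)
    (hT : MinN N T) (U : Sylow p T) : ∃ φ ∈ Phi N S (U : Subgroup T), φ.range = T := by
  obtain ⟨t, ht, htU⟩ := (syl_of_sylow U).conj (hS.inf hT.le hT.norm)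
  refine ⟨(MulAut.conj t).toMonoidHom.comp T.subtype, ⟨?_, ?_, ?_⟩, ?_⟩
  · exact (MulAut.conj t).injective.comp T.subtype_injective
  · rw [MonoidHom.range_comp, Subgroup.range_subtype]
    exact hT.conj h t
  · rw [← Subgroup.map_map, ← htU]
    exact inf_le_left
  · rw [MonoidHom.range_comp, Subgroup.range_subtype]
    exact Subgroup.mem_normalizer_iff_map_conj_eq.mp (hT.norm (hT.le ht))

/-- **The properties of the factors.** -/
structure Bad (T : Type*) [Group T] : Prop where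
  /-- a subgroup of 2-power index containing Sylow normalizers for the odd primes -/
  idx : ∃ H : Subgroup T, H ≠ ⊤ ∧ (∃ b, H.index = 2 ^ b) ∧ ∀ r : ℕ, r.Prime → r ≠ 2 → r ∣ Nat.card T →
    ∀ R : Sylow r T, ∃ g : T, Subgroup.normalizer ((MulAut.conj g • (R : Subgroup T) : Subgroup T) : Set T) ≤ H
  two : ∀ (U : Sylow 2 T) (X : Subgroup T), U ≤ X → X ≠ ⊤ → Stable (U : Subgroup T) X → Group.IsNilpotent X
  odd : ∀ p : ℕ, p.Prime → p ≠ 2 → p ∣ Nat.card T → ∀ U : Sylow p T, ∃ Y : Subgroup T, Y ≠ ⊤ ∧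
    ∀ X : Subgroup T, U ≤ X → X ≠ ⊤ → Stable (U : Subgroup T) X → X ≤ Y

/-- **The factors of a proper minimal normal invariant subgroup are bad.** -/
theorem exists_bad [Finite A] [Finite G] (hcop : (Nat.card A).Coprime (Nat.card G))
    (hsol : Group.IsSolvable A) (hcl : TwoCl A G) {N T : Subgroup G} (h : Base A N) (hNt : N ≠ ⊤) (hT : MinN N T) :
    Bad T := by
  -- the subgroup `M`
  obtain ⟨M, hO⟩ : ∃ M, One A N M := by
    have h1 : ∃ r : ℕ, r.Prime ∧ r ≠ 2 ∧ r ∣ Nat.card N := by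
      by_contra hcon
      push Not at hcon
      apply h.nsol
      have : Fact (Nat.Prime 2) := ⟨Nat.prime_two⟩
      have h1 : IsPGroup 2 N := by
        rw [IsPGroup.iff_card]
        refine ⟨_, Nat.eq_prime_pow_of_unique_prime_dvd Nat.card_pos.ne' (fun {d} hd hdN => ?_)⟩
        by_contra hd2
        exact hcon d hd hd2 hdN
      have := h1.isNilpotent
      infer_instance
    obtain ⟨r, hr, hr2, hrN⟩ := h1
    have := Fact.mk hr
    obtain ⟨R, hR, hRA, M, hM, hle⟩ := exists_rM hcop hsol h hrN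
    obtain ⟨h2, h3⟩ := rM h hr2 hrN hR hRA hM hle
    exact ⟨M, exists_one h hNt hcl hM h2 h3⟩
  have hcardT : Nat.card T ∣ Nat.card N := Subgroup.card_dvd_of_le hT.le
  have hdata : ∀ r : ℕ, r.Prime → r ≠ 2 → r ∣ Nat.card T → ∃ R : Subgroup G, Syl r R N ∧
      Subgroup.normalizer (R : Set G) ≤ M := by
    intro r hr hr2 hrT
    have := Fact.mk hr
    exact hO.exists_normalizer_le hcop hsol h hr2 (hrT.trans hcardT)
  refine ⟨⟨M.subgroupOf T, ?_, ?_, ?_⟩, ?_, ?_⟩
  · intro h1
    exact MinN.not_le h hO.max hO.nle hT (Subgroup.subgroupOf_eq_top.mp h1)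
  · refine ⟨_, Nat.eq_prime_pow_of_unique_prime_dvd Subgroup.index_ne_zero_of_finite (fun {r} hr hrM => ?_)⟩
    by_contra hr2
    have := Fact.mk hr
    obtain ⟨R, hR, hRM⟩ := hdata r hr hr2 (hrM.trans (Subgroup.index_dvd_card _))
    exact not_dvd_relIndex (hR.inf hT.le hT.norm) (inf_le_left.trans (Subgroup.le_normalizer.trans hRM)) hrM
  · intro r hr hr2 hrT R₀
    have := Fact.mk hr
    obtain ⟨R, hR, hRM⟩ := hdata r hr hr2 hrT
    obtain ⟨t, ht, htR⟩ := (syl_of_sylow R₀).conj (hR.inf hT.le hT.norm)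
    refine ⟨⟨t, ht⟩, ?_⟩
    intro x hx
    rw [Subgroup.mem_subgroupOf]
    apply hRM
    apply hT.mem_normalizer h hR x.2
    have h1 : R ⊓ T = (MulAut.conj (⟨t, ht⟩ : T) • (R₀ : Subgroup T) : Subgroup T).map T.subtype := by
      rw [htR, ← map_conj_map]
    rw [h1]
    apply mem_normalizer_of_conj_mem
    rintro _ ⟨y, hy, rfl⟩
    exact ⟨x * y * x⁻¹, (Subgroup.mem_normalizer_iff.mp hx y).mp hy, rfl⟩
  · intro U X hUX hXt hX
    have : Fact (Nat.Prime 2) := ⟨Nat.prime_two⟩
    by_cases hXb : X = ⊥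
    · rw [hXb]; infer_instance
    obtain ⟨S₀, hS₀⟩ := exists_inv_sylow_sub hcop hsol N h.inv 2
    have hS := syl_of_sylow S₀
    obtain ⟨φ, hφ, hφT⟩ := exists_phi h hS hT U
    have h1 := hO.nilp_of_two hcop hsol h hS (normalizer_Xhat_ne_top h hS U.not_dvd_index hX hφ hXt hXb)
      (Xhat_inv h hS₀).normalizer (Xhat_norm h)
    have h2 : Group.IsNilpotent (X.map φ) := nilp_of_le ((le_Xhat hφ).trans Subgroup.le_normalizer) h1
    exact nilp_congr (X.equivMapOfInjective φ hφ.1) h2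
  · intro p hp hp2 hpT U
    have := Fact.mk hp
    obtain ⟨S, hS, hSA, L, hL, hle⟩ := exists_rM hcop hsol h (hpT.trans hcardT)
    obtain ⟨h2, h3⟩ := rM h hp2 (hpT.trans hcardT) hS hSA hL hle
    obtain ⟨φ, hφ, hφT⟩ := exists_phi h hS hT U
    refine ⟨L.comap φ, ?_, ?_⟩
    · intro h1
      apply MinN.not_le h hL h3 hT
      rw [← hφT]
      rintro _ ⟨x, rfl⟩
      have : x ∈ L.comap φ := h1 ▸ Subgroup.mem_top x
      exact this
    · intro X hUX hXt hX
      by_cases hXb : X = ⊥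
      · rw [hXb]; exact bot_le
      obtain ⟨K, hXK, hK⟩ := exists_maxInv (normalizer_Xhat_ne_top h hS U.not_dvd_index hX hφ hXt hXb)
        (Xhat_inv h hSA (U := (U : Subgroup T)) (X := X)).normalizer
      have h4 := hO.unique h hp2 (hpT.trans hcardT) hS hSA hK hL ((Xhat_norm h).trans hXK) hle
      subst h4
      rw [← Subgroup.map_le_iff_le_comap]
      exact (le_Xhat hφ).trans (Subgroup.le_normalizer.trans hXK)

end Cfsg.Agent.H580.Reduce
end

-- part: H580/LieBad
section
/-!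
# Groups of Lie type are not bad
-/

set_option autoImplicit false
open scoped Pointwise

namespace Cfsg.Agent.H580.LieBad

open Reduce Two MaxInv BN Cfsg.Agent.FixBN Cfsg.Agent.Schreier.BNSch

universe u v

variable {G : Type u} [Group G]

section Split

variable {P : Cfsg.BNPair G} {p : ℕ} {U : Subgroup G}

theorem map_B (h : Split P p U) (α : G ≃* G) (hα : U.map α.toMonoidHom = U) : P.B.map α.toMonoidHom = P.B := by
  rw [← h.normalizer_eq, Subgroup.map_equiv_normalizer_eq, hα]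

theorem B_ne_top {s : G} (hs : s ∈ P.S) : P.B ≠ ⊤ := fun h => not_mem_B P hs (h ▸ Subgroup.mem_top s)

/-- In a bad group of characteristic two the subgroup `B` is nilpotent. -/
theorem nilp_B [Finite G] [hp : Fact (Nat.Prime 2)] (h : Split P 2 U) (hbad : Bad G) {s : G} (hs : s ∈ P.S) :
    Group.IsNilpotent P.B := by
  obtain ⟨Q, hQ⟩ := exists_sylow_of_split h
  refine hbad.two Q P.B (hQ ▸ h.le) (B_ne_top hs) ?_
  intro α hα
  rw [hQ] at hα
  exact map_B h α hα

/-- and the torus is trivial -/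
theorem torus_trivial [Finite G] [hp : Fact (Nat.Prime p)] (h : Split P p U) (hn : Group.IsNilpotent P.B) :
    ∀ x ∈ P.B, x ∈ P.N → x = 1 := by
  obtain ⟨m, hm, hH⟩ := h.tor
  -- the torus centralizes `U`
  have hc : ∀ x ∈ P.B, x ∈ P.N → ∀ u ∈ U, x * u = u * x := by
    intro x hx hxN u hu
    obtain ⟨k, hk⟩ := h.isP ⟨u, hu⟩
    have hk0 : u ^ p ^ k = 1 := congrArg Subtype.val hk
    have hk' : (⟨u, h.le hu⟩ : P.B) ^ p ^ k = 1 := Subtype.ext hk0
    have hm' : (⟨x, hx⟩ : P.B) ^ m = 1 := Subtype.ext (hH x hx hxN)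
    have hcop : Nat.Coprime m (p ^ k) := by
      apply Nat.Coprime.pow_right
      exact ((Nat.Prime.coprime_iff_not_dvd hp.out).mpr hm).symm
    exact congrArg Subtype.val (Lib.NilpotentCoprime.commute_of_pow_eq_one hcop hm' hk').eq
  -- the torus is normal
  have hnorm : (P.B ⊓ P.N).Normal := by
    rw [← Subgroup.normalizer_eq_top_iff, eq_top_iff, ← P.sup_eq_top]
    refine sup_le ?_ ?_
    · intro b hb
      obtain ⟨u, hu, t, ht, rfl⟩ := h.cover' hb
      apply mem_normalizer_of_conj_mem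
      intro x hx
      have h1 : t * x * t⁻¹ ∈ P.B ⊓ P.N := Subgroup.mul_mem _ (Subgroup.mul_mem _ ht hx) (Subgroup.inv_mem _ ht)
      have h2 := hc _ h1.1 h1.2 u hu
      have h3 : u * t * x * (u * t)⁻¹ = t * x * t⁻¹ := by
        calc u * t * x * (u * t)⁻¹ = u * (t * x * t⁻¹) * u⁻¹ := by group
          _ = (t * x * t⁻¹) * u * u⁻¹ := by rw [h2]
          _ = t * x * t⁻¹ := by group
      rw [h3]
      exact h1
    · intro n hn
      apply mem_normalizer_of_conj_mem
      intro x hx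
      exact ⟨P.conj_mem n hn x hx, P.N.mul_mem (P.N.mul_mem hn hx.2) (P.N.inv_mem hn)⟩
  intro x hx hxN
  have h1 : x ∈ P.B.normalCore := by
    intro g
    exact (hnorm.conj_mem x ⟨hx, hxN⟩ g).1
  rw [h.core] at h1
  exact Subgroup.mem_bot.mp h1

theorem B_eq [Finite G] [hp : Fact (Nat.Prime p)] (h : Split P p U) (hn : Group.IsNilpotent P.B) : P.B = U := by
  apply le_antisymm _ h.le
  intro b hb
  obtain ⟨u, hu, t, ht, rfl⟩ := h.cover' hb
  rw [torus_trivial h hn t ht.1 ht.2, mul_one]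
  exact hu

/-- **Rank one, characteristic two.** -/
theorem card_lt_of_one [Finite G] [hp : Fact (Nat.Prime 2)] (h : Split P 2 U) (hbad : Bad G) {s : G}
    (hS : P.S = {s}) : Nat.card G < 3 * Nat.card U ^ 2 := by
  have hs : s ∈ P.S := by rw [hS]; rfl
  have hB := B_eq h (nilp_B h hbad hs)
  have h1 := P.B.card_mul_index
  rw [RankOne.index_B h hS, hB] at h1
  have h2 : 0 < Nat.card U := Nat.card_pos
  rw [← h1]
  nlinarith only [h2]

theorem dvd_card [Finite G] [hp : Fact p.Prime] (h : Split P p U) {s : G} (hs : s ∈ P.S) : p ∣ Nat.card G := by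
  have hU : U ≠ ⊥ := by
    rintro rfl
    have h1 := h.normalizer_eq
    rw [Subgroup.normalizer_eq_top_iff.mpr inferInstance] at h1
    exact B_ne_top hs h1.symm
  have : Nontrivial U := (Subgroup.nontrivial_iff_ne_bot U).mpr hU
  obtain ⟨n, hn0, hn⟩ := (h.isP.nontrivial_iff_card).mp this
  exact (dvd_pow_self p hn0.ne').trans (hn ▸ Subgroup.card_subgroup_dvd_card U)

/-- In a bad group of odd characteristic there is a subgroup of 2-power index containing `B`. -/
theorem exists_over_B [Finite G] [hp : Fact p.Prime] (h : Split P p U) (hbad : Bad G) (hp2 : p ≠ 2) {s : G}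
    (hs : s ∈ P.S) : ∃ (H : Subgroup G) (b : ℕ), H ≠ ⊤ ∧ P.B ≤ H ∧ H.index = 2 ^ b ∧
      ∀ r : ℕ, r.Prime → r ≠ 2 → r ∣ Nat.card G → 2 ^ b ≡ 1 [MOD r] := by
  obtain ⟨Q, hQ⟩ := exists_sylow_of_split h
  obtain ⟨H, hHt, ⟨b, hb⟩, hH⟩ := hbad.idx
  obtain ⟨g, hg⟩ := hH p hp.out hp2 (dvd_card h hs) Q
  refine ⟨MulAut.conj g⁻¹ • H, b, ?_, ?_, ?_, ?_⟩
  · intro h1
    apply hHt
    rw [← Subgroup.index_eq_one] at h1 ⊢
    rwa [index_conj] at h1
  · have h1 : P.B = MulAut.conj g⁻¹ • (Subgroup.normalizer ((MulAut.conj g • (Q : Subgroup G) : Subgroup G) : Set G)) := by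
      rw [hQ]
      have e1 : (MulAut.conj g • U : Subgroup G) = U.map (MulAut.conj g).toMonoidHom := rfl
      rw [e1, ← Subgroup.map_equiv_normalizer_eq, h.normalizer_eq]
      have e2 : P.B.map (MulAut.conj g).toMonoidHom = (MulAut.conj g • P.B : Subgroup G) := rfl
      rw [e2, smul_smul, ← map_mul, inv_mul_cancel, map_one, one_smul]
    rw [h1]
    exact (smul_le_smul_iff' _).mpr hg
  · rw [index_conj, hb]
  · intro r hr hr2 hrG
    have := Fact.mk hr
    obtain ⟨R⟩ : Nonempty (Sylow r G) := inferInstance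
    obtain ⟨g, hg⟩ := hH r hr hr2 hrG R
    rw [← hb]
    exact index_modEq_one (g • R) H hg

/-- **Rank one, odd characteristic.** -/
theorem rank_one_odd [Finite G] [hp : Fact p.Prime] (h : Split P p U) (hbad : Bad G) (hp2 : p ≠ 2) {s : G}
    (hS : P.S = {s}) : ∃ b, 1 + Nat.card U = 2 ^ b ∧ ∀ r : ℕ, r.Prime → r ≠ 2 → r ∣ Nat.card G → 2 ^ b ≡ 1 [MOD r] := by
  have hs : s ∈ P.S := by rw [hS]; rfl
  obtain ⟨H, b, hHt, hBH, hb, hr⟩ := exists_over_B h hbad hp2 hs
  refine ⟨b, ?_, hr⟩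
  have hcoat : IsCoatom P.B := by
    have h1 := isCoatom_parabolic P hs
    rwa [hS, Set.sdiff_self, parabolic_empty] at h1
  have h1 : H = P.B := by
    by_contra h1
    exact hHt (hcoat.2 H (lt_of_le_of_ne hBH (Ne.symm h1)))
  rw [← hb, h1, RankOne.index_B h hS]

/-- a proper subgroup containing `B` lies in a maximal parabolic subgroup -/
theorem exists_le_parabolic {H : Subgroup G} (hHt : H ≠ ⊤) (hBH : P.B ≤ H) :
    ∃ s ∈ P.S, H ≤ P.parabolic (P.S \ {s}) := by
  obtain ⟨J, hJ, rfl⟩ := Cfsg.Agent.S0311.result P H hBH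
  have h1 : J ≠ P.S := by
    rintro rfl
    exact hHt (parabolic_S P)
  obtain ⟨s, hs, hsJ⟩ : ∃ s ∈ P.S, s ∉ J := by
    by_contra hcon
    push Not at hcon
    exact h1 (Set.Subset.antisymm hJ hcon)
  exact ⟨s, hs, parabolic_mono P fun x hx => ⟨hJ hx, fun h => hsJ (h ▸ hx)⟩⟩

/-- **Rank two, odd characteristic.** -/
theorem rank_two_odd [Finite G] [hp : Fact p.Prime] (h : Split P p U) (hbad : Bad G) (hp2 : p ≠ 2) {s t : G}
    (hS : P.S = {s, t}) (hst : s ≠ t) (hirr : s * t * s⁻¹ * t⁻¹ ∉ P.B) : False := by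
  have hs : s ∈ P.S := by rw [hS]; simp
  obtain ⟨H, b, hHt, hBH, hb, -⟩ := exists_over_B h hbad hp2 hs
  obtain ⟨r, hr, hr2, hrs, hrt⟩ := RankTwo.exists_common h hS hst hirr
  obtain ⟨x, hx, hHx⟩ := exists_le_parabolic hHt hBH
  have e1 : P.S \ {t} = {s} := by
    rw [hS]
    ext x
    simp only [Set.mem_sdiff, Set.mem_insert_iff, Set.mem_singleton_iff]
    constructor
    · rintro ⟨h | h, h'⟩
      · exact h
      · exact absurd h h'
    · rintro rfl
      exact ⟨Or.inl rfl, hst⟩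
  have e2 : P.S \ {s} = {t} := by
    rw [hS]
    ext x
    simp only [Set.mem_sdiff, Set.mem_insert_iff, Set.mem_singleton_iff]
    constructor
    · rintro ⟨h | h, h'⟩
      · exact absurd h h'
      · exact h
    · rintro rfl
      exact ⟨Or.inr rfl, hst.symm⟩
  have h1 : r ∣ (P.parabolic (P.S \ {x})).index := by
    rw [hS] at hx
    rcases hx with rfl | hx
    · rw [e2]; exact hrt
    · rw [Set.mem_singleton_iff] at hx
      subst hx
      rw [e1]; exact hrs
  have h2 := h1.trans (Subgroup.index_dvd_of_le hHx)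
  rw [hb] at h2
  exact hr2 ((Nat.prime_dvd_prime_iff_eq hr Nat.prime_two).mp (hr.dvd_of_dvd_pow h2))

open Cfsg.Agent.LieRecognition.FeitHigmanGroup (q R R_mk_iff Red alt exists_max_red alt_mem_N alt_succ two_le_q)
open Cfsg.Agent.LieExceptional.BNPairCore (mem_C)

/-- the parameters divide the order of `U` -/
theorem q_dvd [Finite G] (h : Split P p U) {w : G} (hw : w ∈ P.N) : q P w ∣ Nat.card U := by
  have h1 : MulAction.orbit U ((w : G) : G ⧸ P.B) = {y | R P w ((1 : G) : G ⧸ P.B) y} := by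
    ext y
    constructor
    · rintro ⟨u, rfl⟩
      change R P w _ (((u : G) * w : G) : G ⧸ P.B)
      rw [R_mk_iff, inv_one, one_mul]
      exact mem_C.2 ⟨u, h.le u.2, 1, one_mem _, by rw [mul_one]⟩
    · intro hy
      induction y using QuotientGroup.induction_on with
      | H g =>
        change R P w _ _ at hy
        rw [R_mk_iff, inv_one, one_mul] at hy
        obtain ⟨b, hb, b', hb', hg⟩ := mem_C.1 hy
        obtain ⟨u, hu, t, ht, rfl⟩ := h.cover' hb
        refine ⟨⟨u, hu⟩, ?_⟩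
        change ((u * w : G) : G ⧸ P.B) = _
        rw [QuotientGroup.eq, hg]
        have h2 := P.conj_mem w⁻¹ (inv_mem hw) t ht
        rw [inv_inv] at h2
        have h3 : (u * w)⁻¹ * (u * t * w * b') = (w⁻¹ * t * w) * b' := by group
        rw [h3]
        exact mul_mem h2 hb'
  have h2 := MulAction.index_stabilizer U ((w : G) : G ⧸ P.B)
  have h3 : q P w = (MulAction.stabilizer U ((w : G) : G ⧸ P.B)).index := by
    rw [h2, h1]
    rfl
  rw [h3]
  exact Subgroup.index_dvd_card _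

/-- **Rank two, characteristic two.** -/
theorem card_lt_of_two [Finite G] [hp : Fact (Nat.Prime 2)] (h : Split P 2 U) (hbad : Bad G) {s t : G}
    (hS : P.S = {s, t}) (hst : s ≠ t) : Nat.card G < 3 * Nat.card U ^ 2 := by
  have hs : s ∈ P.S := by rw [hS]; simp
  have ht : t ∈ P.S := by rw [hS]; simp
  have hB := B_eq h (nilp_B h hbad hs)
  -- the two nodes are exchanged by some automorphism
  have hq : q P s = q P t := by
    obtain ⟨Q, hQ⟩ := exists_sylow_of_split h
    have hPt : P.parabolic {s} ≠ ⊤ := by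
      intro h1
      have h2 := (parabolic_le_iff P (subset_refl P.S) (Set.singleton_subset_iff.mpr hs)).mp
        (by rw [parabolic_S, h1])
      exact hst (Set.mem_singleton_iff.mp (h2 ht)).symm
    by_contra hne
    refine not_nilp_of_le P hs le_rfl (hbad.two Q (P.parabolic {s}) (hQ ▸ h.le.trans (B_le_parabolic P _)) hPt ?_)
    intro α hα
    rw [hQ] at hα
    have hBα := map_B h α hα
    obtain ⟨x, hx, hxs⟩ := exists_map_eq P α hBα hs
    rw [hS] at hx
    rcases hx with rfl | hx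
    · exact hxs
    · exfalso
      rw [Set.mem_singleton_iff] at hx
      subst hx
      apply hne
      have h1 : (P.B.map α.toMonoidHom).relIndex ((P.parabolic {s}).map α.toMonoidHom) =
          P.B.relIndex (P.parabolic {s}) := Subgroup.relIndex_map_map_of_injective _ _ α.injective
      rw [hBα, hxs, RankTwo.relIndex_parabolic ht, RankTwo.relIndex_parabolic hs] at h1
      omega
  obtain ⟨n, hn2, hred, hbraid, hne⟩ := exists_max_red hS hst
  have hredle : ∀ k, k ≤ n → Red P s t k := fun k hk => hred.of_le hs ht hk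
  have hidx := RankTwo.index_B hS (by omega) hred hbraid hne
  set x := q P s with hx
  have hxpow : ∀ k, k ≤ n → q P (alt k s t) = x ^ k ∧ q P (alt k t s) = x ^ k := by
    intro k
    induction k with
    | zero =>
      intro _
      rw [pow_zero]
      exact ⟨RankTwo.q_one, RankTwo.q_one⟩
    | succ k ih =>
      intro hk
      obtain ⟨h1, h2⟩ := ih (by omega)
      constructor
      · rw [alt_succ, RankTwo.q_mul hs (alt_mem_N ht hs k) (by
          rw [← alt_succ, (hredle (k + 1) hk).1, (hredle k (by omega)).2]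
          exact Nat.le_succ k), h2, pow_succ, mul_comm]
      · rw [alt_succ, RankTwo.q_mul ht (alt_mem_N hs ht k) (by
          rw [← alt_succ, (hredle (k + 1) hk).2, (hredle k (by omega)).1]
          exact Nat.le_succ k), h1, pow_succ, mul_comm, ← hq]
  have hx2 : 2 ≤ x := two_le_q (P := P) hs
  have hle : x ^ n ≤ Nat.card U := by
    rw [← (hxpow n le_rfl).1]
    exact Nat.le_of_dvd Nat.card_pos (q_dvd h (alt_mem_N hs ht n))
  have hsum : P.B.index = (1 + x) * ∑ k ∈ Finset.range n, x ^ k := by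
    rw [hidx, add_mul, one_mul, Finset.mul_sum]
    congr 1
    · exact Finset.sum_congr rfl fun k hk => (hxpow k (Finset.mem_range.mp hk).le).1
    · exact Finset.sum_congr rfl fun k hk => by
        rw [(hxpow (k + 1) (Finset.mem_range.mp hk)).2, pow_succ, mul_comm]
  obtain ⟨y, hy⟩ : ∃ y, x = y + 1 := ⟨x - 1, by omega⟩
  have hgeo := geom_sum_mul_add y n
  rw [← hy] at hgeo
  set SS := ∑ k ∈ Finset.range n, x ^ k with hSS
  have h1 : P.B.index < 3 * Nat.card U := by
    rw [hsum]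
    have h2 : (1 + x) * SS ≤ 3 * (SS * y) := by
      have : 1 + x ≤ 3 * y := by omega
      calc (1 + x) * SS ≤ (3 * y) * SS := Nat.mul_le_mul_right _ this
        _ = 3 * (SS * y) := by ring
    omega
  have h2 := P.B.card_mul_index
  rw [hB] at h2 h1
  rw [← h2]
  have h3 : 0 < Nat.card U := Nat.card_pos
  nlinarith only [h1]

end Split

/-! ### rank at least three -/

section RGD
open CoxeterSystem Cfsg.Agent.ChevalleyStructure.CoxeterGeom Cfsg.Agent.Tits.Roots
  Cfsg.Agent.Nodes.Reps Cfsg.Agent.Nodes.BNOf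
open Cfsg.Agent.LieRecognition.CoxClass

theorem exists_leaf {B : Type*} [Fintype B] [DecidableEq B] {M : CoxeterMatrix B} {W : Type*} [Group W] [Finite W]
    (cs : CoxeterSystem M W) (h5 : ∀ a b : B, M a b ≠ 5)
    (hconn : ∀ J : Set B, J.Nonempty → Jᶜ.Nonempty → ∃ a ∈ J, ∃ b ∈ Jᶜ, M a b ≠ 2)
    (h3 : 3 ≤ Fintype.card B) : ∃ x, ∀ y z, Graph.Adj M x y → Graph.Adj M x z → y = z := by
  have key : ∀ {n : ℕ} (hn : 3 ≤ n) {m : ℕ → ℕ → ℕ} (v : Fin n ≃ B), Lab M v m → Graph.Good n m →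
      ∃ x, ∀ y z, Graph.Adj M x y → Graph.Adj M x z → y = z := by
    intro n hn m v hv hm
    refine ⟨v ⟨0, by omega⟩, ?_⟩
    have h1 : ∀ y, Graph.Adj M (v ⟨0, by omega⟩) y → y = v ⟨1, by omega⟩ := by
      intro y hy
      obtain ⟨j, rfl⟩ := v.surjective y
      unfold Graph.Adj at hy
      rw [hv, Ne, v.injective.eq_iff] at hy
      have h2 := hm.h0 j j.2 (fun h => hy.1 (Fin.ext h.symm)) hy.2
      congr 1
      exact Fin.ext h2
    intro y z hy hz
    rw [h1 y hy, h1 z hz]
  rcases classify_coxeter cs h5 hconn h3 with ⟨n, v, hn, hv⟩ | ⟨n, v, hn, hv⟩ | ⟨n, v, hn, hv⟩ | ⟨v, hv⟩ | ⟨v, hv⟩ |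
    ⟨v, hv⟩ | ⟨v, hv⟩
  · exact key hn v hv (Graph.good_A hn)
  · exact key hn v hv (Graph.good_C hn)
  · exact key (by omega) v hv (Graph.good_D hn)
  · exact key (by omega) v hv (Graph.good_E (by omega))
  · exact key (by omega) v hv (Graph.good_E (by omega))
  · exact key (by omega) v hv (Graph.good_E (by omega))
  · exact key (by omega) v hv Graph.good_F

theorem exists_nonleaf {B : Type*} [Fintype B] [DecidableEq B] {M : CoxeterMatrix B}
    (hconn : ∀ J : Set B, J.Nonempty → Jᶜ.Nonempty → ∃ a ∈ J, ∃ b ∈ Jᶜ, M a b ≠ 2)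
    (h3 : 3 ≤ Fintype.card B) : ∃ x, ¬ ∀ y z, Graph.Adj M x y → Graph.Adj M x z → y = z := by
  classical
  obtain ⟨i⟩ : Nonempty B := Fintype.card_pos_iff.mp (by omega)
  have hex : ∀ J : Finset B, J.card < 3 → ∃ x, x ∉ J := by
    intro J hJ
    by_contra hcon
    push Not at hcon
    have : J = Finset.univ := Finset.eq_univ_iff_forall.mpr hcon
    rw [this, Finset.card_univ] at hJ
    omega
  obtain ⟨k, hk⟩ := hex {i} (by simp)
  obtain ⟨a, ha, j, hj, hij⟩ := hconn {i} ⟨i, rfl⟩ ⟨k, by simpa using hk⟩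
  rw [Set.mem_singleton_iff] at ha
  subst ha
  have hji : j ≠ a := hj
  obtain ⟨k, hk⟩ := hex {a, j} (lt_of_le_of_lt Finset.card_le_two (by norm_num))
  obtain ⟨b, hb, c, hc, hbc⟩ := hconn {a, j} ⟨a, by simp⟩ ⟨k, by simpa using hk⟩
  have hca : c ≠ a := fun h => hc (by simp [h])
  have hcj : c ≠ j := fun h => hc (by simp [h])
  rcases hb with rfl | hb
  · refine ⟨b, fun h => hcj (h c j ⟨hca.symm, hbc⟩ ⟨hji.symm, hij⟩)⟩
  · rw [Set.mem_singleton_iff] at hb
    subst hb
    refine ⟨b, fun h => hca (h c a ⟨hcj.symm, hbc⟩ ⟨hji, ?_⟩)⟩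
    rwa [M.symmetric]

variable {I : Type*} [Fintype I] [DecidableEq I] {M : CoxeterMatrix I} {W : Type*} [Group W]
  {cs : CoxeterSystem M W} {C : I → I → ℤ} {h : IsCartan M C} {p : ℕ} {T : Subgroup G} {n : I → G}
  {X : (I → ℤ) → Subgroup G}

/-- **Rank at least three.** -/
theorem rank_ge_three [Finite G] [IsSimpleGroup G] [Finite W] (hbad : Bad G) [hp : Fact p.Prime] (R : RGD cs h p T n X)
    (hgen : RGD.B cs h T X ⊔ NN cs R.nsys = ⊤)
    (hconn : Cfsg.Agent.KFacts.RgdCharP.Conn M) (h3 : 3 ≤ Fintype.card I) : False := by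
  classical
  obtain ⟨i₀⟩ : Nonempty I := Fintype.card_pos_iff.mp (by omega)
  have hne : (R.bnPair hgen).S.Nonempty := ⟨n i₀, i₀, rfl⟩
  have hsplit := SplitRGD.split_of_rgd hp.out R hgen (Cfsg.Agent.Tits.OfBN.normalCore_eq_bot (R.bnPair hgen) hne)
  have h5 : ∀ a b : I, M a b ≠ 5 := by
    intro a b hab
    by_cases hne : a = b
    · rw [hne, M.diagonal] at hab; omega
    · rcases h.rel a b hne with h1 | h1 | h1 | h1 <;> omega
  have hconn' : ∀ J : Set I, J.Nonempty → Jᶜ.Nonempty → ∃ a ∈ J, ∃ b ∈ Jᶜ, M a b ≠ 2 := by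
    intro J hJ hJc
    exact hconn J hJ (fun h => by rw [h, Set.compl_univ] at hJc; exact Set.not_nonempty_empty hJc)
  obtain ⟨x₁, hx₁⟩ := exists_leaf cs h5 hconn' h3
  obtain ⟨x₂, hx₂⟩ := exists_nonleaf hconn' h3
  set P := R.bnPair hgen with hP
  have hs : Set.range n = P.S := rfl
  have hsS : ∀ i, n i ∈ P.S := fun i => ⟨i, rfl⟩
  -- parabolic subgroups invariant under the symmetries of the diagram
  set U := RGD.Sup X (RGD.Pos cs h) with hU
  obtain ⟨Q, hQ⟩ := exists_sylow_of_split hsplit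
  have hstab : ∀ L : I → Prop, (∀ σ : Equiv.Perm I, (∀ i j, Graph.Adj M (σ i) (σ j) ↔ Graph.Adj M i j) →
      ∀ i, L i → L (σ i)) → Stable (Q : Subgroup G) (P.parabolic (n '' {i | L i})) := by
    intro L hL α hα
    rw [hQ] at hα
    have hBα := map_B hsplit α hα
    obtain ⟨σ, hσ1, hσ2⟩ := Cfsg.Agent.Schreier.BNGraph.exists_perm P n hs R.n_injective (Graph.Adj M)
      (fun i hi => hi.1 rfl) (fun i j hij => Lie.adj_iff R hij) α hBα
    have key : P.parabolic (n '' {i | L i}) = P.B ⊔ ⨆ i : {i | L i}, P.parabolic {n i} := by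
      apply le_antisymm
      · refine sup_le le_sup_left ?_
        rw [Subgroup.closure_le]
        rintro _ ⟨i, hi, rfl⟩
        exact Subgroup.mem_sup_right (Subgroup.mem_iSup_of_mem (⟨i, hi⟩ : {i | L i}) (mem_parabolic_self P _))
      · refine sup_le le_sup_left (iSup_le fun i => parabolic_mono P (Set.singleton_subset_iff.mpr ⟨i, i.2, rfl⟩))
    refine Subgroup.eq_of_le_of_card_ge ?_ (Subgroup.card_map_of_injective α.injective).ge
    conv_lhs => rw [key]
    rw [Subgroup.map_sup, Subgroup.map_iSup]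
    refine sup_le ?_ (iSup_le fun i => ?_)
    · rw [hBα]
      exact B_le_parabolic P _
    · have h1 := hσ1 i
      have h2 : (P.parabolic {n (i : I)}).map α.toMonoidHom = P.parabolic {n (σ i)} := h1
      rw [h2]
      exact parabolic_mono P (Set.singleton_subset_iff.mpr ⟨σ i, hL σ hσ2 i i.2, rfl⟩)
  have hBQ : ∀ J, (Q : Subgroup G) ≤ P.parabolic J := fun J => by
    rw [hQ]
    exact hsplit.le.trans (B_le_parabolic P J)
  have hproper : ∀ (L : I → Prop) (x : I), ¬ L x → P.parabolic (n '' {i | L i}) ≠ ⊤ := by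
    intro L x hx h1
    have h2 := (parabolic_le_iff P (subset_refl P.S) (J := n '' {i | L i}) (by rintro _ ⟨i, -, rfl⟩; exact hsS i)).mp
      (by rw [parabolic_S, h1])
    obtain ⟨i, hi, hix⟩ := h2 (hsS x)
    exact hx (R.n_injective hix ▸ hi)
  set L₁ : I → Prop := fun x => ∀ y z, Graph.Adj M x y → Graph.Adj M x z → y = z with hL₁
  have hL₁σ : ∀ σ : Equiv.Perm I, (∀ i j, Graph.Adj M (σ i) (σ j) ↔ Graph.Adj M i j) → ∀ i, L₁ i ↔ L₁ (σ i) := by
    intro σ hσ i
    constructor
    · intro hi y z hy hz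
      obtain ⟨y, rfl⟩ := σ.surjective y
      obtain ⟨z, rfl⟩ := σ.surjective z
      rw [hi y z ((hσ i y).mp hy) ((hσ i z).mp hz)]
    · intro hi y z hy hz
      exact σ.injective (hi (σ y) (σ z) ((hσ i y).mpr hy) ((hσ i z).mpr hz))
  have st1 := hstab L₁ (fun σ hσ i hi => (hL₁σ σ hσ i).mp hi)
  have st2 := hstab (fun x => ¬ L₁ x) (fun σ hσ i hi h1 => hi ((hL₁σ σ hσ i).mpr h1))
  have pr1 := hproper L₁ x₂ hx₂
  have pr2 := hproper (fun x => ¬ L₁ x) x₁ (fun h1 => h1 hx₁)
  by_cases hp2 : p = 2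
  · subst hp2
    have h1 := hbad.two Q _ (hBQ _) pr1 st1
    have h2 : P.parabolic {n x₁} ≤ P.parabolic (n '' {i | L₁ i}) :=
      parabolic_mono P (Set.singleton_subset_iff.mpr ⟨x₁, hx₁, rfl⟩)
    exact not_nilp_of_le P (hsS x₁) h2 h1
  · obtain ⟨Y, hY, hall⟩ := hbad.odd p hp.out hp2 (dvd_card hsplit (hsS i₀)) Q
    apply hY
    have h1 := hall _ (hBQ _) pr1 st1
    have h2 := hall _ (hBQ _) pr2 st2
    rw [eq_top_iff, ← parabolic_S P]
    refine sup_le ((B_le_parabolic P _).trans h1) ?_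
    rw [Subgroup.closure_le]
    rintro _ ⟨i, rfl⟩
    by_cases hi : L₁ i
    · have h3 : P.parabolic {n i} ≤ P.parabolic (n '' {i | L₁ i}) :=
        parabolic_mono P (Set.singleton_subset_iff.mpr ⟨i, hi, rfl⟩)
      exact h1 (h3 (mem_parabolic_self P _))
    · have h3 : P.parabolic {n i} ≤ P.parabolic (n '' {i | ¬ L₁ i}) :=
        parabolic_mono P (Set.singleton_subset_iff.mpr ⟨i, hi, rfl⟩)
      exact h2 (h3 (mem_parabolic_self P _))

end RGD

end Cfsg.Agent.H580.LieBad
end
end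

-- part: H580/LieFam
section
set_option linter.all false
open scoped Cfsg.Agent.FastGrp

/-!
# The groups of Lie type of rank at least two

`lie_cases` : a group of Lie type is `PSL₂`, `PSU₃`, Suzuki, Ree, `²F₄` or has root group data of rank at least two.
-/

set_option autoImplicit false
open scoped Pointwise

namespace Cfsg.Agent.H580.LieFam

open Cfsg CoxeterSystem Cfsg.Agent.ChevalleyStructure.CoxeterGeom Cfsg.Agent.Nodes.Reps Cfsg.Agent.Nodes.BNOf
  Cfsg.Agent.Omega.ML.Ex.Typ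

universe u v

/-- root group data of rank at least two -/
def Rgd2 (p : ℕ) (G : Type*) [Group G] : Prop :=
  ∃ (l : ℕ) (M : CoxeterMatrix (Fin l)), 2 ≤ l ∧ HasRGDT p M G

section Odd

open QuadraticMap
open Cfsg.Agent.LieClassical Cfsg.Agent.LieClassical.OrthCore Cfsg.Agent.LieClassical.OrthTrans
open Cfsg.Agent.LieClassical.OrthSimple Cfsg.Agent.LieClassical.OrthFinite
open Cfsg.Agent.LieClassical.OrthForms
open Cfsg.Agent.TitsThree.KSideO Cfsg.Agent.TitsThree.StdData
open Cfsg.Agent.Nodes Cfsg.Agent.Nodes.WittAll Cfsg.Agent.Nodes.WittU Cfsg.Agent.Nodes.WittInst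
  Cfsg.Agent.TitsThree.Siegel Cfsg.Agent.TitsThree.SiegelGen
  Cfsg.Agent.TitsThree.WittFrame Cfsg.Agent.TitsThree.WBridge Cfsg.Agent.TitsThree.WittWeyl
  Cfsg.Agent.TitsThree.FrameCN

variable {F : Type*} [Field F] {m : ℕ}

theorem typ_PO_odd [Finite F] (h2 : (2 : F) ≠ 0) (hm : 2 ≤ m) {p : ℕ} [Fact p.Prime] [CharP F p] :
    HasRGDT p (CoxeterMatrix.B m) (Cfsg.POmega F (Cfsg.quadFormOdd m F)) := by
  rw [← coe_oddForm]
  have hG : Good (oddForm m F) := by
    apply good_of_finite (nondeg_oddForm m F h2)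
    rw [Module.finrank_fintype_fun_eq_card, Fintype.card_sum, Fintype.card_sum, Fintype.card_fin,
      Fintype.card_unit]
    omega
  have hp : ((embOdd m F).ngt ⟨1, -1 ^ 2, rfl⟩).c ≠ 0 := by
    change (1 : F)⁻¹ * (-1 ^ 2) ≠ 0
    simp
  exact typ_C (model (wodd m F) hG ⟨_, hp⟩) (AmbT.of_amb (amb_O_of_two _ h2) p) hp (by omega)

end Odd

/-- **The groups of Lie type.** -/
theorem lie_cases {p : ℕ} {G : Type*} [Group G] (hG : IsLieTypeChar p G) :
    (∃ (F : Type) (_ : Field F) (_ : Fintype F) (_ : CharP F p), 4 ≤ Fintype.card F ∧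
      Nonempty (G ≃* Matrix.ProjectiveSpecialLinearGroup (Fin 2) F)) ∨
    (∃ (F : Type) (_ : Field F) (_ : Fintype F) (_ : CharP F p) (q : ℕ), Fintype.card F = q ^ 2 ∧ q ≠ 2 ∧
      Nonempty (G ≃* PSU 3 F q)) ∨
    (p = 2 ∧ Lie.IsoSuzuki G) ∨ (p = 3 ∧ Lie.IsoRee G) ∨ (p = 2 ∧ Lie.Iso2F4 G) ∨ Rgd2 p G := by
  rcases hG with h | h | h | h | h | h | h | h | h | h | h
  · obtain ⟨F, _, _, _, n, hn, hn2, ⟨e⟩⟩ := h
    have : Fact p.Prime := Nodes.RGDClass.fact_prime (F := F)
    rcases hn.eq_or_lt with h2 | h2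
    · subst h2
      exact Or.inl ⟨F, _, _, ‹_›, hn2 rfl, ⟨e⟩⟩
    · obtain ⟨n, rfl⟩ : ∃ k, n = k + 1 := ⟨n - 1, by omega⟩
      exact Or.inr <| Or.inr <| Or.inr <| Or.inr <| Or.inr ⟨n, _, by omega, (typ_PSL n).of_equiv e.symm⟩
  · obtain ⟨F, _, _, _, m, hm, -, ⟨e⟩⟩ := h
    have : Fact p.Prime := Nodes.RGDClass.fact_prime (F := F)
    exact Or.inr <| Or.inr <| Or.inr <| Or.inr <| Or.inr ⟨m, _, hm, (typ_PSp (by omega)).of_equiv e.symm⟩
  · obtain ⟨F, _, _, _, n, q, hF, hn, hn2, ⟨e⟩⟩ := h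
    have : Fact p.Prime := Nodes.RGDClass.fact_prime (F := F)
    rcases hn.eq_or_lt with h2 | h2
    · subst h2
      exact Or.inr <| Or.inl ⟨F, _, _, ‹_›, q, hF, fun h => hn2 ⟨rfl, h⟩, ⟨e⟩⟩
    · obtain ⟨m, hm, h⟩ := typ_PSU (p := p) hF hn
      exact Or.inr <| Or.inr <| Or.inr <| Or.inr <| Or.inr ⟨m, _, by omega, h.of_equiv e.symm⟩
  · obtain ⟨F, _, _, _, m, hm, hodd, ⟨e⟩⟩ := h
    have : Fact p.Prime := Nodes.RGDClass.fact_prime (F := F)
    have h2 : (2 : F) ≠ 0 := by
      intro h2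
      have : CharP F 2 := CharTwo.of_one_ne_zero_of_two_eq_zero one_ne_zero h2
      obtain ⟨k, -, hk⟩ := FiniteField.card F 2
      rw [hk] at hodd
      exact absurd hodd (by
        rw [Nat.not_odd_iff_even]
        exact (even_two).pow_of_ne_zero k.ne_zero)
    exact Or.inr <| Or.inr <| Or.inr <| Or.inr <| Or.inr ⟨m, _, by omega, (typ_PO_odd h2 (by omega)).of_equiv e.symm⟩
  · obtain ⟨F, _, _, _, m, hm, ⟨e⟩⟩ := h
    have : Fact p.Prime := Nodes.RGDClass.fact_prime (F := F)
    obtain ⟨n, rfl⟩ : ∃ n, m = n + 3 := ⟨m - 3, by omega⟩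
    exact Or.inr <| Or.inr <| Or.inr <| Or.inr <| Or.inr ⟨_, _, by omega, (typ_PO_plus n).of_equiv e.symm⟩
  · obtain ⟨F, _, _, _, m, a, b, hm, hab, ⟨e⟩⟩ := h
    have : Fact p.Prime := Nodes.RGDClass.fact_prime (F := F)
    exact Or.inr <| Or.inr <| Or.inr <| Or.inr <| Or.inr ⟨_, _, by omega, (typ_PO_minus hab (by omega)).of_equiv e.symm⟩
  · rcases typ_of_exc h with h | h | h | h | h
    all_goals exact Or.inr <| Or.inr <| Or.inr <| Or.inr <| Or.inr ⟨_, _, by omega, h⟩
  · obtain ⟨K, _, _, _, q, hq, ⟨hK, ⟨e⟩⟩ | ⟨hK, ⟨e⟩⟩⟩ := h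
    · exact Or.inr <| Or.inr <| Or.inr <| Or.inr <| Or.inr ⟨_, _, by omega, (typ_twE6 hq hK p).of_equiv e.symm⟩
    · exact Or.inr <| Or.inr <| Or.inr <| Or.inr <| Or.inr ⟨_, _, by omega, (typ_twD4 hq hK p).of_equiv e.symm⟩
  · exact Or.inr <| Or.inr <| Or.inl h
  · exact Or.inr <| Or.inr <| Or.inr <| Or.inr <| Or.inl h
  · exact Or.inr <| Or.inr <| Or.inr <| Or.inl h

variable {A : Type v} {G : Type u} [Group A] [Group G] [MulDistribMulAction A G]

theorem false_of_rgd2 [Finite A] [Finite G] [IsSimpleGroup G] (hcop : (Nat.card A).Coprime (Nat.card G))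
    (hsol : Group.IsSolvable A) (hodd : Odd (Nat.card A)) (hna : ¬ Group.IsSolvable G) (hcl : Two.TwoCl A G)
    {p : ℕ} (hp : p.Prime) (hG : Rgd2 p G) : False := by
  have := Fact.mk hp
  obtain ⟨l, M, hl, C, h, T, n, X, hW, R, hX⟩ := hG
  have hgen : RGD.B M.toCoxeterSystem h T X ⊔ NN M.toCoxeterSystem R.nsys = ⊤ := by
    rw [eq_top_iff, ← hX]
    exact Nodes.RGDLib.rgd_G1_le R
  have hcen : Subgroup.center G = ⊥ := by
    rcases (inferInstance : (Subgroup.center G).Normal).eq_bot_or_eq_top with h1 | h1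
    · exact h1
    · exfalso
      apply hna
      have : IsMulCommutative G := ⟨⟨fun a b => ((Subgroup.mem_center_iff.mp (h1 ▸ Subgroup.mem_top a)) b).symm⟩⟩
      let _ : CommGroup G := { ‹Group G› with mul_comm := this.1.1 }
      infer_instance
  have hconn := KFacts.RgdLieCharP.conn_of_simple R hX hcen
  exact Lie.false_of_rgd hcop hsol hodd hna hcl R hgen hconn (by rw [Fintype.card_fin]; exact hl)

end Cfsg.Agent.H580.LieFam
end
end
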