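import Mathlib
import Cfsg.Agent.H580.LieBad_m3
import Cfsg.Agent.H996.AllSplit_m3
import Cfsg.Agent.FixBN.ReeSplit
import Cfsg.Agent.Mrg.ParSys.Fam.TwoFFour
import Cfsg.Agent.S0243
import Cfsg.Agent.S0245
import Cfsg.Agent.S0246
import Cfsg.Agent.S0280
import Cfsg.Agent.S1059
import Cfsg.Agent.S1067
import Cfsg.Agent.S1163
import Cfsg.Agent.S1162
import Cfsg.Agent.S1069
import Cfsg.Agent.S1073
import Cfsg.Agent.Prune
set_option linter.all false
prune_inst 0x7ffdffffbffd7ddfffff7e7ffff9dffe3bd7dfffffdffb4bfffefbffbfffa39e3bedfbaf1de0d8ff0ed7e69638b87853fbfffeffef6bfc7ffffd5ff45ffbee5ff7ffbf8d51d7b934dffc6ffffbf17fce7f3fffffffffffffffffffffffffffbeffffffffffff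
open scoped Cfsg.Agent.FastGrp

/-!
# The simple groups of Lie type are not bad
-/

set_option autoImplicit false
open scoped Pointwise

namespace Cfsg.Agent.H580.LieBadFam

open Cfsg CoxeterSystem Cfsg.Agent.ChevalleyStructure.CoxeterGeom Cfsg.Agent.Nodes.Reps Cfsg.Agent.Nodes.BNOf
  Cfsg.Agent.Omega.ML.Ex.Typ Cfsg.Agent.FixBN Reduce LieBad BN

universe u

variable {G : Type u} [Group G]

/-! ### arithmetic -/

/-- the 2-part -/
theorem two_part {d N a m q f : ℕ} (hq : q = 2 ^ f) (hd : Odd d) (hm : Odd m) (h : d * N = q ^ a * m) :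
    2 ^ N.factorization 2 = q ^ a := by
  have hN : N ≠ 0 := by
    rintro rfl
    rw [mul_zero] at h
    have h1 : 0 < q ^ a * m := by
      have : 0 < m := hm.pos
      have : 0 < q := by rw [hq]; positivity
      positivity
    omega
  have h1 : (d * N).factorization 2 = N.factorization 2 := by
    rw [Nat.factorization_mul hd.pos.ne' hN, Finsupp.add_apply,
      Nat.factorization_eq_zero_of_not_dvd (by rwa [← even_iff_two_dvd, Nat.not_even_iff_odd]), zero_add]
  have h2 : (q ^ a * m).factorization 2 = f * a := by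
    rw [hq, ← pow_mul, Nat.factorization_mul (by positivity) hm.pos.ne', Finsupp.add_apply,
      Nat.Prime.factorization_pow Nat.prime_two, Finsupp.single_eq_same,
      Nat.factorization_eq_zero_of_not_dvd (by rwa [← even_iff_two_dvd, Nat.not_even_iff_odd]), add_zero]
  rw [← h1, h, h2, hq, ← pow_mul]

/-- the `p`-part -/
theorem p_part {p d N a m q f : ℕ} (hp : p.Prime) (hq : q = p ^ f) (hd : ¬ p ∣ d) (hm : ¬ p ∣ m)
    (h : d * N = q ^ a * m) : p ^ N.factorization p = q ^ a := by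
  have hd0 : d ≠ 0 := fun h => hd (h ▸ dvd_zero p)
  have hm0 : m ≠ 0 := fun h => hm (h ▸ dvd_zero p)
  have hp0 := hp.pos
  have hN : N ≠ 0 := by
    rintro rfl
    rw [mul_zero] at h
    have h1 : 0 < q ^ a * m := by
      have : 0 < m := Nat.pos_of_ne_zero hm0
      have : 0 < q := by rw [hq]; positivity
      positivity
    omega
  have h1 : (d * N).factorization p = N.factorization p := by
    rw [Nat.factorization_mul hd0 hN, Finsupp.add_apply, Nat.factorization_eq_zero_of_not_dvd hd, zero_add]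
  have h2 : (q ^ a * m).factorization p = f * a := by
    rw [hq, ← pow_mul, Nat.factorization_mul (by positivity) hm0, Finsupp.add_apply,
      Nat.Prime.factorization_pow hp, Finsupp.single_eq_same,
      Nat.factorization_eq_zero_of_not_dvd hm, add_zero]
  rw [← h1, h, h2, hq, ← pow_mul]

theorem card_sylow_two [Finite G] {p : ℕ} [Fact p.Prime] {P : Cfsg.BNPair G} {U : Subgroup G} (h : Split P p U) :
    Nat.card U = p ^ (Nat.card G).factorization p := by
  obtain ⟨Q, hQ⟩ := exists_sylow_of_split h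
  rw [← hQ]
  exact Q.card_eq_multiplicity

/-- the bound -/
def Small (N : ℕ) : Prop := N < 3 * (2 ^ N.factorization 2) ^ 2

theorem small_contra {d N a m q f : ℕ} (hN : Small N) (hq : q = 2 ^ f) (hd : Odd d) (hm : Odd m)
    (h : d * N = q ^ a * m) : m < d * (3 * q ^ a) := by
  unfold Small at hN
  rw [two_part hq hd hm h] at hN
  have hq0 : 0 < q ^ a := by rw [hq]; positivity
  have h1 : d * N < d * (3 * (q ^ a) ^ 2) := Nat.mul_lt_mul_of_pos_left hN hd.pos
  rw [h] at h1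
  have h2 : q ^ a * m < q ^ a * (d * (3 * q ^ a)) := by
    calc q ^ a * m < d * (3 * (q ^ a) ^ 2) := h1
      _ = q ^ a * (d * (3 * q ^ a)) := by ring
  exact Nat.lt_of_mul_lt_mul_left h2

/-! ### root group data -/

theorem isSimple_center [IsSimpleGroup G] (hna : ¬ Group.IsSolvable G) : Subgroup.center G = ⊥ := by
  rcases (inferInstance : (Subgroup.center G).Normal).eq_bot_or_eq_top with h1 | h1
  · exact h1
  · exfalso
    apply hna
    have : IsMulCommutative G := ⟨⟨fun a b => ((Subgroup.mem_center_iff.mp (h1 ▸ Subgroup.mem_top a)) b).symm⟩⟩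
    let _ : CommGroup G := { ‹Group G› with mul_comm := this.1.1 }
    infer_instance

/-- rank one -/
theorem rgd_one [Finite G] [IsSimpleGroup G] (hbad : Bad G)
    {p : ℕ} (hp : p.Prime) {l : ℕ} {M : CoxeterMatrix (Fin l)} (hl : l = 1) (hG : HasRGDT p M G) :
    (p = 2 ∧ Small (Nat.card G)) ∨ (p ≠ 2 ∧ ∃ b, 1 + p ^ (Nat.card G).factorization p = 2 ^ b ∧
      ∀ r : ℕ, r.Prime → r ≠ 2 → r ∣ Nat.card G → 2 ^ b ≡ 1 [MOD r]) := by
  have := Fact.mk hp
  subst hl
  obtain ⟨C, h, T, n, X, hW, R, hX⟩ := hG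
  have hgen : RGD.B M.toCoxeterSystem h T X ⊔ NN M.toCoxeterSystem R.nsys = ⊤ := by
    rw [eq_top_iff, ← hX]
    exact Nodes.RGDLib.rgd_G1_le R
  have hne : (R.bnPair hgen).S.Nonempty := ⟨n 0, 0, rfl⟩
  have hsplit := SplitRGD.split_of_rgd hp R hgen (Cfsg.Agent.Tits.OfBN.normalCore_eq_bot (R.bnPair hgen) hne)
  have hS : (R.bnPair hgen).S = {n 0} := by
    change Set.range n = _
    ext x
    constructor
    · rintro ⟨k, rfl⟩
      rw [Subsingleton.elim k 0]
      rfl
    · rintro h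
      exact ⟨0, h.symm⟩
  by_cases h2 : p = 2
  · subst h2
    left
    refine ⟨rfl, ?_⟩
    have h1 := card_lt_of_one hsplit hbad hS
    rwa [card_sylow_two hsplit] at h1
  · right
    refine ⟨h2, ?_⟩
    have h1 := rank_one_odd hsplit hbad h2 hS
    rwa [card_sylow_two hsplit] at h1

/-- rank at least two -/
theorem rgd_two [Finite G] [IsSimpleGroup G] (hna : ¬ Group.IsSolvable G) (hbad : Bad G)
    {p : ℕ} (hp : p.Prime) {l : ℕ} {M : CoxeterMatrix (Fin l)} (hl : 2 ≤ l) (hG : HasRGDT p M G) :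
    l = 2 ∧ p = 2 ∧ Small (Nat.card G) := by
  have := Fact.mk hp
  obtain ⟨C, h, T, n, X, hW, R, hX⟩ := hG
  have hgen : RGD.B M.toCoxeterSystem h T X ⊔ NN M.toCoxeterSystem R.nsys = ⊤ := by
    rw [eq_top_iff, ← hX]
    exact Nodes.RGDLib.rgd_G1_le R
  have hconn := KFacts.RgdLieCharP.conn_of_simple R hX (isSimple_center hna)
  rcases Nat.lt_or_ge 2 l with h3 | h3
  · exact (rank_ge_three hbad R hgen hconn (by rw [Fintype.card_fin]; exact h3)).elim
  · obtain rfl : l = 2 := by omega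
    have hne : (R.bnPair hgen).S.Nonempty := ⟨n 0, 0, rfl⟩
    have hsplit := SplitRGD.split_of_rgd hp R hgen (Cfsg.Agent.Tits.OfBN.normalCore_eq_bot (R.bnPair hgen) hne)
    have hS : (R.bnPair hgen).S = {n 0, n 1} := by
      change Set.range n = _
      ext x
      constructor
      · rintro ⟨k, rfl⟩
        fin_cases k
        · exact Or.inl rfl
        · exact Or.inr rfl
      · rintro (h | h)
        · exact ⟨0, h.symm⟩
        · exact ⟨1, h.symm⟩
    have hst : n 0 ≠ n 1 := fun h => absurd (R.n_injective h) (by decide)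
    by_cases h2 : p = 2
    · subst h2
      refine ⟨rfl, rfl, ?_⟩
      have h1 := card_lt_of_two hsplit hbad hS hst
      rwa [card_sylow_two hsplit] at h1
    · exfalso
      refine rank_two_odd hsplit hbad h2 hS hst ?_
      refine (Lie.adj_iff R (by decide)).mp ⟨by decide, ?_⟩
      obtain ⟨a, ha, b, hb, hab⟩ := hconn {0} (Set.singleton_nonempty 0) (by
        intro h
        have : (1 : Fin 2) ∈ ({0} : Set (Fin 2)) := h ▸ Set.mem_univ 1
        exact absurd (Set.mem_singleton_iff.mp this) (by decide))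
      rw [Set.mem_singleton_iff] at ha
      have hb1 : b = 1 := by
        have : b ≠ 0 := hb
        omega
      rwa [ha, hb1] at hab

/-! ### the families -/

/-- the index of a bad group -/
theorem exists_idx [Finite G] (hbad : Bad G) : ∃ b, b ≠ 0 ∧ 2 ^ b ∣ Nat.card G ∧
    ∀ r : ℕ, r.Prime → r ≠ 2 → r ∣ Nat.card G → 2 ^ b ≡ 1 [MOD r] := by
  obtain ⟨H, hHt, ⟨b, hb⟩, hH⟩ := hbad.idx
  refine ⟨b, ?_, hb ▸ Subgroup.index_dvd_card H, ?_⟩
  · rintro rfl
    rw [pow_zero, Subgroup.index_eq_one] at hb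
    exact hHt hb
  · intro r hr hr2 hrG
    have := Fact.mk hr
    obtain ⟨R⟩ : Nonempty (Sylow r G) := inferInstance
    obtain ⟨g, hg⟩ := hH r hr hr2 hrG R
    rw [← hb]
    exact Two.index_modEq_one (g • R) H hg

theorem card_ne_168 [Finite G] (hbad : Bad G) : Nat.card G ≠ 168 := by
  intro h
  obtain ⟨b, hb0, hb, hr⟩ := exists_idx hbad
  rw [h] at hb hr
  have h3 := hr 3 Nat.prime_three (by norm_num) (by norm_num)
  have h7 := hr 7 (by norm_num) (by norm_num) (by norm_num)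
  have hb4 : b < 4 := by
    by_contra hcon
    have h1 : 2 ^ 4 ∣ 168 := (pow_dvd_pow 2 (by omega)).trans hb
    norm_num at h1
  unfold Nat.ModEq at h3 h7
  interval_cases b <;> omega

theorem exists_pow {F : Type} [Field F] [Fintype F] (p : ℕ) [CharP F p] :
    p.Prime ∧ ∃ f, f ≠ 0 ∧ Fintype.card F = p ^ f := by
  obtain ⟨n, hp, hn⟩ := FiniteField.card F p
  exact ⟨hp, n, n.ne_zero, hn⟩

theorem odd_pow_sub {q k : ℕ} (hq : Even q) (hq0 : q ≠ 0) (hk : k ≠ 0) : Odd (q ^ k - 1) := by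
  have h1 : Even (q ^ k) := hq.pow_of_ne_zero hk
  have h2 : 0 < q ^ k := by positivity
  exact Nat.Even.sub_odd h2 h1 odd_one

theorem false_psl_two' [Finite G] [IsSimpleGroup G] (hbad : Bad G) {p : ℕ}
    {F : Type} [Field F] [Fintype F] [CharP F p] (hF : 4 ≤ Fintype.card F)
    (e : G ≃* Matrix.ProjectiveSpecialLinearGroup (Fin 2) F) : False := by
  obtain ⟨hp, f, hf0, hf⟩ := exists_pow (F := F) p
  have := Fact.mk hp
  have hcard := S0243.result (F := F) rfl 2 le_rfl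
  rw [← Nat.card_congr e.toEquiv, Fin.prod_univ_two] at hcard
  simp only [Fin.val_zero, Fin.val_one, pow_zero, pow_one] at hcard
  obtain ⟨a, ha⟩ : ∃ a, Fintype.card F = a + 1 := ⟨Fintype.card F - 1, by omega⟩
  have e1 : Fintype.card F ^ 2 - 1 = a * (a + 2) := by
    rw [ha, show (a + 1) ^ 2 = a * (a + 2) + 1 by ring, Nat.add_sub_cancel]
  have e2 : Fintype.card F ^ 2 - Fintype.card F = Fintype.card F * a := by
    rw [ha, show (a + 1) ^ 2 = (a + 1) * a + (a + 1) by ring, Nat.add_sub_cancel]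
  have e3 : Fintype.card F - 1 = a := by omega
  rcases rgd_one hbad hp rfl ((typ_PSL 1).of_equiv e.symm) with ⟨rfl, hs⟩ | ⟨hp2, b, hb, hr⟩
  · have hqe : Even (Fintype.card F) := by
      rw [hf]; exact even_two.pow_of_ne_zero hf0
    have hao : Odd a := by
      rw [ha] at hqe
      rwa [Nat.even_add_one, Nat.not_even_iff_odd] at hqe
    have hg : Nat.gcd 2 (Fintype.card F - 1) = 1 := by
      rw [e3]
      exact Nat.coprime_two_left.mpr hao
    rw [hg, one_mul, e1, e2, e3] at hcard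
    have h1 := small_contra (d := a) (m := a * (a * (a + 2))) (a := 1) (q := Fintype.card F) hs hf hao
      (hao.mul (hao.mul (by
        rcases hao with ⟨k, rfl⟩
        exact ⟨k + 1, by ring⟩))) (by rw [hcard]; ring)
    rw [pow_one, ha] at h1
    have h2 : a * (a + 2) < 3 * (a + 1) := Nat.lt_of_mul_lt_mul_left h1
    nlinarith only [hF, ha, h2]
  · have hpa : ¬ p ∣ a := by
      intro h
      have h1 : p ∣ Fintype.card F := hf ▸ dvd_pow_self p hf0
      rw [ha] at h1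
      have h2 : p ∣ 1 := (Nat.dvd_add_right h).mp h1
      exact hp.one_lt.ne' (Nat.dvd_one.mp h2)
    have hp2' : ¬ p ∣ 2 := fun h => hp2 ((Nat.prime_dvd_prime_iff_eq hp Nat.prime_two).mp h)
    have hpa2 : ¬ p ∣ a + 2 := by
      intro h
      have h1 : p ∣ Fintype.card F := hf ▸ dvd_pow_self p hf0
      rw [ha] at h1
      have h2 : p ∣ 1 := by
        have h3 : p ∣ (a + 1) + 1 := h
        exact (Nat.dvd_add_right h1).mp h3
      exact hp.one_lt.ne' (Nat.dvd_one.mp h2)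
    have hpo : Odd p := hp.odd_of_ne_two hp2
    have hqo : Odd (Fintype.card F) := by rw [hf]; exact hpo.pow
    have hae : Even a := by
      rw [ha] at hqo
      rwa [Nat.odd_add_one, Nat.not_odd_iff_even] at hqo
    have hg : Nat.gcd 2 (Fintype.card F - 1) = 2 := by
      rw [e3]
      exact Nat.gcd_eq_left (even_iff_two_dvd.mp hae)
    rw [hg, e1, e2, e3] at hcard
    have ha0 : 0 < a := by omega
    have hcard' : 2 * Nat.card G = Fintype.card F ^ 1 * (a * (a + 2)) := by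
      have h1 : a * (2 * Nat.card G) = a * (Fintype.card F ^ 1 * (a * (a + 2))) := by
        rw [pow_one]
        calc a * (2 * Nat.card G) = 2 * (a * Nat.card G) := by ring
          _ = a * (a + 2) * (Fintype.card F * a) := hcard
          _ = _ := by ring
      exact Nat.eq_of_mul_eq_mul_left ha0 h1
    have h1 := p_part hp hf hp2' (fun h => (hp.dvd_mul.mp h).elim hpa hpa2) hcard'
    rw [h1, pow_one] at hb
    -- `q = p`, a Mersenne prime
    have h2 : f = 1 := FixBN.Gates.eq_one_of_pow hpo hp.one_lt hf0 (by rw [← hf, add_comm]; exact hb)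
    have hb3 : 3 ≤ b := by
      by_contra hcon
      have h3 : 2 ^ b ≤ 2 ^ 2 := Nat.pow_le_pow_right (by norm_num) (by omega)
      omega
    obtain ⟨c, rfl⟩ : ∃ c, b = c + 3 := ⟨b - 3, by omega⟩
    have h3 : 2 ^ (c + 3) = 2 * (2 * 2 ^ (c + 1)) := by ring
    obtain ⟨k, hk⟩ : ∃ k, 2 * 2 ^ (c + 1) = k + 1 := ⟨2 * 2 ^ (c + 1) - 1, by
      have : 0 < 2 ^ (c + 1) := by positivity
      (clear * - hb h3; omega)⟩
    have hpow : 1 ≤ 2 ^ c := Nat.one_le_two_pow
    have h4 : 2 ^ (c + 1) = 2 * 2 ^ c := by ring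
    have hko : Odd k := ⟨2 ^ (c + 1) - 1, by (clear * - hk; omega)⟩
    obtain ⟨r, hrp, hr2, hrk⟩ := RankTwo.exists_odd_prime_of_odd hko (by omega)
    have hka : a = 2 * k := by omega
    have hrG : r ∣ Nat.card G := by
      have h5 : r ∣ 2 * Nat.card G := by
        rw [hcard']
        exact Dvd.dvd.mul_left (Dvd.dvd.mul_right (hka ▸ Dvd.dvd.mul_left hrk 2) _) _
      rcases hrp.dvd_mul.mp h5 with h6 | h6
      · exact absurd ((Nat.prime_dvd_prime_iff_eq hrp Nat.prime_two).mp h6) hr2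
      · exact h6
    have h5 := hr r hrp hr2 hrG
    have h6 : 2 ^ (c + 3) = 2 * k + 2 := by omega
    rw [h6] at h5
    have h7 : 2 * k + 2 ≡ 0 + 2 [MOD r] := by
      apply Nat.ModEq.add_right
      exact (Nat.modEq_zero_iff_dvd).mpr (Dvd.dvd.mul_left hrk 2)
    have h8 : 2 ≡ 1 [MOD r] := (h7.symm.trans h5)
    have h9 : r ∣ 2 - 1 := (Nat.modEq_iff_dvd' (by norm_num)).mp h8.symm
    exact hrp.one_lt.ne' (Nat.dvd_one.mp h9)

theorem false_psl [Finite G] [IsSimpleGroup G] (hna : ¬ Group.IsSolvable G) (hbad : Bad G) {p : ℕ}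
    {F : Type} [Field F] [Fintype F] [CharP F p] {n : ℕ} (hn : 2 ≤ n) (hF : n = 2 → 4 ≤ Fintype.card F)
    (e : G ≃* Matrix.ProjectiveSpecialLinearGroup (Fin n) F) : False := by
  obtain ⟨hp, f, hf0, hf⟩ := exists_pow (F := F) p
  have := Fact.mk hp
  rcases hn.eq_or_lt with rfl | h3
  · exact false_psl_two' hbad (hF rfl) e
  obtain ⟨n, rfl⟩ : ∃ k, n = k + 1 := ⟨n - 1, by omega⟩
  obtain ⟨hn2, rfl, hs⟩ := rgd_two hna hbad hp (l := n) (by omega) ((typ_PSL n).of_equiv e.symm)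
  subst hn2
  have hcard := S0243.result (F := F) rfl 3 (by norm_num)
  rw [← Nat.card_congr e.toEquiv, Fin.prod_univ_three] at hcard
  simp only [Fin.val_zero, Fin.val_one, Fin.val_two, pow_zero, pow_one] at hcard
  have hq2 : 2 ≤ Fintype.card F := Fintype.one_lt_card
  have hqe : Even (Fintype.card F) := by
    rw [hf]; exact even_two.pow_of_ne_zero hf0
  obtain ⟨a, ha⟩ : ∃ a, Fintype.card F = a + 1 := ⟨Fintype.card F - 1, by omega⟩
  have hao : Odd a := by
    rw [ha] at hqe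
    rwa [Nat.even_add_one, Nat.not_even_iff_odd] at hqe
  have e1 : Fintype.card F ^ 3 - 1 = a * (a ^ 2 + 3 * a + 3) := by
    rw [ha, show (a + 1) ^ 3 = a * (a ^ 2 + 3 * a + 3) + 1 by ring, Nat.add_sub_cancel]
  have e2 : Fintype.card F ^ 3 - Fintype.card F = Fintype.card F * (a * (a + 2)) := by
    rw [ha, show (a + 1) ^ 3 = (a + 1) * (a * (a + 2)) + (a + 1) by ring, Nat.add_sub_cancel]
  have e4 : Fintype.card F ^ 3 - Fintype.card F ^ 2 = Fintype.card F ^ 2 * a := by
    rw [ha, show (a + 1) ^ 3 = (a + 1) ^ 2 * a + (a + 1) ^ 2 by ring, Nat.add_sub_cancel]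
  have e3 : Fintype.card F - 1 = a := by omega
  rw [e1, e2, e3, e4] at hcard
  have hd3 : Nat.gcd 3 a ≤ 3 := Nat.gcd_le_left _ (by norm_num)
  have hdo : Odd (Nat.gcd 3 a) := Odd.of_dvd_nat hao (Nat.gcd_dvd_right _ _)
  have ho1 : Odd (a ^ 2 + 3 * a + 3) := by
    rcases hao with ⟨k, rfl⟩
    exact ⟨2 * k ^ 2 + 5 * k + 3, by ring⟩
  have ho2 : Odd (a + 2) := by
    rcases hao with ⟨k, rfl⟩
    exact ⟨k + 1, by ring⟩
  have h1 := small_contra (d := Nat.gcd 3 a * a) (m := a * (a * (a ^ 2 + 3 * a + 3) * (a * (a + 2)))) (a := 3)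
    (q := Fintype.card F) hs hf (hdo.mul hao) (hao.mul ((hao.mul ho1).mul (hao.mul ho2)))
    (by rw [mul_assoc, hcard]; ring)
  by_cases ha1 : a = 1
  · subst ha1
    rw [ha] at hcard
    apply card_ne_168 hbad
    have : Nat.gcd 3 1 = 1 := by decide
    rw [this] at hcard
    norm_num at hcard
    exact hcard
  · have ha3 : 3 ≤ a := by
      rcases hao with ⟨k, rfl⟩
      omega
    have h2 : (a * (a ^ 2 + 3 * a + 3) * (a * (a + 2))) < Nat.gcd 3 a * (3 * Fintype.card F ^ 3) := by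
      apply Nat.lt_of_mul_lt_mul_left (a := a)
      calc a * (a * (a ^ 2 + 3 * a + 3) * (a * (a + 2))) < Nat.gcd 3 a * a * (3 * Fintype.card F ^ 3) := h1
        _ = a * (Nat.gcd 3 a * (3 * Fintype.card F ^ 3)) := by ring
    have h3 : Nat.gcd 3 a * (3 * Fintype.card F ^ 3) ≤ 9 * (a + 1) ^ 3 := by
      rw [ha]
      calc Nat.gcd 3 a * (3 * (a + 1) ^ 3) ≤ 3 * (3 * (a + 1) ^ 3) := Nat.mul_le_mul_right _ hd3
        _ = 9 * (a + 1) ^ 3 := by ring
    have h4 := h2.trans_le h3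
    obtain ⟨c, rfl⟩ : ∃ c, a = c + 3 := ⟨a - 3, by omega⟩
    have h5 : (c + 3) * ((c + 3) ^ 2 + 3 * (c + 3) + 3) * ((c + 3) * ((c + 3) + 2)) =
        9 * ((c + 3) + 1) ^ 3 + (c ^ 5 + 20 * c ^ 4 + 150 * c ^ 3 + 519 * c ^ 2 + 792 * c + 369) := by ring
    rw [h5] at h4
    exact absurd h4 (not_lt_of_ge (Nat.le_add_right _ _))

/-- a lower bound for products -/
theorem pow_sub_one_mul_le {q k : ℕ} (hq : 4 ≤ q) (hk : 2 ≤ k) : 15 * q ^ k ≤ 16 * (q ^ k - 1) := by
  have h1 : 4 ^ 2 ≤ q ^ k := (Nat.pow_le_pow_left hq 2).trans (Nat.pow_le_pow_right (by omega) hk)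
  omega

theorem ge_four {F : Type} [Field F] [Fintype F] {q f : ℕ} (hf : q = 2 ^ f) (h2 : q ≠ 2) (h1 : 1 < q) : 4 ≤ q := by
  have : 2 ≤ f := by
    by_contra hcon
    have : f = 0 ∨ f = 1 := by omega
    rcases this with rfl | rfl <;> omega
  rw [hf]
  exact Nat.pow_le_pow_right (n := 2) (by norm_num) this

theorem false_psp [Finite G] [IsSimpleGroup G] (hna : ¬ Group.IsSolvable G) (hbad : Bad G) {p : ℕ}
    {F : Type} [Field F] [Fintype F] [CharP F p] {m : ℕ} (hm : 2 ≤ m) (hF : m = 2 → 3 ≤ Fintype.card F)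
    (e : G ≃* PSp m F) : False := by
  obtain ⟨hp, f, hf0, hf⟩ := exists_pow (F := F) p
  have := Fact.mk hp
  obtain ⟨rfl, rfl, hs⟩ := rgd_two hna hbad hp hm ((typ_PSp (by omega)).of_equiv e.symm)
  have hq2 : 2 ≤ Fintype.card F := Fintype.one_lt_card
  have hqe : Even (Fintype.card F) := by
    rw [hf]; exact even_two.pow_of_ne_zero hf0
  have h1 := S0245.result (F := F) rfl 2
  have h2 := S0246.result (F := F) rfl 2 (by omega)
  have h3 := Subgroup.card_eq_card_quotient_mul_card_subgroup (Subgroup.center (Matrix.symplecticGroup (Fin 2) F))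
  have hg : Nat.gcd 2 (Fintype.card F - 1) = 1 := by
    have h4 : Odd (Fintype.card F ^ 1 - 1) := odd_pow_sub hqe (by omega) one_ne_zero
    rw [pow_one] at h4
    exact Nat.coprime_two_left.mpr h4
  rw [h2, hg, mul_one] at h3
  have h4 : Nat.card G = Fintype.card F ^ 4 * ((Fintype.card F ^ 2 - 1) * (Fintype.card F ^ 4 - 1)) := by
    rw [Nat.card_congr e.toEquiv]
    change Nat.card (Matrix.symplecticGroup (Fin 2) F ⧸ Subgroup.center (Matrix.symplecticGroup (Fin 2) F)) = _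
    rw [← h3, h1]
    simp only [Finset.prod_range_succ, _root_.Nat.reducePow, _root_.Finset.range_one, _root_.Finset.prod_singleton, _root_.zero_add, _root_.mul_one, _root_.Nat.reduceAdd, _root_.Nat.reduceMul]
  have h5 := small_contra (d := 1) (m := (Fintype.card F ^ 2 - 1) * (Fintype.card F ^ 4 - 1)) (a := 4)
    (q := Fintype.card F) hs hf odd_one ((odd_pow_sub hqe (by omega) (by omega)).mul
      (odd_pow_sub hqe (by omega) (by omega))) (by rw [one_mul, h4])
  have hq4 : 4 ≤ Fintype.card F := ge_four (F := F) hf (by have := hF rfl; omega) (by omega)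
  generalize Fintype.card F = q at *
  have i1 := pow_sub_one_mul_le hq4 (le_refl 2)
  have i2 := pow_sub_one_mul_le hq4 (show 2 ≤ 4 by norm_num)
  have i3 := Nat.mul_le_mul i1 i2
  have i4 : 16 * q ^ 4 ≤ q ^ 2 * q ^ 4 := Nat.mul_le_mul_right _ (by nlinarith only [hq4])
  nlinarith only [h5, i3, i4]

theorem not_dvd_add_one {p q k : ℕ} (hp : p.Prime) (hpq : p ∣ q) (hk : k ≠ 0) : ¬ p ∣ q ^ k + 1 := by
  intro h
  have h2 : p ∣ 1 := (Nat.dvd_add_right (hpq.trans (dvd_pow_self q hk))).mp h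
  exact hp.one_lt.ne' (Nat.dvd_one.mp h2)

theorem not_dvd_sub_one {p q k : ℕ} (hp : p.Prime) (hpq : p ∣ q) (hq : q ≠ 0) (hk : k ≠ 0) : ¬ p ∣ q ^ k - 1 := by
  intro h
  have h1 : 0 < q ^ k := by positivity
  have h2 : p ∣ 1 := by
    have h3 := Nat.dvd_sub (hpq.trans (dvd_pow_self q hk)) h
    rwa [Nat.sub_sub_self h1] at h3
  exact hp.one_lt.ne' (Nat.dvd_one.mp h2)

theorem false_psu [Finite G] [IsSimpleGroup G] (hna : ¬ Group.IsSolvable G) (hbad : Bad G) {p : ℕ}
    {F : Type} [Field F] [Fintype F] [CharP F p] {n q : ℕ} (hF : Fintype.card F = q ^ 2) (hn : 3 ≤ n)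
    (hn2 : ¬ (n = 3 ∧ q = 2)) (e : G ≃* PSU n F q) : False := by
  obtain ⟨hp, f, hf0, hf⟩ := exists_pow (F := F) p
  have := Fact.mk hp
  obtain ⟨f', hf', hqp⟩ : ∃ f', f' ≠ 0 ∧ q = p ^ f' := by
    have h1 : q ∣ p ^ f := by rw [← hf, hF]; exact dvd_pow_self q (by norm_num)
    obtain ⟨f', -, hf'⟩ := (Nat.dvd_prime_pow hp).mp h1
    refine ⟨f', ?_, hf'⟩
    rintro rfl
    rw [hf', pow_zero, one_pow] at hF
    have := Fintype.one_lt_card (α := F)
    omega
  have hq2 : 2 ≤ q := by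
    rw [hqp]
    exact hp.two_le.trans (Nat.le_self_pow hf' p)
  have hpq : p ∣ q := hqp ▸ dvd_pow_self p hf'
  have hcard := S0280.result hF n (by omega)
  rw [← Nat.card_congr e.toEquiv] at hcard
  obtain ⟨m, hm, hG⟩ := typ_PSU (p := p) hF hn
  have hp1 : ¬ p ∣ q + 1 := by
    have := not_dvd_add_one hp hpq one_ne_zero
    rwa [pow_one] at this
  rcases Nat.lt_or_ge m 2 with hm2 | hm2
  · -- rank one
    obtain rfl : n = 3 := by omega
    obtain rfl : m = 1 := by omega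
    have hd : Nat.gcd 3 (q + 1) ≤ 3 := Nat.gcd_le_left _ (by norm_num)
    have hcard3 : Nat.gcd 3 (q + 1) * (q + 1) * Nat.card G = q ^ 3 * ((q + 1) * ((q ^ 2 - 1) * (q ^ 3 + 1))) := by
      rw [mul_assoc, hcard]
      simp only [Finset.prod_range_succ, show ¬ Even 1 by decide, show Even 2 by decide, mul_assoc, _root_.Nat.add_one_sub_one, _root_.Nat.reduceMul, _root_.Nat.reduceDiv, _root_.Finset.range_one, _root_.Finset.prod_singleton, _root_.Even.zero, ↓ _root_.reduceIte, _root_.zero_add, _root_.pow_one, _root_.Nat.reduceAdd]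
    rcases rgd_one hbad hp rfl (hG.of_equiv e.symm) with ⟨rfl, hs⟩ | ⟨hp2, b, hb, -⟩
    · have hqe : Even q := by
        rw [hqp]; exact even_two.pow_of_ne_zero hf'
      have hq1 : Odd (q + 1) := hqe.add_one
      have hdo : Odd (Nat.gcd 3 (q + 1)) := Odd.of_dvd_nat (by decide : Odd 3) (Nat.gcd_dvd_left _ _)
      have hq4 : 4 ≤ q := ge_four (F := F) hqp (fun h => hn2 ⟨rfl, h⟩) (by omega)
      have h1 := small_contra hs hqp (hdo.mul hq1) (hq1.mul ((odd_pow_sub hqe (by omega) (by omega)).mul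
        (hqe.pow_of_ne_zero (show 3 ≠ 0 by norm_num)).add_one)) hcard3
      have h2 : (q ^ 2 - 1) * (q ^ 3 + 1) < Nat.gcd 3 (q + 1) * (3 * q ^ 3) := by
        apply Nat.lt_of_mul_lt_mul_left (a := q + 1)
        calc (q + 1) * ((q ^ 2 - 1) * (q ^ 3 + 1)) < Nat.gcd 3 (q + 1) * (q + 1) * (3 * q ^ 3) := h1
          _ = (q + 1) * (Nat.gcd 3 (q + 1) * (3 * q ^ 3)) := by ring
      have h3 : Nat.gcd 3 (q + 1) * (3 * q ^ 3) ≤ 3 * (3 * q ^ 3) := Nat.mul_le_mul_right _ hd
      have h4 : 15 ≤ q ^ 2 - 1 := by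
        have : 4 ^ 2 ≤ q ^ 2 := Nat.pow_le_pow_left hq4 2
        omega
      have h5 : 15 * (q ^ 3 + 1) ≤ (q ^ 2 - 1) * (q ^ 3 + 1) := Nat.mul_le_mul_right _ h4
      omega
    · have hpo : Odd p := hp.odd_of_ne_two hp2
      have h1 := p_part hp hqp (a := 3) (fun h => (hp.dvd_mul.mp h).elim
        (fun h => hp1 (h.trans (Nat.gcd_dvd_right _ _))) hp1) (fun h => (hp.dvd_mul.mp h).elim hp1
          (fun h => (hp.dvd_mul.mp h).elim (not_dvd_sub_one hp hpq (by omega) (by norm_num))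
            (not_dvd_add_one hp hpq (by norm_num)))) hcard3
      rw [h1, hqp, ← pow_mul, add_comm] at hb
      have h2 := FixBN.Gates.eq_one_of_pow hpo hp.one_lt (by omega) hb
      omega
  · obtain ⟨rfl, rfl, hs⟩ := rgd_two hna hbad hp hm2 (hG.of_equiv e.symm)
    have hqe : Even q := by
      rw [hqp]; exact even_two.pow_of_ne_zero hf'
    have hq1 : Odd (q + 1) := hqe.add_one
    have hdo : Odd (Nat.gcd n (q + 1)) := Odd.of_dvd_nat hq1 (Nat.gcd_dvd_right _ _)
    have o2 : Odd (q ^ 2 - 1) := odd_pow_sub hqe (by omega) (by omega)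
    have o4 : Odd (q ^ 4 - 1) := odd_pow_sub hqe (by omega) (by omega)
    have o3 : Odd (q ^ 3 + 1) := (hqe.pow_of_ne_zero (show 3 ≠ 0 by norm_num)).add_one
    have o5 : Odd (q ^ 5 + 1) := (hqe.pow_of_ne_zero (show 5 ≠ 0 by norm_num)).add_one
    rcases hm with rfl | rfl
    · have hcard4 : Nat.gcd 4 (q + 1) * (q + 1) * Nat.card G =
          q ^ 6 * ((q + 1) * ((q ^ 2 - 1) * (q ^ 3 + 1) * (q ^ 4 - 1))) := by
        rw [mul_assoc, hcard]
        simp only [Finset.prod_range_succ, show ¬ Even 1 by decide, show Even 2 by decide, show ¬ Even 3 by decide, mul_assoc, _root_.Nat.reduceMul, _root_.Nat.add_one_sub_one, _root_.Nat.reduceDiv, _root_.Finset.range_one, _root_.Finset.prod_singleton, _root_.Even.zero, ↓ _root_.reduceIte, _root_.zero_add, _root_.pow_one, _root_.Nat.reduceAdd]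
      have hg : Nat.gcd 4 (q + 1) = 1 := by
        change Nat.Coprime 4 (q + 1)
        exact Nat.Coprime.pow_left 2 (Nat.coprime_two_left.mpr hq1)
      have h1 := small_contra hs hqp (hdo.mul hq1) (hq1.mul ((o2.mul o3).mul o4)) hcard4
      change (q + 1) * ((q ^ 2 - 1) * (q ^ 3 + 1) * (q ^ 4 - 1)) < Nat.gcd 4 (q + 1) * (q + 1) * (3 * q ^ 6) at h1
      rw [hg, one_mul] at h1
      have h2 := Nat.lt_of_mul_lt_mul_left h1
      by_cases hq : q = 2
      · subst hq; norm_num at h2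
      · have hq4 : 4 ≤ q := ge_four (F := F) hqp hq (by omega)
        have i1 := pow_sub_one_mul_le hq4 (le_refl 2)
        have i2 := pow_sub_one_mul_le hq4 (show 2 ≤ 4 by norm_num)
        have i3 := Nat.mul_le_mul i1 i2
        have i4 : 64 ≤ q ^ 3 + 1 := by
          have : 4 ^ 3 ≤ q ^ 3 := Nat.pow_le_pow_left hq4 3
          omega
        have i5 := Nat.mul_le_mul i4 i3
        have i6 : 0 < q ^ 6 := by positivity
        have i7 : q ^ 6 = q ^ 2 * q ^ 4 := by ring
        linarith only [h2, i5, i6]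
    · have hcard5 : Nat.gcd 5 (q + 1) * (q + 1) * Nat.card G =
          q ^ 10 * ((q + 1) * ((q ^ 2 - 1) * (q ^ 3 + 1) * (q ^ 4 - 1) * (q ^ 5 + 1))) := by
        rw [mul_assoc, hcard]
        simp only [Finset.prod_range_succ, show ¬ Even 1 by decide, show Even 2 by decide, show ¬ Even 3 by decide,
          show Even 4 by decide, mul_assoc, _root_.Nat.reduceMul, _root_.Nat.reduceAdd, _root_.Nat.add_one_sub_one, _root_.Nat.reduceDiv, _root_.Finset.range_one, _root_.Finset.prod_singleton, _root_.Even.zero, ↓ _root_.reduceIte, _root_.zero_add, _root_.pow_one]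
      have hd : Nat.gcd 5 (q + 1) ≤ 5 := Nat.gcd_le_left _ (by norm_num)
      have h1 := small_contra hs hqp (hdo.mul hq1) (hq1.mul (((o2.mul o3).mul o4).mul o5)) hcard5
      change (q + 1) * ((q ^ 2 - 1) * (q ^ 3 + 1) * (q ^ 4 - 1) * (q ^ 5 + 1)) <
        Nat.gcd 5 (q + 1) * (q + 1) * (3 * q ^ 10) at h1
      have h2 : (q ^ 2 - 1) * (q ^ 3 + 1) * (q ^ 4 - 1) * (q ^ 5 + 1) < Nat.gcd 5 (q + 1) * (3 * q ^ 10) := by
        apply Nat.lt_of_mul_lt_mul_left (a := q + 1)
        calc (q + 1) * ((q ^ 2 - 1) * (q ^ 3 + 1) * (q ^ 4 - 1) * (q ^ 5 + 1)) <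
            Nat.gcd 5 (q + 1) * (q + 1) * (3 * q ^ 10) := h1
          _ = (q + 1) * (Nat.gcd 5 (q + 1) * (3 * q ^ 10)) := by ring
      by_cases hq : q = 2
      · subst hq; norm_num at h2
      · have hq4 : 4 ≤ q := ge_four (F := F) hqp hq (by omega)
        have h3 : Nat.gcd 5 (q + 1) * (3 * q ^ 10) ≤ 5 * (3 * q ^ 10) := Nat.mul_le_mul_right _ hd
        have i1 := pow_sub_one_mul_le hq4 (le_refl 2)
        have i2 := pow_sub_one_mul_le hq4 (show 2 ≤ 4 by norm_num)
        have i3 := Nat.mul_le_mul i1 i2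
        have i4 : q ^ 3 * q ^ 5 ≤ (q ^ 3 + 1) * (q ^ 5 + 1) := Nat.mul_le_mul (Nat.le_succ _) (Nat.le_succ _)
        have i5 := Nat.mul_le_mul i4 i3
        have i6 : 256 * q ^ 10 ≤ q ^ 14 := by
          calc 256 * q ^ 10 = 4 ^ 4 * q ^ 10 := by norm_num
            _ ≤ q ^ 4 * q ^ 10 := Nat.mul_le_mul_right _ (Nat.pow_le_pow_left hq4 4)
            _ = q ^ 14 := by ring
        have i7 : q ^ 3 * q ^ 5 * (15 * q ^ 2 * (15 * q ^ 4)) = 225 * q ^ 14 := by ring
        have i8 : 0 < q ^ 10 := by positivity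
        rw [i7] at i5
        linarith only [h2, h3, i5, i6, i8]

theorem false_g2 [Finite G] [IsSimpleGroup G] (hna : ¬ Group.IsSolvable G) (hbad : Bad G) {p : ℕ}
    {F : Type} [Field F] [Fintype F] [CharP F p] (hF : 3 ≤ Fintype.card F)
    (e : G ≃* Lie.chevG2.group F) : False := by
  obtain ⟨hp, f, hf0, hf⟩ := exists_pow (F := F) p
  have := Fact.mk hp
  obtain ⟨-, rfl, hs⟩ := rgd_two hna hbad hp (M := CoxeterMatrix.G₂) le_rfl
    ((typ_group (by simp [Nodes.RGDChev.IsType, Nodes.RGDChev.typeList]) F p).of_equiv e.symm)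
  have hqe : Even (Fintype.card F) := by
    rw [hf]; exact even_two.pow_of_ne_zero hf0
  have h4 := S1059.result (F := F) rfl
  rw [← Nat.card_congr e.toEquiv] at h4
  have h5 := small_contra (d := 1) (m := (Fintype.card F ^ 2 - 1) * (Fintype.card F ^ 6 - 1)) (a := 6)
    (q := Fintype.card F) hs hf odd_one ((odd_pow_sub hqe (by omega) (by omega)).mul
      (odd_pow_sub hqe (by omega) (by omega))) (by rw [one_mul, h4, mul_assoc])
  have hq4 : 4 ≤ Fintype.card F := ge_four (F := F) hf (by omega) (by omega)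
  generalize Fintype.card F = q at *
  have i1 := pow_sub_one_mul_le hq4 (le_refl 2)
  have i2 := pow_sub_one_mul_le hq4 (show 2 ≤ 6 by norm_num)
  have i3 := Nat.mul_le_mul i1 i2
  have i4 : 16 * q ^ 6 ≤ q ^ 2 * q ^ 6 := Nat.mul_le_mul_right _ (by nlinarith only [hq4])
  nlinarith only [h5, i3, i4]

theorem false_tD4 [Finite G] [IsSimpleGroup G] (hna : ¬ Group.IsSolvable G) (hbad : Bad G) {p : ℕ}
    {F : Type} [Field F] [Fintype F] [CharP F p] {q : ℕ} (hq : IsPrimePow q) (hF : Fintype.card F = q ^ 3)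
    (e : G ≃* Lie.twistedD4 F q) : False := by
  obtain ⟨hp, f, hf0, hf⟩ := exists_pow (F := F) p
  have := Fact.mk hp
  obtain ⟨f', hf', hqp⟩ : ∃ f', f' ≠ 0 ∧ q = p ^ f' := by
    have h1 : q ∣ p ^ f := by rw [← hf, hF]; exact dvd_pow_self q (by norm_num)
    obtain ⟨f', -, hf'⟩ := (Nat.dvd_prime_pow hp).mp h1
    refine ⟨f', ?_, hf'⟩
    rintro rfl
    rw [hf', pow_zero, one_pow] at hF
    have := Fintype.one_lt_card (α := F)
    omega
  obtain ⟨-, rfl, hs⟩ := rgd_two hna hbad hp (M := CoxeterMatrix.G₂) le_rfl ((typ_twD4 hq hF p).of_equiv e.symm)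
  have hqe : Even q := by
    rw [hqp]; exact even_two.pow_of_ne_zero hf'
  have hq0 : q ≠ 0 := hq.pos.ne'
  have hq2 : 2 ≤ q := hq.two_le
  have h4 := S1067.result hq hF
  rw [← Nat.card_congr e.toEquiv] at h4
  have o8 : Odd (q ^ 8 + q ^ 4 + 1) :=
    ((hqe.pow_of_ne_zero (show 8 ≠ 0 by norm_num)).add (hqe.pow_of_ne_zero (show 4 ≠ 0 by norm_num))).add_one
  have h5 := small_contra (d := 1) (m := (q ^ 2 - 1) * (q ^ 6 - 1) * (q ^ 8 + q ^ 4 + 1)) (a := 12)
    hs hqp odd_one (((odd_pow_sub hqe hq0 (by omega)).mul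
      (odd_pow_sub hqe hq0 (by omega))).mul o8) (by rw [one_mul, h4]; ring)
  by_cases hq2 : q = 2
  · subst hq2; norm_num at h5
  · have hq4 : 4 ≤ q := ge_four (F := F) hqp hq2 (by omega)
    have i1 := pow_sub_one_mul_le hq4 (le_refl 2)
    have i2 := pow_sub_one_mul_le hq4 (show 2 ≤ 6 by norm_num)
    have i3 := Nat.mul_le_mul i1 i2
    have i4 : q ^ 8 ≤ q ^ 8 + q ^ 4 + 1 := by omega
    have i5 := Nat.mul_le_mul i3 i4
    have i6 : 256 * q ^ 12 ≤ q ^ 16 := by
      calc 256 * q ^ 12 = 4 ^ 4 * q ^ 12 := by norm_num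
        _ ≤ q ^ 4 * q ^ 12 := Nat.mul_le_mul_right _ (Nat.pow_le_pow_left hq4 4)
        _ = q ^ 16 := by ring
    have i7 : 15 * q ^ 2 * (15 * q ^ 6) * q ^ 8 = 225 * q ^ 16 := by ring
    have i8 : 0 < q ^ 12 := by positivity
    rw [i7] at i5
    linarith only [h5, i5, i6, i8]

theorem false_2F4 [Finite G] [IsSimpleGroup G] (hbad : Bad G) (hG : Lie.Iso2F4 G) : False := by
  obtain ⟨K, _, _, m, hm, hK, ⟨e⟩⟩ := hG
  obtain ⟨Q, UE, s, t, hQ, -⟩ := Cfsg.Agent.ParSys.Fam.TwoFFour.exists_all hm hK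
  have : Fact (Nat.Prime 2) := ⟨Nat.prime_two⟩
  have h := FixBN.Transport.split e.symm Q hQ.split
  have hs : s ∈ Q.S := by rw [hQ.S]; exact Or.inl rfl
  have hs' : e.symm s ∈ (Transport.mapBN e.symm Q).S := ⟨s, hs, rfl⟩
  have h1 := nilp_B h hbad hs'
  have h2 : Group.IsNilpotent Q.B :=
    Two.nilp_congr (Q.B.equivMapOfInjective e.symm.toMonoidHom e.symm.injective) h1
  have : Finite ↥(Lie.twistedF4 K (2 ^ m)) := Finite.of_equiv G e.toEquiv
  have h3 := torus_trivial hQ.split h2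
  obtain ⟨x, hx, hxu⟩ := hQ.fpfs
  have hx1 := h3 x hx.1 hx.2
  subst hx1
  obtain ⟨V, hV⟩ := hQ.split.node s hs
  obtain ⟨u, hu, huV⟩ := hV.ne
  apply huV
  apply hV.stab u hu
  apply hxu u hu
  simp only [_root_.one_mul, _root_.inv_one, _root_.mul_one, _root_.mul_inv_cancel, _root_.inv_mul_cancel, _root_.OneMemClass.one_mem]

theorem false_sz [Finite G] [IsSimpleGroup G] (hbad : Bad G) (h : Lie.IsoSuzuki G) : False := by
  obtain ⟨K, i1, i2, m, hm, hK, ⟨e⟩⟩ := h
  have H := LieRecognition.SzMatrix.good hK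
  have hs : IsSimpleGroup ↥(Cfsg.Lie.Sz K (2 ^ (m + 1))) := Cfsg.Agent.S1162.result hm hK
  have h1 := Omega.ML.LieRow.SzSplit.split hm hK H hs
  have hsplit := Transport.split e.symm _ h1
  have : Fact (Nat.Prime 2) := ⟨Nat.prime_two⟩
  have hcardU : Nat.card H.unip = (2 ^ (2 * m + 1)) ^ 2 := by
    rw [H.card_unip, Nat.card_eq_fintype_card, hK]
  have h2 := card_lt_of_one hsplit hbad (s := e.symm H.w) (by
    change e.symm '' {H.w} = _
    rw [Set.image_singleton])
  rw [Subgroup.card_map_of_injective e.symm.injective, hcardU, Nat.card_congr e.toEquiv,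
    (Cfsg.Agent.S1163.result hm hK).1] at h2
  have h8 : 8 ≤ 2 ^ (2 * m + 1) :=
    calc 8 = 2 ^ 3 := rfl
      _ ≤ 2 ^ (2 * m + 1) := Nat.pow_le_pow_right (by norm_num) (by omega)
  generalize 2 ^ (2 * m + 1) = q at h2 h8
  have h3 : 7 ≤ q - 1 := by omega
  have h4 : q ^ 2 * 7 * (q ^ 2 + 1) ≤ q ^ 2 * (q - 1) * (q ^ 2 + 1) :=
    Nat.mul_le_mul_right _ (Nat.mul_le_mul_left _ h3)
  have h5 : 0 < q ^ 2 := by positivity
  linarith only [h2, h4, _root_.sq_nonneg (↑q : ℤ), _root_.sq_nonneg (↑q ^ 2 : ℤ)]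

theorem false_ree [Finite G] [IsSimpleGroup G] (hbad : Bad G) (h : Lie.IsoRee G) : False := by
  obtain ⟨K, i1, i2, m, hm, hK, ⟨e⟩⟩ := h
  obtain ⟨U, h, n, D⟩ := Cfsg.Agent.ChevalleyStructure.Ree.Data.exists_data hK
  have hs : IsSimpleGroup ↥(Cfsg.Lie.twistedG2 K (3 ^ m)) := (Cfsg.Agent.S1073.result hm hK).1
  have hfin : Finite ↥(Cfsg.Lie.twistedG2 K (3 ^ m)) := Finite.of_equiv G e.toEquiv
  have h1 := ReeSplit.split hK D
  have hsplit := Transport.split e.symm _ h1
  have : Fact (Nat.Prime 3) := ⟨Nat.prime_three⟩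
  have hcardU : Nat.card (Cfsg.Agent.LieRecognition.ReeSylowThree.uSub D) = 3 ^ (3 * (2 * m + 1)) := by
    rw [Cfsg.Agent.LieRecognition.ReeSylowThree.card_uSub, hK, ← pow_mul, mul_comm]
  obtain ⟨b, hb, -⟩ := rank_one_odd hsplit hbad (by norm_num) (s := e.symm n) (by
    change e.symm '' {n} = _
    rw [Set.image_singleton])
  rw [Subgroup.card_map_of_injective e.symm.injective, hcardU, add_comm] at hb
  have h2 := FixBN.Gates.eq_one_of_pow (by decide) (by norm_num) (by omega) hb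
  omega

/-- **The simple groups of Lie type are not bad.** -/
theorem false_of_lie [Finite G] [IsSimpleGroup G] (hna : ¬ Group.IsSolvable G) (hbad : Bad G) {p : ℕ}
    (hG : IsLieTypeChar p G) : False := by
  have big : ∀ {p : ℕ}, p.Prime → ∀ {l : ℕ} {M : CoxeterMatrix (Fin l)}, 3 ≤ l → HasRGDT p M G → False := by
    intro p hp l M hl h
    have := (rgd_two hna hbad hp (by omega) h).1
    omega
  rcases hG with h | h | h | h | h | h | h | h | h | h | h
  · obtain ⟨F, _, _, _, n, hn, hn2, ⟨e⟩⟩ := h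
    exact false_psl hna hbad (p := p) hn hn2 e
  · obtain ⟨F, _, _, _, m, hm, hm2, ⟨e⟩⟩ := h
    exact false_psp hna hbad (p := p) hm hm2 e
  · obtain ⟨F, _, _, _, n, q, hF, hn, hn2, ⟨e⟩⟩ := h
    exact false_psu hna hbad (p := p) hF hn hn2 e
  · obtain ⟨F, _, _, _, m, hm, hodd, ⟨e⟩⟩ := h
    have : Fact p.Prime := Nodes.RGDClass.fact_prime (F := F)
    have h2 : (2 : F) ≠ 0 := by
      intro h2
      have : CharP F 2 := CharTwo.of_one_ne_zero_of_two_eq_zero one_ne_zero h2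
      obtain ⟨k, -, hk⟩ := FiniteField.card F 2
      rw [hk] at hodd
      exact absurd hodd (by
        rw [Nat.not_odd_iff_even]
        exact (even_two).pow_of_ne_zero k.ne_zero)
    exact big this.out hm ((LieFam.typ_PO_odd h2 (by omega)).of_equiv e.symm)
  · obtain ⟨F, _, _, _, m, hm, ⟨e⟩⟩ := h
    have : Fact p.Prime := Nodes.RGDClass.fact_prime (F := F)
    obtain ⟨n, rfl⟩ : ∃ n, m = n + 3 := ⟨m - 3, by omega⟩
    exact big this.out (by omega) ((typ_PO_plus n).of_equiv e.symm)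
  · obtain ⟨F, _, _, _, m, a, b, hm, hab, ⟨e⟩⟩ := h
    have : Fact p.Prime := Nodes.RGDClass.fact_prime (F := F)
    exact big this.out (by omega) ((typ_PO_minus hab (by omega)).of_equiv e.symm)
  · obtain ⟨F, _, _, _, h'⟩ := h
    have : Fact p.Prime := Nodes.RGDClass.fact_prime (F := F)
    have h0 : IsExceptionalChevChar p G := ⟨F, _, _, ‹_›, h'⟩
    rcases h' with ⟨hF, ⟨e⟩⟩ | ⟨⟨e⟩⟩ | ⟨⟨e⟩⟩ | ⟨⟨e⟩⟩ | ⟨⟨e⟩⟩
    · exact false_g2 hna hbad (p := p) hF e
    · exact big this.out (by omega) ((typ_group (M := CoxeterMatrix.F₄)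
        (by simp [Nodes.RGDChev.IsType, Nodes.RGDChev.typeList]) F p).of_equiv e.symm)
    · exact big this.out (by omega) ((typ_group (M := CoxeterMatrix.E₆)
        (by simp [Nodes.RGDChev.IsType, Nodes.RGDChev.typeList]) F p).of_equiv e.symm)
    · exact big this.out (by omega) ((typ_group (M := CoxeterMatrix.E₇)
        (by simp [Nodes.RGDChev.IsType, Nodes.RGDChev.typeList]) F p).of_equiv e.symm)
    · exact big this.out (by omega) ((typ_group (M := CoxeterMatrix.E₈)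
        (by simp [Nodes.RGDChev.IsType, Nodes.RGDChev.typeList]) F p).of_equiv e.symm)
  · obtain ⟨K, _, _, _, q, hq, ⟨hK, ⟨e⟩⟩ | ⟨hK, ⟨e⟩⟩⟩ := h
    · have : Fact p.Prime := Nodes.RGDClass.fact_prime (F := K)
      exact big this.out (by omega) ((typ_twE6 hq hK p).of_equiv e.symm)
    · exact false_tD4 hna hbad (p := p) hq hK e
  · exact false_sz hbad h.2
  · exact false_2F4 hbad h.2
  · exact false_ree hbad h.2

end Cfsg.Agent.H580.LieBadFam

private theorem dce_e8bcc55576f2 : _root_.True := by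
  try have : _root_.True := by simp only [_root_.Cfsg.Agent.LieRecognition.SzMatrix.Good.unip.congr_simp]
  try have : _root_.True := by simp only [_root_.Cfsg.Agent.LieRecognition.SzMatrix.theta.congr_simp]
  exact _root_.True.intro
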